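import Groth.Agent.Lib.ModFlat16.Proj
import Groth.Agent.Lib.KFlat.Transfer
import Mathlib.CategoryTheory.Sites.PreservesLocallyBijective

/-! Restriction commutes with tensor products; restriction preserves K-flatness. -/

universe u

open CategoryTheory CategoryTheory.Limits Opposite MonoidalCategory

set_option linter.style.haveILetI false
set_option backward.isDefEq.respectTransparency false
set_option backward.isDefEq.respectTransparency.types false

namespace Groth.Agent.ModFlat16

open Groth.Agent.KFlat.Site

variable {C : Type u} [SmallCategory C] {J : GrothendieckTopology C} (O : Sheaf J CommRingCat.{u}) (U : C)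

theorem W_preR {P Q : ModSite.preMod O} (f : P ⟶ Q) (hf : KFlat.SiteW.W J O.obj f) :
    KFlat.SiteW.W (J.over U) (O.over U).obj ((preR O U).map f) := by
  obtain ⟨h1, h2⟩ := (J.W_iff_isLocallyBijective _).1 hf
  haveI := h1
  haveI := h2
  exact ((J.over U).W_iff_isLocallyBijective _).2
    ⟨Presheaf.isLocallyInjective_whisker (J.over U) J (Over.forget U) ((PresheafOfModules.toPresheaf _).map f),
      Presheaf.isLocallySurjective_whisker (J.over U) J (Over.forget U) ((PresheafOfModules.toPresheaf _).map f)⟩

/-- Sheafifying first does not change sheafified restrictions. -/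
noncomputable def shRestrUnitIso :
    preR O U ⋙ ModSite.shPre (O.over U) ≅
      (ModSite.shPre O ⋙ ModSite.toPre O) ⋙ (preR O U ⋙ ModSite.shPre (O.over U)) :=
  NatIso.ofComponents (F := preR O U ⋙ ModSite.shPre (O.over U))
    (G := (ModSite.shPre O ⋙ ModSite.toPre O) ⋙ (preR O U ⋙ ModSite.shPre (O.over U)))
    (fun Q => @asIso _ _ _ _ ((preR O U ⋙ ModSite.shPre (O.over U)).map ((adj O).unit.app Q))
      (isIso_shPre_map (O.over U) _ (W_preR O U _ (W_unit O Q))))
    fun {Q Q'} g => by
      change (preR O U ⋙ ModSite.shPre (O.over U)).map g ≫ (preR O U ⋙ ModSite.shPre (O.over U)).map _ =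
        (preR O U ⋙ ModSite.shPre (O.over U)).map _ ≫ (preR O U ⋙ ModSite.shPre (O.over U)).map _
      rw [← CategoryTheory.Functor.map_comp, ← CategoryTheory.Functor.map_comp]
      exact congrArg (preR O U ⋙ ModSite.shPre (O.over U)).map ((adj O).unit.naturality g)

/-- Restriction commutes with sheafification. -/
noncomputable def shRestrIso :
    preR O U ⋙ ModSite.shPre (O.over U) ≅ ModSite.shPre O ⋙ ModSite.restr O U :=
  shRestrUnitIso O U ≪≫
  Functor.isoWhiskerLeft (ModSite.shPre O)
    (Functor.isoWhiskerRight (restrToPre O U).symm (ModSite.shPre (O.over U))) ≪≫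
  Functor.isoWhiskerLeft (ModSite.shPre O ⋙ ModSite.restr O U) (asIso (adj (O.over U)).counit)

/-- Restriction of presheaves commutes with tensor products. -/
noncomputable def preRestrTensor (M : ModSite.preMod O) :
    tensorLeft M ⋙ preR O U ≅ preR O U ⋙ tensorLeft ((preR O U).obj M) :=
  (Functor.Monoidal.commTensorLeft (PresheafOfModules.pushforward₀OfCommRingCat (Over.forget U) O.obj) M).symm

/-- Restriction commutes with tensor products. -/
noncomputable def restrTensorIso (M : ModSite.Mod O) :
    (TS O).obj M ⋙ ModSite.restr O U ≅ ModSite.restr O U ⋙ (TS (O.over U)).obj ((ModSite.restr O U).obj M) :=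
  Functor.isoWhiskerLeft (ModSite.toPre O ⋙ tensorLeft ((ModSite.toPre O).obj M)) (shRestrIso O U).symm ≪≫
  Functor.isoWhiskerLeft (ModSite.toPre O)
    (Functor.isoWhiskerRight (preRestrTensor O U ((ModSite.toPre O).obj M)) (ModSite.shPre (O.over U))) ≪≫
  Functor.isoWhiskerRight (restrToPre O U).symm
    (tensorLeft ((preR O U).obj ((ModSite.toPre O).obj M)) ⋙ ModSite.shPre (O.over U)) ≪≫
  Functor.isoWhiskerLeft (ModSite.restr O U ⋙ ModSite.toPre (O.over U))
    (Functor.isoWhiskerRight ((curriedTensor (ModSite.preMod (O.over U))).mapIso ((restrToPre O U).app M).symm)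
      (ModSite.shPre (O.over U)))

/-- The comparison used for complexes. -/
noncomputable def projη (P : ModSite.Mod (O.over U)) (N : ModSite.Mod O) :
    (ModSite.extZero O U).obj (((TS (O.over U)).obj P).obj ((ModSite.restr O U).obj N)) ≅
      ((TS O).obj ((ModSite.extZero O U).obj P)).obj N :=
  (projRight O U P).app N

theorem projη_eq (P : ModSite.Mod (O.over U)) (N : ModSite.Mod O) :
    (projη O U P N).hom = (projLeft O U N).hom.app P := rfl

instance extZero_preservesColimits : PreservesColimitsOfSize.{0, 0} (ModSite.extZero O U) :=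
  (ModSite.extZeroAdj O U).leftAdjoint_preservesColimits

instance extZero_additive : (ModSite.extZero O U).Additive :=
  haveI := preservesBinaryBiproducts_of_preservesBinaryCoproducts (ModSite.extZero O U)
  Functor.additive_of_preservesBinaryBiproducts _

instance restr_additive : (ModSite.restr O U).Additive :=
  (ModSite.extZeroAdj O U).right_adjoint_additive

theorem natural_projη : KFlat.Natural₂ (TS (O.over U)) (TS O) (𝟭 _) (ModSite.restr O U)
    (ModSite.extZero O U) (𝟭 _) (ModSite.extZero O U) (projη O U) where
  left f Y := by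
    rw [projη_eq, projη_eq]
    exact (projLeft O U Y).hom.naturality f
  right X _ _ g := (projRight O U X).hom.naturality g

theorem acyclic_map_extZero_iff (L : CochainComplex (ModSite.Mod (O.over U)) ℤ) :
    (((ModSite.extZero O U).mapHomologicalComplex (ComplexShape.up ℤ)).obj L).Acyclic ↔ L.Acyclic := by
  haveI := faithful_extZero O U
  haveI := preservesFiniteLimits_extZero O U
  haveI : PreservesFiniteColimits (ModSite.extZero O U) := PreservesColimitsOfSize.preservesFiniteColimits _
  exact forall_congr' fun n => (L.sc n).exact_map_iff_of_faithful (ModSite.extZero O U)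

theorem isKFlat_restr (K : CochainComplex (ModSite.Mod O) ℤ) (hK : ModSite.IsKFlat K) :
    ModSite.IsKFlat (((ModSite.restr O U).mapHomologicalComplex (ComplexShape.up ℤ)).obj K) :=
  (KFlat.Site.isKFlat_iff _).1 fun L hL => (acyclic_map_extZero_iff O U _).1
    (KFlat.acyclic_of_iso ((KFlat.Site.isKFlat_iff _).2 hK _ ((acyclic_map_extZero_iff O U L).2 hL))
      (KFlat.transferIso (TS (O.over U)) (TS O) (𝟭 _) (ModSite.restr O U) (ModSite.extZero O U) (𝟭 _)
        (ModSite.extZero O U) (natural_projη O U) L K).symm)

end Groth.Agent.ModFlat16
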