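import Groth.Agent.Lib.ModFlat16.PreExt
import Groth.Agent.Lib.KFlat.Site
import Groth.Agent.Lib.KFlat.FlatSeq
import Mathlib.CategoryTheory.Adjunction.Restrict
import Mathlib.CategoryTheory.Adjunction.FullyFaithful

/-! Extension by zero of sheaves of modules is exact and faithful. -/

universe u

open CategoryTheory CategoryTheory.Limits Opposite

set_option linter.style.haveILetI false
set_option backward.isDefEq.respectTransparency false
set_option backward.isDefEq.respectTransparency.types false

namespace Groth.Agent.ModFlat16

open Groth.Agent.KFlat.Site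
open Groth.Agent.KFlat.SiteW (PM)

variable {C : Type u} [SmallCategory C] {J : GrothendieckTopology C} (O : Sheaf J CommRingCat.{u}) (U : C)

/-- Restriction of presheaves. -/
noncomputable abbrev preR : ModSite.preMod O ⥤ ModSite.preMod (O.over U) := preRestr O.obj U

/-- Extension of presheaves. -/
noncomputable abbrev preE : ModSite.preMod (O.over U) ⥤ ModSite.preMod O := preExt O.obj U

/-- The adjunction of presheaves. -/
noncomputable abbrev preEAdj : preE O U ⊣ preR O U := preExtAdj O.obj U

/-- Restriction commutes with the inclusion in presheaves. -/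
noncomputable def restrToPre :
    ModSite.restr O U ⋙ ModSite.toPre (O.over U) ≅ ModSite.toPre O ⋙ preR O U :=
  NatIso.ofComponents (fun M => PresheafOfModules.isoMk (fun _ => Iso.refl _))

/-- Presheaves on the slice against sheaves on the base. -/
noncomputable abbrev extAdjPre : preE O U ⋙ ModSite.shPre O ⊣ ModSite.toPre O ⋙ preR O U :=
  (preEAdj O U).comp (adj O)

/-- The inclusion is fully faithful. -/
noncomputable abbrev toPreFF (O : Sheaf J CommRingCat.{u}) : (ModSite.toPre O).FullyFaithful :=
  SheafOfModules.fullyFaithfulForget (ModSite.ringSh O)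

/-- The explicit extension by zero. -/
noncomputable abbrev extFun : ModSite.Mod (O.over U) ⥤ ModSite.Mod O :=
  ModSite.toPre (O.over U) ⋙ preE O U ⋙ ModSite.shPre O

/-- Its adjunction. -/
noncomputable def extFunAdj : extFun O U ⊣ ModSite.restr O U :=
  (extAdjPre O U).restrictFullyFaithful (iC := ModSite.toPre (O.over U)) (iD := 𝟭 _)
    (toPreFF (O.over U)) (Functor.FullyFaithful.id _)
    (Functor.rightUnitor _).symm
    (Functor.leftUnitor _ ≪≫ (restrToPre O U).symm)

/-- Extension by zero is the sheafified presheaf extension. -/
noncomputable def extIso : ModSite.extZero O U ≅ extFun O U :=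
  (ModSite.extZeroAdj O U).leftAdjointUniq (extFunAdj O U)

/-- Extension by zero commutes with sheafification. -/
noncomputable def shExtIso : ModSite.shPre (O.over U) ⋙ ModSite.extZero O U ≅ preE O U ⋙ ModSite.shPre O :=
  (((adj (O.over U)).comp (ModSite.extZeroAdj O U))).leftAdjointUniq
    ((extAdjPre O U).ofNatIsoRight (restrToPre O U).symm)

instance preE_isLeftAdjoint : (preE O U).IsLeftAdjoint := (preEAdj O U).isLeftAdjoint

instance preE_additive : (preE O U).Additive :=
  haveI := preservesBinaryBiproducts_of_preservesBinaryCoproducts (preE O U)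
  Functor.additive_of_preservesBinaryBiproducts _

instance preE_preservesFiniteLimits : PreservesFiniteLimits (preE O U) := by
  haveI : PreservesFiniteColimits (preE O U) := by
    haveI : PreservesColimitsOfSize.{0, 0} (preE O U) :=
      (preEAdj O U).leftAdjoint_preservesColimits
    exact PreservesColimitsOfSize.preservesFiniteColimits _
  rw [(preE O U).preservesFiniteLimits_iff_forall_exact_map_and_mono]
  intro S hS
  haveI := hS.mono_f
  haveI := hS.epi_g
  exact ⟨KFlat.exact_map_of_epi _ hS.exact,
    (preExt_preservesMono (R := O.obj) (U := U)).preserves S.f⟩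

theorem preservesFiniteLimits_extZero : PreservesFiniteLimits (ModSite.extZero O U) :=
  have : PreservesFiniteLimits (ModSite.toPre (O.over U)) := by
    haveI : PreservesLimitsOfSize.{0, 0} (ModSite.toPre (O.over U)) :=
      (adj (O.over U)).rightAdjoint_preservesLimits
    exact PreservesLimitsOfSize.preservesFiniteLimits _
  have : PreservesFiniteLimits (extFun O U) := inferInstance
  preservesFiniteLimits_of_natIso (extIso O U).symm

theorem mono_extAdjPre_unit (X : ModSite.Mod (O.over U)) :
    Mono ((extAdjPre O U).unit.app ((ModSite.toPre (O.over U)).obj X)) := by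
  refine PresheafOfModules.mono_of_injective fun {A} => ?_
  let M := (ModSite.toPre (O.over U)).obj X
  have hW := (J.W_iff_isLocallyBijective _).1 (W_unit O ((preE O U).obj M))
  refine (injective_iff_map_eq_zero (((extAdjPre O U).unit.app M).app A).hom).2 fun x hx => ?_
  have h0 : ((adj O).unit.app ((preE O U).obj M)).app (op A.unop.left)
      (sg (R := O.obj) (U := U) M (V := op A.unop.left) A.unop.hom x) = 0 := hx
  obtain ⟨S, hS, hz⟩ := (KFlat.SiteW.locZero_iff J _ _ _).1 (KFlat.SiteW.locZero_of_app_eq_zero hW.1 h0)
  have hsep : Presheaf.IsSeparated (J.over U) (ModSite.toAb X).obj :=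
    Presheaf.IsSheaf.isSeparated (ModSite.toAb X).property
  refine hsep A.unop _ (J.overEquiv_symm_mem_over A.unop S hS) x 0 fun B g hg => ?_
  rw [Sieve.overEquiv_symm_iff] at hg
  change M.map g.op x = (M.presheaf.map g.op).hom 0
  rw [map_zero]
  have h1 : extRes (R := O.obj) (U := U) M (V := op A.unop.left) (W := op B.left) g.left.op
      (sg (R := O.obj) (U := U) M (V := op A.unop.left) A.unop.hom x) = 0 := hz g.left hg
  rw [extRes_sg] at h1
  have h2 := sg_injective (R := O.obj) (U := U) M _ (h1.trans (map_zero _).symm)
  let b : op (Over.mk (g.left ≫ A.unop.hom)) ⟶ op B :=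
    (Over.homMk (𝟙 B.left) (by simp) : B ⟶ Over.mk (g.left ≫ A.unop.hom)).op
  have hg' : g.op = resHom (U := U) (V := op A.unop.left) (W := op B.left) g.left.op A.unop.hom ≫ b :=
    Quiver.Hom.unop_inj (Over.OverMorphism.ext (Category.id_comp _).symm)
  refine (M.congr_map_apply hg' x).trans ((M.map_comp_apply _ b x).trans ?_)
  exact (congrArg (M.map b) h2).trans (map_zero (M.map b).hom)

instance faithful_extFun : (extFun O U).Faithful where
  map_injective {X Y g h} hgh := by
    haveI := mono_extAdjPre_unit O U Y
    apply (toPreFF (O.over U)).map_injective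
    rw [← cancel_mono ((extAdjPre O U).unit.app ((ModSite.toPre (O.over U)).obj Y))]
    refine ((extAdjPre O U).unit.naturality ((ModSite.toPre (O.over U)).map g)).trans
      (Eq.trans ?_ ((extAdjPre O U).unit.naturality ((ModSite.toPre (O.over U)).map h)).symm)
    exact congrArg (fun z => _ ≫ (ModSite.toPre O ⋙ preR O U).map z) hgh

theorem faithful_extZero : (ModSite.extZero O U).Faithful :=
  Functor.Faithful.of_iso (extIso O U).symm

theorem exact_of_exact_map_extZero (S : ShortComplex (ModSite.Mod (O.over U)))
    [(ModSite.extZero O U).PreservesZeroMorphisms]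
    (h : (S.map (ModSite.extZero O U)).Exact) : S.Exact := by
  haveI := faithful_extZero O U
  haveI := preservesFiniteLimits_extZero O U
  haveI : PreservesFiniteColimits (ModSite.extZero O U) := by
    haveI : PreservesColimitsOfSize.{0, 0} (ModSite.extZero O U) :=
      (ModSite.extZeroAdj O U).leftAdjoint_preservesColimits
    exact PreservesColimitsOfSize.preservesFiniteColimits _
  exact (S.exact_map_iff_of_faithful (ModSite.extZero O U)).1 h

end Groth.Agent.ModFlat16
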