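import Groth.Agent.Lib.KFlat.Site
import Groth.Agent.Lib.KFlat.FlatSeq
import Groth.Agent.S9107
import Mathlib.Algebra.Homology.ShortComplex.SnakeLemma

/-! Permanence properties of flat modules on a ringed site. -/

universe u

open CategoryTheory CategoryTheory.Limits MonoidalCategory

set_option linter.style.haveILetI false
set_option backward.isDefEq.respectTransparency false
set_option backward.isDefEq.respectTransparency.types false

namespace Groth.Agent.ModFlat16

open Groth.Agent.KFlat.Site

variable {C : Type u} [SmallCategory C] {J : GrothendieckTopology C} {O : Sheaf J CommRingCat.{u}}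

/-- tensoring a short exact sequence with flat quotient on the left -/
theorem shortExact_map {S : ShortComplex (ModSite.Mod O)} (hS : S.ShortExact) (h : ModSite.IsFlat S.X₃)
    (M : ModSite.Mod O) : (S.map ((TS O).obj M)).ShortExact := by
  haveI := hS.epi_g
  haveI : Mono ((S.map ((TS O).obj M)).f) := KFlat.mono_map_of_flat (enough O) hS ((isFlat_iff _).2 h) M
  haveI : Epi ((S.map ((TS O).obj M)).g) := inferInstanceAs (Epi (((TS O).obj M).map S.g))
  exact ShortComplex.ShortExact.mk' (KFlat.exact_map_of_epi _ hS.exact) inferInstance inferInstance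

/-- tensoring a short exact sequence with flat quotient on the right -/
theorem shortExact_map_flip {S : ShortComplex (ModSite.Mod O)} (hS : S.ShortExact) (h : ModSite.IsFlat S.X₃)
    (M : ModSite.Mod O) [((TS O).flip.obj M).PreservesZeroMorphisms] : (S.map ((TS O).flip.obj M)).ShortExact :=
  ShortComplex.shortExact_of_iso (ShortComplex.mapNatIso S (flipObjIso O M)) (shortExact_map hS h M)

/-- flatness from monomorphisms on the left -/
theorem isFlat_of_mono {X : ModSite.Mod O} (h : ∀ {A B : ModSite.Mod O} (f : A ⟶ B) [Mono f], Mono (((TS O).obj X).map f)) :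
    ModSite.IsFlat X :=
  (isFlat_iff X).1 (isFlat_of_left ⟨fun f _ => h f⟩)

/-- extensions of flat modules -/
theorem isFlat_X₂ {S : ShortComplex (ModSite.Mod O)} (hS : S.ShortExact) (h₁ : ModSite.IsFlat S.X₁)
    (h₃ : ModSite.IsFlat S.X₃) : ModSite.IsFlat S.X₂ := by
  refine isFlat_of_mono fun {A B} f _ => ?_
  haveI := hS.mono_f
  haveI h1 := ((isFlat_iff _).2 h₁).left
  haveI h3 := ((isFlat_iff _).2 h₃).left
  have hA := shortExact_map hS h₃ A
  have hB := shortExact_map hS h₃ B
  let φ : S.map ((TS O).obj A) ⟶ S.map ((TS O).obj B) :=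
    { τ₁ := ((TS O).map f).app S.X₁
      τ₂ := ((TS O).map f).app S.X₂
      τ₃ := ((TS O).map f).app S.X₃
      comm₁₂ := (((TS O).map f).naturality S.f).symm
      comm₂₃ := (((TS O).map f).naturality S.g).symm }
  have key : ∀ (X : ModSite.Mod O), Mono (((TS O).map f).app X) ↔ Mono (((TS O).obj X).map f) := fun X =>
    ((MorphismProperty.monomorphisms _).arrow_mk_iso_iff
      (Arrow.isoMk ((flipObjIso O X).app A) ((flipObjIso O X).app B)
        ((flipObjIso O X).hom.naturality f).symm)).symm
  haveI : Mono φ.τ₁ := (key _).2 inferInstance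
  haveI : Mono φ.τ₃ := (key _).2 inferInstance
  haveI := hA.mono_f
  haveI := hB.mono_f
  exact (key _).1 (ShortComplex.mono_τ₂_of_exact_of_mono φ hA.exact)

/-- kernels of epimorphisms between flat modules -/
theorem isFlat_X₁ {S : ShortComplex (ModSite.Mod O)} (hS : S.ShortExact) (h₂ : ModSite.IsFlat S.X₂)
    (h₃ : ModSite.IsFlat S.X₃) : ModSite.IsFlat S.X₁ :=
  (isFlat_iff _).1 (KFlat.isFlat_X₁ (enough O) hS ((isFlat_iff _).2 h₂) ((isFlat_iff _).2 h₃))

/-- exact colimits of flat modules -/
theorem isFlat_colimit {I : Type u} [SmallCategory I] [HasExactColimitsOfShape I (ModSite.Mod O)]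
    {F : I ⥤ ModSite.Mod O} {c : Cocone F} (hc : IsColimit c) (h : ∀ i, ModSite.IsFlat (F.obj i)) :
    ModSite.IsFlat c.pt := by
  refine isFlat_of_mono fun {A B} f _ => ?_
  refine MorphismProperty.colimitsOfShape_le (W := MorphismProperty.monomorphisms (ModSite.Mod O)) (J := I) _
    (MorphismProperty.colimitsOfShape.mk' (F ⋙ (TS O).flip.obj A) (F ⋙ (TS O).flip.obj B)
      (((TS O).flip.obj A).mapCocone c) (((TS O).flip.obj B).mapCocone c)
      (isColimitOfPreserves _ hc) (isColimitOfPreserves _ hc)
      (Functor.whiskerLeft F ((TS O).flip.map f)) (fun j => ?_) _ fun j => ?_)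
  · have := ((isFlat_iff _).2 (h j)).left
    exact MorphismProperty.monomorphisms.infer_property (((TS O).obj (F.obj j)).map f)
  · exact (((TS O).map (c.ι.app j)).naturality f).symm

/-- tensor products of flat modules -/
theorem isFlat_tensor {G F : ModSite.Mod O} (hG : ModSite.IsFlat G) (hF : ModSite.IsFlat F) :
    ModSite.IsFlat (((TS O).obj G).obj F) := by
  refine isFlat_of_mono fun {A B} f _ => ?_
  haveI := ((isFlat_iff _).2 hG).left
  haveI := ((isFlat_iff _).2 hF).left
  let g := ((TS O).obj G).map (((TS O).obj F).map f)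
  haveI : Mono g := inferInstance
  let P := (ModSite.toPre O).obj G ⊗ (ModSite.toPre O).obj F
  haveI : ∀ X : ModSite.Mod O, IsIso ((ModSite.shPre O).map ((adj O).unit.app P ▷ (ModSite.toPre O).obj X)) :=
    fun X => isIso_shPre_map O _ (KFlat.SiteW.W.whiskerRight _ (W_unit O P))
  let e : ∀ X : ModSite.Mod O, ((TS O).obj (((TS O).obj G).obj F)).obj X ≅ ((TS O).obj G).obj (((TS O).obj F).obj X) :=
    fun X => (asIso ((ModSite.shPre O).map ((adj O).unit.app P ▷ (ModSite.toPre O).obj X))).symm ≪≫
      (ModSite.shPre O).mapIso (α_ _ _ _) ≪≫ ((shTensorIso O G).app ((ModSite.toPre O).obj F ⊗ (ModSite.toPre O).obj X)).symm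
  refine ((MorphismProperty.monomorphisms _).arrow_mk_iso_iff (Arrow.isoMk (e A) (e B) ?_)).2
    (MorphismProperty.monomorphisms.infer_property g)
  show (e A).hom ≫ g = (ModSite.shPre O).map (_ ◁ (ModSite.toPre O).map f) ≫ (e B).hom
  have h1 : (shTensorIso O G).inv.app ((ModSite.toPre O).obj F ⊗ (ModSite.toPre O).obj A) ≫ g =
      (ModSite.shPre O).map ((ModSite.toPre O).obj G ◁ ((ModSite.toPre O).obj F ◁ (ModSite.toPre O).map f)) ≫
        (shTensorIso O G).inv.app ((ModSite.toPre O).obj F ⊗ (ModSite.toPre O).obj B) :=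
    ((shTensorIso O G).inv.naturality ((ModSite.toPre O).obj F ◁ (ModSite.toPre O).map f)).symm
  simp only [e, Iso.trans_hom, Iso.symm_hom, Iso.app_inv, Functor.mapIso_hom, Category.assoc]
  rw [← cancel_epi ((ModSite.shPre O).map ((adj O).unit.app P ▷ (ModSite.toPre O).obj A))]
  simp only [asIso_inv, IsIso.hom_inv_id_assoc]
  erw [h1]
  have hx : (ModSite.shPre O).map ((adj O).unit.app P ▷ (ModSite.toPre O).obj A) ≫
      (ModSite.shPre O).map ((ModSite.toPre O).obj (((TS O).obj G).obj F) ◁ (ModSite.toPre O).map f) =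
      (ModSite.shPre O).map (P ◁ (ModSite.toPre O).map f) ≫
        (ModSite.shPre O).map ((adj O).unit.app P ▷ (ModSite.toPre O).obj B) :=
    ((ModSite.shPre O).map_comp _ _).symm.trans
      ((congrArg (ModSite.shPre O).map (whisker_exchange _ _).symm).trans ((ModSite.shPre O).map_comp _ _))
  refine Eq.trans ?_ (Eq.trans (congrArg (· ≫ inv _ ≫ _) hx) (Category.assoc _ _ _)).symm |>.trans (Category.assoc _ _ _)
  refine Eq.trans ?_ (congrArg (_ ≫ ·) (IsIso.hom_inv_id_assoc _ _)).symm
  rw [← Functor.map_comp_assoc, ← Functor.map_comp_assoc]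
  exact congrArg (fun z => (ModSite.shPre O).map z ≫ _) (associator_naturality_right _ _ _).symm

end Groth.Agent.ModFlat16
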