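import Groth.Agent.Lib.ModFlat16.PreProj
import Groth.Agent.Lib.ModFlat16.ExtZero
import Groth.Agent.Lib.ModFlat16.Basic

/-! The projection formula for extension by zero of sheaves of modules, and flatness. -/

universe u

open CategoryTheory CategoryTheory.Limits Opposite MonoidalCategory

set_option linter.style.haveILetI false
set_option backward.isDefEq.respectTransparency false
set_option backward.isDefEq.respectTransparency.types false

namespace Groth.Agent.ModFlat16

open Groth.Agent.KFlat.Site

variable {C : Type u} [SmallCategory C] {J : GrothendieckTopology C} (O : Sheaf J CommRingCat.{u}) (U : C)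

/-- Sheafifying the left factor first. -/
noncomputable def shUnitLeftIso (Q : ModSite.preMod O) :
    tensorLeft Q ⋙ ModSite.shPre O ≅
      tensorLeft ((ModSite.toPre O).obj ((ModSite.shPre O).obj Q)) ⋙ ModSite.shPre O :=
  NatIso.ofComponents
    (fun N => @asIso _ _ _ _ ((ModSite.shPre O).map ((adj O).unit.app Q ▷ N))
      (isIso_shPre_map O _ (KFlat.SiteW.W.whiskerRight N (W_unit O Q))))
    fun {N N'} g => by
      change (ModSite.shPre O).map _ ≫ (ModSite.shPre O).map _ =
        (ModSite.shPre O).map _ ≫ (ModSite.shPre O).map _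
      rw [← Functor.map_comp, ← Functor.map_comp]
      exact congrArg (ModSite.shPre O).map (whisker_exchange _ _)

/-- Sheafifying the variable left factor first. -/
noncomputable def shUnitRightIso (N : ModSite.preMod O) :
    tensorRight N ⋙ ModSite.shPre O ≅
      ModSite.shPre O ⋙ ModSite.toPre O ⋙ tensorRight N ⋙ ModSite.shPre O :=
  NatIso.ofComponents
    (fun Q => @asIso _ _ _ _ ((ModSite.shPre O).map ((adj O).unit.app Q ▷ N))
      (isIso_shPre_map O _ (KFlat.SiteW.W.whiskerRight N (W_unit O Q))))
    fun {Q Q'} g => by
      change (ModSite.shPre O).map _ ≫ (ModSite.shPre O).map _ =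
        (ModSite.shPre O).map _ ≫ (ModSite.shPre O).map _
      rw [← Functor.map_comp, ← Functor.map_comp]
      refine congrArg (ModSite.shPre O).map ?_
      change g ▷ N ≫ (adj O).unit.app Q' ▷ N =
        (adj O).unit.app Q ▷ N ≫ (ModSite.toPre O).map ((ModSite.shPre O).map g) ▷ N
      rw [← comp_whiskerRight, ← comp_whiskerRight]
      exact congrArg (fun z => z ▷ N) ((adj O).unit.naturality g)

/-- The presheaf projection formula, natural in the module on the base. -/
noncomputable def preProjIsoRight (P : ModSite.preMod (O.over U)) :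
    preR O U ⋙ tensorLeft P ⋙ preE O U ≅ tensorLeft ((preE O U).obj P) :=
  NatIso.ofComponents (fun N => preProj (R := O.obj) (U := U) P N)
    fun g => preProj_natural_right (R := O.obj) (U := U) P g

/-- The presheaf projection formula, natural in the module on the slice. -/
noncomputable def preProjIsoLeft (N : ModSite.preMod O) :
    tensorRight ((preR O U).obj N) ⋙ preE O U ≅ preE O U ⋙ tensorRight N :=
  NatIso.ofComponents (fun P => preProj (R := O.obj) (U := U) P N)
    fun g => preProj_natural_left (R := O.obj) (U := U) g N

/-- The projection formula, natural in the module on the base. -/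
noncomputable def projRight (P : ModSite.Mod (O.over U)) :
    ModSite.restr O U ⋙ (TS (O.over U)).obj P ⋙ ModSite.extZero O U ≅
      (TS O).obj ((ModSite.extZero O U).obj P) :=
  Functor.isoWhiskerLeft (ModSite.restr O U ⋙ ModSite.toPre (O.over U) ⋙
      tensorLeft ((ModSite.toPre (O.over U)).obj P)) (shExtIso O U) ≪≫
  Functor.isoWhiskerRight (restrToPre O U)
      (tensorLeft ((ModSite.toPre (O.over U)).obj P) ⋙ preE O U ⋙ ModSite.shPre O) ≪≫
  Functor.isoWhiskerLeft (ModSite.toPre O)
      (Functor.isoWhiskerRight (preProjIsoRight O U ((ModSite.toPre (O.over U)).obj P)) (ModSite.shPre O)) ≪≫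
  Functor.isoWhiskerLeft (ModSite.toPre O) (shUnitLeftIso O ((preE O U).obj ((ModSite.toPre (O.over U)).obj P))) ≪≫
  ((TS O).mapIso ((extIso O U).app P)).symm

/-- The projection formula, natural in the module on the slice. -/
noncomputable def projLeft (N : ModSite.Mod O) :
    (TS (O.over U)).flip.obj ((ModSite.restr O U).obj N) ⋙ ModSite.extZero O U ≅
      ModSite.extZero O U ⋙ (TS O).flip.obj N :=
  Functor.isoWhiskerLeft (ModSite.toPre (O.over U) ⋙
      tensorRight ((ModSite.toPre (O.over U)).obj ((ModSite.restr O U).obj N))) (shExtIso O U) ≪≫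
  Functor.isoWhiskerLeft (ModSite.toPre (O.over U))
      (Functor.isoWhiskerRight ((curriedTensor (ModSite.preMod (O.over U))).flip.mapIso
        ((restrToPre O U).app N)) (preE O U ⋙ ModSite.shPre O)) ≪≫
  Functor.isoWhiskerLeft (ModSite.toPre (O.over U))
      (Functor.isoWhiskerRight (preProjIsoLeft O U ((ModSite.toPre O).obj N)) (ModSite.shPre O)) ≪≫
  Functor.isoWhiskerLeft (ModSite.toPre (O.over U) ⋙ preE O U) (shUnitRightIso O ((ModSite.toPre O).obj N)) ≪≫
  Functor.isoWhiskerRight (extIso O U).symm ((TS O).flip.obj N)

theorem isFlat_restr (M : ModSite.Mod O) (hM : ModSite.IsFlat M) : ModSite.IsFlat ((ModSite.restr O U).obj M) := by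
  haveI := faithful_extZero O U
  haveI := preservesFiniteLimits_extZero O U
  haveI := ((KFlat.Site.isFlat_iff _).2 hM).right
  refine isFlat_of_mono fun {A B} f _ => ?_
  haveI hm : Mono (((TS (O.over U)).flip.obj ((ModSite.restr O U).obj M) ⋙ ModSite.extZero O U).map f) := by
    refine ((MorphismProperty.monomorphisms _).arrow_mk_iso_iff (Arrow.isoMk ((projLeft O U M).app A)
      ((projLeft O U M).app B) ((projLeft O U M).hom.naturality f).symm)).2 ?_
    exact MorphismProperty.monomorphisms.infer_property
      (((TS O).flip.obj M).map ((ModSite.extZero O U).map f))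
  haveI : Mono (((TS (O.over U)).flip.obj ((ModSite.restr O U).obj M)).map f) :=
    (ModSite.extZero O U).mono_of_mono_map hm
  exact ((MorphismProperty.monomorphisms _).arrow_mk_iso_iff
    (Arrow.isoMk ((flipObjIso (O.over U) _).app A) ((flipObjIso (O.over U) _).app B)
      ((flipObjIso (O.over U) ((ModSite.restr O U).obj M)).hom.naturality f).symm)).2
    (MorphismProperty.monomorphisms.infer_property
      (((TS (O.over U)).flip.obj ((ModSite.restr O U).obj M)).map f))

theorem isFlat_extZero (M : ModSite.Mod (O.over U)) (hM : ModSite.IsFlat M) :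
    ModSite.IsFlat ((ModSite.extZero O U).obj M) := by
  haveI := preservesFiniteLimits_extZero O U
  haveI := ((KFlat.Site.isFlat_iff _).2 hM).left
  refine isFlat_of_mono fun {A B} f _ => ?_
  refine ((MorphismProperty.monomorphisms _).arrow_mk_iso_iff (Arrow.isoMk ((projRight O U M).app A)
    ((projRight O U M).app B) ((projRight O U M).hom.naturality f).symm)).1 ?_
  haveI : (ModSite.restr O U).PreservesMonomorphisms :=
    haveI : PreservesLimitsOfSize.{0, 0} (ModSite.restr O U) :=
      (ModSite.extZeroAdj O U).rightAdjoint_preservesLimits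
    inferInstance
  exact MorphismProperty.monomorphisms.infer_property
    ((ModSite.extZero O U).map (((TS (O.over U)).obj M).map ((ModSite.restr O U).map f)))

/-- The structure sheaf is a unit for the tensor product. -/
noncomputable def unitTensorIso : (TS O).obj (SheafOfModules.unit (ModSite.ringSh O)) ≅ 𝟭 _ :=
  Functor.isoWhiskerLeft (ModSite.toPre O)
    (Functor.isoWhiskerRight (leftUnitorNatIso (ModSite.preMod O)) (ModSite.shPre O)) ≪≫
  asIso (adj O).counit

theorem isFlat_unit : ModSite.IsFlat (SheafOfModules.unit (ModSite.ringSh O)) := by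
  refine isFlat_of_mono fun {A B} f hf => ?_
  exact ((MorphismProperty.monomorphisms _).arrow_mk_iso_iff (Arrow.isoMk ((unitTensorIso O).app A)
    ((unitTensorIso O).app B) ((unitTensorIso O).hom.naturality f).symm)).2 hf

theorem isFlat_freeOn : ModSite.IsFlat (ModSite.freeOn O U) :=
  isFlat_extZero O U _ (isFlat_unit (O.over U))

end Groth.Agent.ModFlat16
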