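import Groth.Agent.Lib.KFlat.Site
import Mathlib.CategoryTheory.Sites.LocallyBijective
import Mathlib.CategoryTheory.Generator.Basic

/-! The modules `j_{X!} O_X` for a topologically generating family generate. -/

universe u

open CategoryTheory CategoryTheory.Limits Opposite

set_option linter.style.haveILetI false
set_option backward.isDefEq.respectTransparency false
set_option backward.isDefEq.respectTransparency.types false

namespace Groth.Agent.ModFlat16

variable {C : Type u} [SmallCategory C] {J : GrothendieckTopology C} (O : Sheaf J CommRingCat.{u})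

/-- The final object of a slice. -/
abbrev topOver (X : C) : (Over X)ᵒᵖ := op (Over.mk (𝟙 X))

/-- The arrow from the final object. -/
def fromTop {X : C} (A : (Over X)ᵒᵖ) : topOver X ⟶ A :=
  (Over.homMk A.unop.hom (Category.comp_id _) : A.unop ⟶ Over.mk (𝟙 X)).op

theorem fromTop_unique {X : C} {A : (Over X)ᵒᵖ} (a : topOver X ⟶ A) : a = fromTop A :=
  Quiver.Hom.unop_inj (Over.OverMorphism.ext ((Category.comp_id _).symm.trans (Over.w a.unop)))

/-- Sections of a module on a slice are values at the final object. -/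
noncomputable def sectionsEquivTop {X : C} (N : ModSite.Mod (O.over X)) : N.sections ≃ N.val.obj (topOver X) where
  toFun s := s.val (topOver X)
  invFun x := PresheafOfModules.sectionsMk (fun A => N.val.map (fromTop A) x) fun A B f => by
    rw [← N.val.map_comp_apply]
    exact N.val.congr_map_apply (fromTop_unique _) x
  left_inv s := PresheafOfModules.sections_ext _ _ fun A => PresheafOfModules.sections_property s (fromTop A)
  right_inv x := by
    show N.val.map (fromTop (topOver X)) x = x
    rw [N.val.congr_map_apply (fromTop_unique (𝟙 _)).symm x, N.val.map_id]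
    rfl

/-- Maps out of `j_{X!} O_X` are sections at `X`. -/
noncomputable def freeOnHom (X : C) (M : ModSite.Mod O) :
    (ModSite.freeOn O X ⟶ M) ≃ M.val.obj (op X) :=
  ((ModSite.extZeroAdj O X).homEquiv _ _).trans
    ((SheafOfModules.unitHomEquiv _).trans (sectionsEquivTop O ((ModSite.restr O X).obj M)))

theorem freeOnHom_comp {X : C} {M N : ModSite.Mod O} (h : ModSite.freeOn O X ⟶ M) (f : M ⟶ N) :
    freeOnHom O X N (h ≫ f) = f.val.app (op X) (freeOnHom O X M h) := by
  simp only [freeOnHom, Equiv.trans_apply]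
  rw [Adjunction.homEquiv_naturality_right, SheafOfModules.unitHomEquiv_comp_apply]
  rfl

variable {O} (G : Set C)
  (hG : ∀ X : C, ∃ (ι : Type u) (Y : ι → C) (f : ∀ i, Y i ⟶ X), Sieve.ofArrows Y f ∈ J X ∧ ∀ i, Y i ∈ G)

include hG in
theorem hom_ext_of_generating {M N : ModSite.Mod O} {f g : M ⟶ N}
    (h : ∀ Y ∈ G, ∀ x : M.val.obj (op Y), f.val.app (op Y) x = g.val.app (op Y) x) : f = g := by
  apply SheafOfModules.hom_ext
  ext U x
  obtain ⟨ι, Y, p, hp, hY⟩ := hG U.unop
  refine (Presheaf.IsSheaf.isSeparated (ModSite.toAb N).property) U.unop _ hp _ _ fun V q hq => ?_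
  obtain ⟨W, a, b, ⟨i⟩, rfl⟩ := hq
  change N.val.map (a ≫ p i).op (f.val.app U x) = N.val.map (a ≫ p i).op (g.val.app U x)
  rw [op_comp, N.val.map_comp_apply, N.val.map_comp_apply]
  exact congrArg (N.val.map a.op) ((PresheafOfModules.naturality_apply f.val (p i).op x).symm.trans
    ((h _ (hY i) _).trans (PresheafOfModules.naturality_apply g.val (p i).op x)))

include hG in
theorem isIso_of_generating {M N : ModSite.Mod O} (f : M ⟶ N)
    (h : ∀ Y ∈ G, Function.Bijective (f.val.app (op Y))) : IsIso f := by
  haveI : IsIso ((SheafOfModules.toSheaf (ModSite.ringSh O)).map f) := by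
    refine (Sheaf.isLocallyBijective_iff_isIso (A := AddCommGrpCat.{u}) _).1 ?_
    refine ⟨⟨fun {U} x y hxy => ?_⟩, ⟨fun {U} s => ?_⟩⟩
    · change M.val.obj U at x y
      obtain ⟨ι, Y, p, hp, hY⟩ := hG U.unop
      refine J.superset_covering ?_ hp
      rintro V q ⟨W, a, b, ⟨i⟩, rfl⟩
      change M.val.map (a ≫ p i).op x = M.val.map (a ≫ p i).op y
      rw [op_comp, M.val.map_comp_apply, M.val.map_comp_apply]
      refine congrArg _ ((h _ (hY i)).1 ?_)
      rw [PresheafOfModules.naturality_apply, PresheafOfModules.naturality_apply]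
      exact congrArg _ hxy
    · change N.val.obj (op U) at s
      obtain ⟨ι, Y, p, hp, hY⟩ := hG U
      refine J.superset_covering ?_ hp
      rintro V q ⟨W, a, b, ⟨i⟩, rfl⟩
      obtain ⟨t, ht⟩ := (h _ (hY i)).2 (N.val.map (p i).op s)
      refine ⟨M.val.map a.op t, ?_⟩
      change f.val.app (op V) (M.val.map a.op t) = N.val.map (a ≫ p i).op s
      rw [PresheafOfModules.naturality_apply, ht, op_comp, N.val.map_comp_apply]
  haveI : IsIso ((SheafOfModules.forget (ModSite.ringSh O)).map f) := by
    haveI : IsIso ((PresheafOfModules.toPresheaf _).map f.val) :=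
      inferInstanceAs (IsIso ((sheafToPresheaf _ _).map ((SheafOfModules.toSheaf (ModSite.ringSh O)).map f)))
    exact isIso_of_reflects_iso f.val (PresheafOfModules.toPresheaf _)
  exact isIso_of_reflects_iso f (SheafOfModules.forget (ModSite.ringSh O))

variable (O) in
include hG in
theorem isSeparating_freeOn : (ObjectProperty.ofObj fun X : G => ModSite.freeOn O (X : C)).IsSeparating := by
  intro M N f g h
  refine hom_ext_of_generating G hG fun Y hY x => ?_
  have h1 := h _ (ObjectProperty.ofObj_apply (fun X : G => ModSite.freeOn O (X : C)) ⟨Y, hY⟩)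
    ((freeOnHom O Y M).symm x)
  have h2 := congrArg (freeOnHom O Y N) h1
  rwa [freeOnHom_comp, freeOnHom_comp, Equiv.apply_symm_apply] at h2

variable (O) in
include hG in
theorem isDetecting_freeOn : (ObjectProperty.ofObj fun X : G => ModSite.freeOn O (X : C)).IsDetecting := by
  intro M N f h
  refine isIso_of_generating G hG f fun Y hY => ?_
  have h1 := h _ (ObjectProperty.ofObj_apply (fun X : G => ModSite.freeOn O (X : C)) ⟨Y, hY⟩)
  refine ⟨fun x y hxy => ?_, fun s => ?_⟩
  · obtain ⟨h', -, hu⟩ := h1 ((freeOnHom O Y M).symm x ≫ f)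
    have hx := hu _ rfl
    have hy := hu ((freeOnHom O Y M).symm y) ((freeOnHom O Y N).injective (by
      rw [freeOnHom_comp, freeOnHom_comp, Equiv.apply_symm_apply, Equiv.apply_symm_apply]
      exact hxy.symm))
    exact (freeOnHom O Y M).symm.injective (hx.trans hy.symm)
  · obtain ⟨h', hh, -⟩ := h1 ((freeOnHom O Y N).symm s)
    refine ⟨freeOnHom O Y M h', ?_⟩
    rw [← freeOnHom_comp, hh, Equiv.apply_symm_apply]

end Groth.Agent.ModFlat16
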