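import Groth.Agent.Lib.ModFlat16.LocGen

/-! Modules of finite type and of finite presentation, on elements. -/

set_option autoImplicit false
set_option linter.style.haveILetI false
set_option linter.unusedSectionVars false
set_option backward.isDefEq.respectTransparency false
set_option backward.isDefEq.respectTransparency.types false

universe u

open CategoryTheory CategoryTheory.Limits Opposite

noncomputable section

namespace Groth.Agent.ModFlat16

variable {C : Type u} [SmallCategory C] {J : GrothendieckTopology C} {O : Sheaf J CommRingCat.{u}}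
  {M N P : ModSite.Mod O}

/-- The sections generate over the slice. -/
abbrev Gens (M : ModSite.Mod O) (U : C) {ι : Type u} [Fintype ι] (s : ι → ModSite.sect M U) : Prop :=
  TGens (N := (ModSite.restr O U).obj M) (fun i => (s i : ModSite.sect ((ModSite.restr O U).obj M) (Over.mk (𝟙 U))))

/-- The relations generate over the slice. -/
abbrev Rels (M : ModSite.Mod O) (U : C) {ι κ : Type u} [Fintype ι] [Fintype κ] (s : ι → ModSite.sect M U)
    (R : κ → ι → O.obj.obj (op U)) : Prop :=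
  TRels (N := (ModSite.restr O U).obj M) (fun i => (s i : ModSite.sect ((ModSite.restr O U).obj M) (Over.mk (𝟙 U))))
    (fun r i => (R r i : (O.over U).obj.obj (op (Over.mk (𝟙 U)))))

theorem gens_apply {U : C} {ι : Type u} [Fintype ι] {s : ι → ModSite.sect M U} (hs : Gens M U s) {V : C} (k : V ⟶ U)
    (x : ModSite.sect M V) :
    ∃ S ∈ J V, ∀ ⦃W : C⦄ (l : W ⟶ V), S l →
      ∃ c : ι → O.obj.obj (op W), smap M l x = ∑ i, c i • smap M (l ≫ k) (s i) := by
  obtain ⟨S, hS, h⟩ := hs (Over.mk k) x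
  exact ⟨S, hS, fun W l hl => h (Over.homMk l : Over.mk (l ≫ k) ⟶ Over.mk k) hl⟩

theorem gens_mk {U : C} {ι : Type u} [Fintype ι] (s : ι → ModSite.sect M U)
    (h : ∀ {V : C} (k : V ⟶ U) (x : ModSite.sect M V), ∃ S ∈ J V, ∀ ⦃W : C⦄ (l : W ⟶ V), S l →
      ∃ c : ι → O.obj.obj (op W), smap M l x = ∑ i, c i • smap M (l ≫ k) (s i)) : Gens M U s := by
  intro A x
  obtain ⟨S, hS, h'⟩ := h A.hom x
  refine ⟨S, hS, fun A' a ha => ?_⟩
  obtain ⟨c, hc⟩ := h' a.left ha
  refine ⟨c, hc.trans (Finset.sum_congr rfl fun i _ => congrArg (c i • ·) ?_)⟩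
  exact congrArg (fun z => smap M z (s i)) (Over.w a)

theorem rels_apply {U : C} {ι κ : Type u} [Fintype ι] [Fintype κ] {s : ι → ModSite.sect M U}
    {R : κ → ι → O.obj.obj (op U)} (h : Rels M U s R) {V : C} (k : V ⟶ U) (c : ι → O.obj.obj (op V))
    (hc : ∑ i, c i • smap M k (s i) = 0) :
    ∃ S ∈ J V, ∀ ⦃W : C⦄ (l : W ⟶ V), S l →
      ∃ d : κ → O.obj.obj (op W), ∀ i, rmap O l (c i) = ∑ r, d r * rmap O (l ≫ k) (R r i) := by
  obtain ⟨S, hS, h'⟩ := h.2 (Over.mk k) c hc
  exact ⟨S, hS, fun W l hl => h' (Over.homMk l : Over.mk (l ≫ k) ⟶ Over.mk k) hl⟩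

theorem rels_mk {U : C} {ι κ : Type u} [Fintype ι] [Fintype κ] (s : ι → ModSite.sect M U)
    (R : κ → ι → O.obj.obj (op U)) (h0 : ∀ r, ∑ i, R r i • s i = 0)
    (h : ∀ {V : C} (k : V ⟶ U) (c : ι → O.obj.obj (op V)), ∑ i, c i • smap M k (s i) = 0 →
      ∃ S ∈ J V, ∀ ⦃W : C⦄ (l : W ⟶ V), S l →
        ∃ d : κ → O.obj.obj (op W), ∀ i, rmap O l (c i) = ∑ r, d r * rmap O (l ≫ k) (R r i)) :
    Rels M U s R := by
  refine ⟨h0, fun A c hc => ?_⟩
  obtain ⟨S, hS, h'⟩ := h A.hom c hc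
  refine ⟨S, hS, fun A' a ha => ?_⟩
  obtain ⟨d, hd⟩ := h' a.left ha
  exact ⟨d, fun i => (hd i).trans (Finset.sum_congr rfl fun r _ =>
    congrArg (fun z => d r * rmap O z (R r i)) (Over.w a))⟩

theorem gens_smap {U U' : C} (g : U' ⟶ U) {ι : Type u} [Fintype ι] {s : ι → ModSite.sect M U} (hs : Gens M U s) :
    Gens M U' fun i => smap M g (s i) := by
  refine gens_mk _ fun {V} k x => ?_
  obtain ⟨S, hS, h⟩ := gens_apply hs (k ≫ g) x
  refine ⟨S, hS, fun W l hl => ?_⟩
  obtain ⟨c, hc⟩ := h l hl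
  exact ⟨c, hc.trans (Finset.sum_congr rfl fun i _ => by rw [← Category.assoc, smap_comp g])⟩

theorem rels_smap {U U' : C} (g : U' ⟶ U) {ι κ : Type u} [Fintype ι] [Fintype κ] {s : ι → ModSite.sect M U}
    {R : κ → ι → O.obj.obj (op U)} (h : Rels M U s R) :
    Rels M U' (fun i => smap M g (s i)) fun r i => rmap O g (R r i) := by
  refine rels_mk _ _ (fun r => ?_) fun {V} k c hc => ?_
  · have := congrArg (smap M g) (h.1 r)
    rw [map_zero] at this
    exact ((map_sum (smap M g) _ _).trans (Finset.sum_congr rfl fun i _ => smap_smul g _ _)).symm.trans this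
  · obtain ⟨S, hS, h'⟩ := rels_apply h (k ≫ g) c (by
      refine Eq.trans (Finset.sum_congr rfl fun i _ => ?_) hc
      rw [smap_comp g])
    refine ⟨S, hS, fun W l hl => ?_⟩
    obtain ⟨d, hd⟩ := h' l hl
    exact ⟨d, fun i => (hd i).trans (Finset.sum_congr rfl fun r _ => by rw [← Category.assoc, rmap_comp g])⟩

/-- A property holds locally. -/
def Covd (J : GrothendieckTopology C) (Q : C → Prop) : Prop :=
  ∀ X, ∃ S ∈ J X, ∀ ⦃U : C⦄ (k : U ⟶ X), S k → Q U

theorem Covd.and {Q Q' : C → Prop} (hQ : Covd J Q) (hQ' : Covd J Q')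
    (hres : ∀ ⦃U U' : C⦄ (_ : U' ⟶ U), Q U → Q U') : Covd J fun U => Q U ∧ Q' U := by
  intro X
  obtain ⟨S, hS, h⟩ := hQ X
  have hk : ∀ ⦃U : C⦄ (k : U ⟶ X), S k → ∃ T ∈ J U, ∀ ⦃U' : C⦄ (l : U' ⟶ U), T l → Q' U' := fun U _ _ => hQ' U
  choose T hT hT' using hk
  refine ⟨Sieve.bind S.arrows T, J.bind_covering hS fun U k hk => hT k hk, ?_⟩
  rintro U' _ ⟨U, l, k, hk, hl, rfl⟩
  exact ⟨hres l (h k hk), hT' k hk l hl⟩

theorem Covd.refine' {Q Q' : C → Prop} (hQ : Covd J Q)
    (h : ∀ U, Q U → ∃ T ∈ J U, ∀ ⦃U' : C⦄ (l : U' ⟶ U), T l → Q' U') : Covd J Q' := by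
  intro X
  obtain ⟨S, hS, hSQ⟩ := hQ X
  choose T hT hT' using fun U (k : U ⟶ X) (hk : S k) => h U (hSQ k hk)
  refine ⟨Sieve.bind S.arrows fun U k hk => T U k hk, J.bind_covering hS fun U k hk => hT U k hk, ?_⟩
  rintro U' _ ⟨U, l, k, hk, hl, rfl⟩
  exact hT' U k hk l hl

/-- Finitely generated over an object. -/
def HasGens (M : ModSite.Mod O) (U : C) : Prop :=
  ∃ (ι : Type u) (_ : Fintype ι) (s : ι → ModSite.sect M U), Gens M U s

/-- Finitely presented over an object. -/
def HasPres (M : ModSite.Mod O) (U : C) : Prop :=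
  ∃ (ι κ : Type u) (_ : Fintype ι) (_ : Fintype κ) (s : ι → ModSite.sect M U) (R : κ → ι → O.obj.obj (op U)),
    Gens M U s ∧ Rels M U s R

theorem HasGens.res {U U' : C} (g : U' ⟶ U) : HasGens M U → HasGens M U'
  | ⟨ι, hι, _, hs⟩ => ⟨ι, hι, _, gens_smap g hs⟩

theorem HasPres.res {U U' : C} (g : U' ⟶ U) : HasPres M U → HasPres M U'
  | ⟨ι, κ, hι, hκ, _, _, hs, hR⟩ => ⟨ι, κ, hι, hκ, _, _, gens_smap g hs, rels_smap g hR⟩

theorem covd_hasGens [SheafOfModules.IsFiniteType (R := ModSite.ringSh O) M] : Covd J (HasGens M) := by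
  obtain ⟨q, hq⟩ := SheafOfModules.IsFiniteType.exists_localGeneratorsData M
  intro X
  refine ⟨Sieve.ofObjects q.X X, q.coversTop X, ?_⟩
  rintro U k ⟨i, ⟨g⟩⟩
  haveI := (hq.isFiniteType i).finite
  letI := Fintype.ofFinite (q.generators i).I
  exact HasGens.res g ⟨_, inferInstance, _, tgens_of_epi (q.generators i).π⟩

theorem covd_hasPres [SheafOfModules.IsFinitePresentation (R := ModSite.ringSh O) M] : Covd J (HasPres M) := by
  classical
  obtain ⟨q, hq⟩ := SheafOfModules.IsFinitePresentation.exists_quasicoherentData (M := M)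
  intro X
  refine ⟨Sieve.ofObjects q.X X, q.coversTop X, ?_⟩
  rintro U k ⟨i, ⟨g⟩⟩
  haveI := (hq.isFinite_presentation i).isFiniteType_generators.finite
  haveI := (hq.isFinite_presentation i).isFiniteType_relations.finite
  letI := Fintype.ofFinite (q.presentation i).generators.I
  letI := Fintype.ofFinite (q.presentation i).relations.I
  exact HasPres.res g ⟨_, _, inferInstance, inferInstance, _, _, tgens_of_epi (q.presentation i).generators.π,
    trels_of_presentation (q.presentation i).generators.π (q.presentation i).relations.π⟩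

theorem isFiniteType_of_covd (h : Covd J (HasGens M)) :
    SheafOfModules.IsFiniteType (R := ModSite.ringSh O) M := by
  choose ι hι s hs using fun i : {U : C // HasGens M U} => i.2
  constructor
  refine ⟨{ I := {U : C // HasGens M U}, X := Subtype.val, coversTop := fun X => ?_,
            generators := fun i => genSections (N := (ModSite.restr O i.1).obj M) (s i) (hs i) }, ?_⟩
  · obtain ⟨S, hS, h'⟩ := h X
    exact J.superset_covering (fun U k hk => ⟨⟨U, h' k hk⟩, ⟨𝟙 U⟩⟩) hS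
  · constructor
    intro i
    constructor
    exact Finite.of_fintype (ι i)

theorem exists_presentation_of_hasPres {U : C} (h : HasPres M U) :
    ∃ P : SheafOfModules.Presentation ((ModSite.restr O U).obj M), P.IsFinite := by
  obtain ⟨ι, κ, hι, hκ, s, R, hs, hR⟩ := h
  exact nonempty_presentation (N := (ModSite.restr O U).obj M) _ hs _ hR

theorem isFinitePresentation_of_covd (h : Covd J (HasPres M)) :
    SheafOfModules.IsFinitePresentation (R := ModSite.ringSh O) M := by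
  choose P hP using fun i : {U : C // HasPres M U} => exists_presentation_of_hasPres i.2
  constructor
  refine ⟨{ I := {U : C // HasPres M U}, X := Subtype.val, coversTop := fun X => ?_, presentation := P }, ?_⟩
  · obtain ⟨S, hS, h'⟩ := h X
    exact J.superset_covering (fun U k hk => ⟨⟨U, h' k hk⟩, ⟨𝟙 U⟩⟩) hS
  · constructor
    exact hP

theorem exists_mod_kernel_section (f : M ⟶ N) {U : C} (x : ModSite.sect M U) (hx : f.val.app (op U) x = 0) :
    ∃ y, (kernel.ι f).val.app (op U) y = x := by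
  let h : ModSite.freeOn O U ⟶ M := (freeOnHom O U M).symm x
  have hh : h ≫ f = 0 := by
    apply (freeOnHom O U N).injective
    rw [freeOnHom_comp, Equiv.apply_symm_apply, hx]
    have h0 := freeOnHom_comp O (0 : ModSite.freeOn O U ⟶ M) (0 : M ⟶ N)
    rw [comp_zero] at h0
    exact h0.symm
  refine ⟨freeOnHom O U (kernel f) (kernel.lift f h hh), ?_⟩
  rw [← freeOnHom_comp, kernel.lift_ι]
  exact (freeOnHom O U M).apply_symm_apply x

theorem exists_locally_of_exact {S : ShortComplex (ModSite.Mod O)} (hS : S.Exact) {U : C} (x : ModSite.sect S.X₂ U)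
    (hx : S.g.val.app (op U) x = 0) :
    ∃ T ∈ J U, ∀ ⦃W : C⦄ (l : W ⟶ U), T l → ∃ y, S.f.val.app (op W) y = smap S.X₂ l x := by
  obtain ⟨y, hy⟩ := exists_mod_kernel_section S.g x hx
  haveI : Epi (kernel.lift S.g S.f S.zero) := hS.epi_kernelLift
  obtain ⟨T, hT, h⟩ := ExtSupp8.exists_local_preimage (kernel.lift S.g S.f S.zero) y
  refine ⟨T, hT, fun W l hl => ?_⟩
  obtain ⟨z, hz⟩ := h l hl
  refine ⟨z, ?_⟩
  have e : (kernel.lift S.g S.f S.zero ≫ kernel.ι S.g).val.app (op W) z = smap S.X₂ l x := by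
    show (kernel.ι S.g).val.app (op W) ((kernel.lift S.g S.f S.zero).val.app (op W) z) = _
    rw [hz]
    exact (PresheafOfModules.naturality_apply (kernel.ι S.g).val l.op y).trans (congrArg _ hy)
  rwa [kernel.lift_ι] at e

theorem cov_iInter' {U : C} {ι : Type*} [Finite ι] {Q : ι → ∀ ⦃W : C⦄, (W ⟶ U) → Prop}
    (h : ∀ i, ∃ S ∈ J U, ∀ ⦃W : C⦄ (l : W ⟶ U), S l → Q i l) :
    ∃ T ∈ J U, ∀ (i : ι) ⦃W : C⦄ (l : W ⟶ U), T l → Q i l := by
  classical
  cases nonempty_fintype ι
  choose S hS hS' using h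
  suffices key : ∀ F : Finset ι, ∃ T ∈ J U, ∀ i ∈ F, ∀ ⦃W : C⦄ (l : W ⟶ U), T l → Q i l by
    obtain ⟨T, hT, h⟩ := key Finset.univ
    exact ⟨T, hT, fun i => h i (Finset.mem_univ i)⟩
  intro F
  induction F using Finset.induction_on with
  | empty => exact ⟨⊤, J.top_mem U, fun i hi => absurd hi (Finset.notMem_empty i)⟩
  | @insert a F ha ih =>
    obtain ⟨T, hT, h⟩ := ih
    refine ⟨T ⊓ S a, J.intersection_covering hT (hS a), fun i hi W l hl => ?_⟩
    rcases Finset.mem_insert.1 hi with rfl | hi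
    · exact hS' _ l hl.2
    · exact h i hi l hl.1

/-- Finitely many sections lift simultaneously on a covering. -/
theorem locally_lift_family (f : M ⟶ N) [Epi f] {U : C} {ι : Type*} [Finite ι] (y : ι → ModSite.sect N U) :
    ∃ T ∈ J U, ∀ ⦃W : C⦄ (l : W ⟶ U), T l → ∀ i, ∃ x, f.val.app (op W) x = smap N l (y i) := by
  classical
  cases nonempty_fintype ι
  suffices key : ∀ F : Finset ι,
      ∃ T ∈ J U, ∀ ⦃W : C⦄ (l : W ⟶ U), T l → ∀ i ∈ F, ∃ x, f.val.app (op W) x = smap N l (y i) by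
    obtain ⟨T, hT, h⟩ := key Finset.univ
    exact ⟨T, hT, fun W l hl i => h l hl i (Finset.mem_univ i)⟩
  intro F
  induction F using Finset.induction_on with
  | empty => exact ⟨⊤, J.top_mem U, fun W l _ i hi => absurd hi (Finset.notMem_empty i)⟩
  | @insert a F ha ih =>
    obtain ⟨T, hT, h⟩ := ih
    obtain ⟨T', hT', h'⟩ := ExtSupp8.exists_local_preimage f (y a)
    refine ⟨T ⊓ T', J.intersection_covering hT hT', fun W l hl i hi => ?_⟩
    rcases Finset.mem_insert.1 hi with rfl | hi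
    · exact h' l hl.2
    · exact h l hl.1 i hi

theorem app_comb (f : M ⟶ N) {V : C} {ι : Type*} [Fintype ι] (c : ι → O.obj.obj (op V)) (x : ι → ModSite.sect M V) :
    f.val.app (op V) (∑ i, c i • x i) = ∑ i, c i • f.val.app (op V) (x i) :=
  (map_sum _ _ _).trans (Finset.sum_congr rfl fun i _ => (f.val.app (op V)).hom.map_smul _ _)

theorem app_smap (f : M ⟶ N) {U V : C} (k : V ⟶ U) (x : ModSite.sect M U) :
    f.val.app (op V) (smap M k x) = smap N k (f.val.app (op U) x) :=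
  PresheafOfModules.naturality_apply f.val k.op x

theorem smap_comb {U V : C} (l : V ⟶ U) {ι : Type*} [Fintype ι] (c : ι → O.obj.obj (op U))
    (x : ι → ModSite.sect M U) : smap M l (∑ i, c i • x i) = ∑ i, rmap O l (c i) • smap M l (x i) :=
  (map_sum _ _ _).trans (Finset.sum_congr rfl fun i _ => smap_smul l _ _)

/-- Extensions of finitely generated modules are finitely generated. -/
theorem isFiniteType_of_shortExact (S : ShortComplex (ModSite.Mod O)) (hS : S.ShortExact)
    [SheafOfModules.IsFiniteType (R := ModSite.ringSh O) S.X₁]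
    [SheafOfModules.IsFiniteType (R := ModSite.ringSh O) S.X₃] :
    SheafOfModules.IsFiniteType (R := ModSite.ringSh O) S.X₂ := by
  haveI := hS.epi_g
  refine isFiniteType_of_covd (((covd_hasGens (M := S.X₁)).and (covd_hasGens (M := S.X₃))
    fun U U' g => HasGens.res g).refine' ?_)
  rintro U ⟨⟨ι, hι, a, ha⟩, ⟨κ, hκ, c, hc⟩⟩
  obtain ⟨T, hT, hlift⟩ := locally_lift_family S.g c
  refine ⟨T, hT, fun U' l hl => ?_⟩
  choose c' hc' using hlift l hl
  refine ⟨ι ⊕ κ, inferInstance, Sum.elim (fun i => S.f.val.app (op U') (smap S.X₁ l (a i))) c', gens_mk _ ?_⟩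
  intro V k x
  obtain ⟨S₁, hS₁, h₁⟩ := gens_apply hc (k ≫ l) (S.g.val.app (op V) x)
  have hex : ∀ ⦃W : C⦄ (m : W ⟶ V), S₁ m → ∃ T ∈ J W, ∀ ⦃W' : C⦄ (m' : W' ⟶ W), T m' →
      ∃ e : ι ⊕ κ → O.obj.obj (op W'), smap S.X₂ (m' ≫ m) x = ∑ i, e i • smap S.X₂ ((m' ≫ m) ≫ k)
        (Sum.elim (fun i => S.f.val.app (op U') (smap S.X₁ l (a i))) c' i) := by
    intro W m hm
    obtain ⟨r, hr⟩ := h₁ m hm
    let z := smap S.X₂ m x - ∑ j, r j • smap S.X₂ (m ≫ k) (c' j)
    obtain ⟨T₁, hT₁, h₂⟩ := exists_locally_of_exact hS.exact z (by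
      rw [map_sub, app_smap, hr, app_comb, sub_eq_zero]
      refine Finset.sum_congr rfl fun j _ => congrArg (r j • ·) ?_
      rw [app_smap, hc', ← smap_comp, Category.assoc])
    choose y hy using h₂
    have hy' : ∀ ⦃W₁ : C⦄ (q : W₁ ⟶ W) (hq : T₁ q), ∃ T ∈ J W₁, ∀ ⦃W₂ : C⦄ (q' : W₂ ⟶ W₁), T q' →
        ∃ b : ι → O.obj.obj (op W₂), smap S.X₁ q' (y q hq) =
          ∑ i, b i • smap S.X₁ (q' ≫ (q ≫ m ≫ k ≫ l)) (a i) := fun W₁ q hq => gens_apply ha _ (y q hq)
    choose T₂ hT₂ h₃ using hy'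
    refine ⟨Sieve.bind T₁.arrows T₂, J.bind_covering hT₁ fun W₁ q hq => hT₂ q hq, ?_⟩
    rintro W' _ ⟨W₁, q', q, hq, hq', rfl⟩
    obtain ⟨b, hb⟩ := h₃ q hq q' hq'
    refine ⟨Sum.elim b fun j => rmap O (q' ≫ q) (r j), ?_⟩
    have e := congrArg (S.f.val.app (op W')) hb
    rw [app_smap, hy, ← smap_comp, app_comb] at e
    simp only [z, map_sub, smap_comb, sub_eq_iff_eq_add] at e
    rw [Fintype.sum_sum_type]
    simp only [Sum.elim_inl, Sum.elim_inr]
    rw [smap_comp m (q' ≫ q), e]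
    congr 1
    · refine Finset.sum_congr rfl fun i _ => congrArg (b i • ·) ?_
      rw [app_smap, app_smap, ← smap_comp]
      simp only [Category.assoc]
    · refine Finset.sum_congr rfl fun j _ => congrArg (_ • ·) ?_
      rw [← smap_comp]
      simp only [Category.assoc]
  choose T₃ hT₃ h₄ using hex
  refine ⟨Sieve.bind S₁.arrows T₃, J.bind_covering hS₁ fun W m hm => hT₃ m hm, ?_⟩
  rintro W' _ ⟨W, m', m, hm, hm', rfl⟩
  exact h₄ m hm m' hm'

theorem sections_injective' (f : M ⟶ N) [Mono f] (U : C) : Function.Injective (f.val.app (op U)) := by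
  intro x y h
  apply (freeOnHom O U M).symm.injective
  rw [← cancel_mono f]
  apply (freeOnHom O U N).injective
  rw [freeOnHom_comp, freeOnHom_comp, Equiv.apply_symm_apply, Equiv.apply_symm_apply, h]

theorem app_smap_comp_zero {L : ModSite.Mod O} (f : M ⟶ N) (g : N ⟶ L) (w : f ≫ g = 0) {U : C}
    (x : ModSite.sect M U) : g.val.app (op U) (f.val.app (op U) x) = 0 :=
  congrArg (fun q : M ⟶ L => q.val.app (op U) x) w

theorem bind_cover {V : C} {Q : ∀ ⦃W : C⦄, (W ⟶ V) → Prop} (S : Sieve V) (hS : S ∈ J V)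
    (h : ∀ ⦃W : C⦄ (m : W ⟶ V), S m → ∃ T ∈ J W, ∀ ⦃W' : C⦄ (m' : W' ⟶ W), T m' → Q (m' ≫ m)) :
    ∃ T ∈ J V, ∀ ⦃W : C⦄ (m : W ⟶ V), T m → Q m := by
  choose T hT hT' using h
  refine ⟨Sieve.bind S.arrows T, J.bind_covering hS fun W m hm => hT m hm, ?_⟩
  rintro W' _ ⟨W, m', m, hm, hm', rfl⟩
  exact hT' m hm m' hm'

/-- The kernel of an epimorphism onto a finitely presented module is finitely generated. -/
theorem isFiniteType_kernel {G F : ModSite.Mod O} (θ : G ⟶ F) [Epi θ]
    [SheafOfModules.IsFiniteType (R := ModSite.ringSh O) G]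
    [SheafOfModules.IsFinitePresentation (R := ModSite.ringSh O) F] :
    SheafOfModules.IsFiniteType (R := ModSite.ringSh O) (kernel θ) := by
  refine isFiniteType_of_covd (((covd_hasGens (M := G)).and (covd_hasPres (M := F))
    fun U U' g => HasGens.res g).refine' ?_)
  rintro U ⟨⟨ν, hν, g, hg⟩, ⟨ι, κ, hι, hκ, e, R, he, hR⟩⟩
  obtain ⟨T, hT, hlift⟩ := locally_lift_family θ e
  classical
  have hcoef : ∃ T' ∈ J U, ∀ ⦃U' : C⦄ (l : U' ⟶ U), T' l → ∀ j, ∃ a : ι → O.obj.obj (op U'),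
      smap F l (θ.val.app (op U) (g j)) = ∑ i, a i • smap F l (e i) := by
    obtain ⟨T', hT', h⟩ := cov_iInter' (J := J) (fun j => gens_apply he (𝟙 U) (θ.val.app (op U) (g j)))
    exact ⟨T', hT', fun U' l hl j => by simpa only [Category.comp_id] using h j l hl⟩
  obtain ⟨T', hT', hcoef⟩ := hcoef
  refine ⟨T ⊓ T', J.intersection_covering hT hT', fun U' l hl => ?_⟩
  choose e' he' using hlift l hl.1
  choose a ha using hcoef l hl.2
  let v : ν ⊕ κ → ModSite.sect G U' := Sum.elim (fun j => smap G l (g j) - ∑ i, a j i • e' i)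
    fun r => ∑ i, rmap O l (R r i) • e' i
  have hv : ∀ q, θ.val.app (op U') (v q) = 0 := by
    rintro (j | r)
    · show θ.val.app (op U') (smap G l (g j) - ∑ i, a j i • e' i) = 0
      rw [map_sub, app_smap, app_comb, ha, sub_eq_zero]
      simp only [he']
    · show θ.val.app (op U') (∑ i, rmap O l (R r i) • e' i) = 0
      rw [app_comb]
      simp only [he']
      rw [← smap_comb]
      exact (congrArg (smap F l) (hR.1 r)).trans (map_zero _)
  choose w hw using fun q => exists_mod_kernel_section θ (v q) (hv q)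
  refine ⟨ν ⊕ κ, inferInstance, w, gens_mk _ fun {V} k y => ?_⟩
  let x := (kernel.ι θ).val.app (op V) y
  obtain ⟨S₁, hS₁, h₁⟩ := gens_apply hg (k ≫ l) x
  refine bind_cover S₁ hS₁ fun W m hm => ?_
  obtain ⟨b, hb⟩ := h₁ m hm
  let c : ι → O.obj.obj (op W) := fun i => ∑ j, b j * rmap O (m ≫ k) (a j i)
  have hdec : smap G m x = ∑ j, b j • smap G (m ≫ k) (v (Sum.inl j)) + ∑ i, c i • smap G (m ≫ k) (e' i) := by
    simp only [c, Finset.sum_smul, v, Sum.elim_inl, map_sub, smap_comb, smul_sub, Finset.smul_sum, smul_smul,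
      Finset.sum_sub_distrib]
    rw [Finset.sum_comm (f := fun i j => (b j * rmap O (m ≫ k) (a j i)) • smap G (m ≫ k) (e' i)), sub_add_cancel, hb]
    exact Finset.sum_congr rfl fun j _ => by rw [← smap_comp, Category.assoc]
  have hc : ∑ i, c i • smap F ((m ≫ k) ≫ l) (e i) = 0 := by
    have h0 := congrArg (θ.val.app (op W)) hdec
    rw [app_smap, app_smap_comp_zero _ θ (kernel.condition θ), map_zero, map_add, app_comb, app_comb] at h0
    rw [show (∑ j, b j • θ.val.app (op W) (smap G (m ≫ k) (v (Sum.inl j)))) = 0 from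
      Finset.sum_eq_zero fun j _ => by rw [app_smap, hv, map_zero, smul_zero], zero_add] at h0
    refine Eq.trans (Finset.sum_congr rfl fun i _ => ?_) h0.symm
    rw [app_smap, he', ← smap_comp]
  obtain ⟨S₂, hS₂, h₂⟩ := rels_apply hR ((m ≫ k) ≫ l) c hc
  refine ⟨S₂, hS₂, fun W' m' hm' => ?_⟩
  obtain ⟨d, hd⟩ := h₂ m' hm'
  refine ⟨Sum.elim (fun j => rmap O m' (b j)) d, sections_injective' (kernel.ι θ) W' ?_⟩
  rw [app_smap, app_comb, Fintype.sum_sum_type, smap_comp m m', hdec, map_add, smap_comb, smap_comb]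
  refine congrArg₂ (· + ·) (Finset.sum_congr rfl fun j _ => ?_) ?_
  · rw [app_smap, hw, ← smap_comp, Category.assoc]
    rfl
  · simp only [hd, Finset.sum_smul]
    rw [Finset.sum_comm]
    refine Finset.sum_congr rfl fun r _ => ?_
    rw [Sum.elim_inr, app_smap, hw]
    simp only [v, Sum.elim_inr, smap_comb, Finset.smul_sum, smul_smul]
    refine Finset.sum_congr rfl fun i _ => ?_
    rw [← smap_comp, ← rmap_comp]
    simp only [Category.assoc]

/-- The cokernel of a map from a finitely generated module to a finitely presented one. -/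
theorem isFinitePresentation_cokernel {G F : ModSite.Mod O} (φ : G ⟶ F)
    [SheafOfModules.IsFiniteType (R := ModSite.ringSh O) G]
    [SheafOfModules.IsFinitePresentation (R := ModSite.ringSh O) F] :
    SheafOfModules.IsFinitePresentation (R := ModSite.ringSh O) (cokernel φ) := by
  refine isFinitePresentation_of_covd (((covd_hasGens (M := G)).and (covd_hasPres (M := F))
    fun U U' g => HasGens.res g).refine' ?_)
  rintro U ⟨⟨ν, hν, g, hg⟩, ⟨ι, κ, hι, hκ, e, R, he, hR⟩⟩
  classical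
  obtain ⟨T, hT, hcoef⟩ := cov_iInter' (J := J) (fun j => gens_apply he (𝟙 U) (φ.val.app (op U) (g j)))
  refine ⟨T, hT, fun U' l hl => ?_⟩
  choose a ha using fun j => hcoef j l hl
  simp only [Category.comp_id] at ha
  let q := cokernel.π φ
  let e₁ : ι → ModSite.sect (cokernel φ) U' := fun i => q.val.app (op U') (smap F l (e i))
  let R₁ : ν ⊕ κ → ι → O.obj.obj (op U') := Sum.elim a fun r i => rmap O l (R r i)
  refine ⟨ι, ν ⊕ κ, hι, inferInstance, e₁, R₁, gens_mk _ fun {V} k x => ?_, rels_mk _ _ ?_ fun {V} k c hc => ?_⟩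
  · obtain ⟨S₁, hS₁, h₁⟩ := ExtSupp8.exists_local_preimage q x
    refine bind_cover S₁ hS₁ fun W m hm => ?_
    obtain ⟨y, hy⟩ := h₁ m hm
    obtain ⟨S₂, hS₂, h₂⟩ := gens_apply he ((m ≫ k) ≫ l) y
    refine ⟨S₂, hS₂, fun W' m' hm' => ?_⟩
    obtain ⟨c, hc⟩ := h₂ m' hm'
    refine ⟨c, ?_⟩
    have h := congrArg (q.val.app (op W')) hc
    rw [app_smap, app_comb] at h
    replace h : smap (cokernel φ) (m' ≫ m) x = _ := (smap_comp m m' x).trans ((congrArg (smap (cokernel φ) m') hy.symm).trans h)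
    refine h.trans (Finset.sum_congr rfl fun i _ => ?_)
    simp only [e₁, ← app_smap, ← smap_comp, Category.assoc]
  · rintro (j | r)
    · refine (app_comb q (a j) _).symm.trans ?_
      rw [← ha, ← app_smap]
      exact app_smap_comp_zero φ q (cokernel.condition φ) _
    · refine (app_comb q (fun i => rmap O l (R r i)) _).symm.trans ?_
      rw [← smap_comb, hR.1 r, map_zero, map_zero]
  · let y := ∑ i, c i • smap F (k ≫ l) (e i)
    obtain ⟨S₁, hS₁, h₁⟩ := exists_locally_of_exact (ShortComplex.exact_cokernel φ) y (by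
      show q.val.app (op V) _ = 0
      rw [app_comb]
      refine Eq.trans (Finset.sum_congr rfl fun i _ => ?_) hc
      simp only [e₁, ← app_smap, ← smap_comp])
    refine bind_cover S₁ hS₁ fun W m hm => ?_
    obtain ⟨z, hz⟩ := h₁ m hm
    obtain ⟨S₂, hS₂, h₂⟩ := gens_apply hg (m ≫ k ≫ l) z
    refine bind_cover S₂ hS₂ fun W₁ p hp => ?_
    obtain ⟨b, hb⟩ := h₂ p hp
    let k₁ := (p ≫ m) ≫ k
    let c₁ : ι → O.obj.obj (op W₁) := fun i => rmap O (p ≫ m) (c i) - ∑ j, b j * rmap O k₁ (a j i)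
    have hc₁ : ∑ i, c₁ i • smap F (k₁ ≫ l) (e i) = 0 := by
      have h0 : smap F (p ≫ m) y = ∑ j, b j • smap F (k₁ ≫ l) (φ.val.app (op U) (g j)) := by
        rw [smap_comp m p, ← hz]
        refine ((app_smap φ p z).symm.trans (congrArg _ hb)).trans ((app_comb φ _ _).trans ?_)
        refine Finset.sum_congr rfl fun j _ => ?_
        simp only [app_smap, k₁, Category.assoc]
      have h1 : ∀ j, smap F (k₁ ≫ l) (φ.val.app (op U) (g j)) = ∑ i, rmap O k₁ (a j i) • smap F (k₁ ≫ l) (e i) := by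
        intro j
        rw [smap_comp l k₁, ha, smap_comb]
        simp only [smap_comp]
      simp only [y, smap_comb, h1, ← smap_comp] at h0
      simp only [c₁, sub_smul, Finset.sum_sub_distrib, Finset.sum_smul]
      rw [sub_eq_zero]
      refine Eq.trans ?_ ((h0.trans ?_))
      · exact Finset.sum_congr rfl fun i _ => by simp only [k₁, Category.assoc]
      · simp only [Finset.smul_sum, smul_smul]
        exact Finset.sum_comm
    obtain ⟨S₃, hS₃, h₃⟩ := rels_apply hR (k₁ ≫ l) c₁ hc₁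
    refine ⟨S₃, hS₃, fun W₂ p' hp' => ?_⟩
    obtain ⟨d, hd⟩ := h₃ p' hp'
    refine ⟨Sum.elim (fun j => rmap O p' (b j)) d, fun i => ?_⟩
    have h := hd i
    simp only [c₁, map_sub, map_sum, map_mul, ← rmap_comp, sub_eq_iff_eq_add] at h
    simp only [Fintype.sum_sum_type, R₁, Sum.elim_inl, Sum.elim_inr]
    rw [add_comm]
    simp only [k₁, ← rmap_comp, Category.assoc] at h ⊢
    exact h

end Groth.Agent.ModFlat16
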