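import Groth.Agent.Lib.ModFlat16.Criterion
import Groth.Prelude.Def_ModSite2
import Mathlib.RingTheory.Flat.EquationalCriterion

/-! Flatness of sheaves of modules is detected on stalks. -/

set_option autoImplicit false
set_option linter.style.haveILetI false
set_option linter.unusedSectionVars false
set_option backward.isDefEq.respectTransparency false
set_option backward.isDefEq.respectTransparency.types false

universe u

open CategoryTheory CategoryTheory.Limits Opposite

noncomputable section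

namespace Groth.Agent.ModFlat16

variable {C : Type u} [SmallCategory C] {J : GrothendieckTopology C} {O : Sheaf J CommRingCat.{u}}
  (p : GrothendieckTopology.Point.{u} J) {F : ModSite.Mod O}

theorem germ_smap {U V : C} (g : V ⟶ U) (y : p.fiber.obj V) (s : ModSite.sect F U) :
    ModSite.germ p F V y (smap F g s) = ModSite.germ p F U (p.fiber.map g y) s :=
  p.toPresheafFiber_w_apply g y (ModSite.toAb F).obj s

theorem germRing_rmap {U V : C} (g : V ⟶ U) (y : p.fiber.obj V) (r : O.obj.obj (op U)) :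
    ModSite.germRing p (O := O) V y (rmap O g r) = ModSite.germRing p (O := O) U (p.fiber.map g y) r :=
  p.toPresheafFiber_w_apply g y O.obj r

theorem exists_nbhd_forall {ι : Type*} [Finite ι] (Q : ι → ∀ Y : C, p.fiber.obj Y → Prop)
    (hmono : ∀ (i : ι) {Y Z : C} (g : Z ⟶ Y) (z : p.fiber.obj Z), Q i Y (p.fiber.map g z) → Q i Z z)
    (hex : ∀ i, ∃ Y y, Q i Y y) (U : C) (x : p.fiber.obj U) :
    ∃ (Y : C) (g : Y ⟶ U) (y : p.fiber.obj Y), p.fiber.map g y = x ∧ ∀ i, Q i Y y := by
  classical
  cases nonempty_fintype ι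
  suffices h : ∀ S : Finset ι, ∃ (Y : C) (g : Y ⟶ U) (y : p.fiber.obj Y),
      p.fiber.map g y = x ∧ ∀ i ∈ S, Q i Y y by
    obtain ⟨Y, g, y, hy, h⟩ := h Finset.univ
    exact ⟨Y, g, y, hy, fun i => h i (Finset.mem_univ i)⟩
  intro S
  induction S using Finset.induction_on with
  | empty => exact ⟨U, 𝟙 U, x, by simp, fun i hi => absurd hi (Finset.notMem_empty i)⟩
  | @insert i S hi ih =>
    obtain ⟨Y, g, y, hy, h⟩ := ih
    obtain ⟨Z, z, hz⟩ := hex i
    let W := IsCofiltered.min (Functor.elementsMk p.fiber Y y) (Functor.elementsMk p.fiber Z z)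
    let gY := IsCofiltered.minToLeft (Functor.elementsMk p.fiber Y y) (Functor.elementsMk p.fiber Z z)
    let gZ := IsCofiltered.minToRight (Functor.elementsMk p.fiber Y y) (Functor.elementsMk p.fiber Z z)
    refine ⟨W.1, gY.1 ≫ g, W.2, ?_, fun j hj => ?_⟩
    · rw [Functor.map_comp]
      exact (congrArg (p.fiber.map g) gY.2).trans hy
    · rcases Finset.mem_insert.1 hj with rfl | hj
      · exact hmono _ gZ.1 W.2 (by rw [gZ.2]; exact hz)
      · exact hmono _ gY.1 W.2 (by rw [gY.2]; exact h j hj)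

theorem exists_nbhd_eq {ι : Type*} [Finite ι] (U : C) (x : p.fiber.obj U)
    (a b : ι → ModSite.sect F U) (h : ∀ i, ModSite.germ p F U x (a i) = ModSite.germ p F U x (b i)) :
    ∃ (Y : C) (g : Y ⟶ U) (y : p.fiber.obj Y), p.fiber.map g y = x ∧ ∀ i, smap F g (a i) = smap F g (b i) := by
  classical
  cases nonempty_fintype ι
  suffices h : ∀ S : Finset ι, ∃ (Y : C) (g : Y ⟶ U) (y : p.fiber.obj Y),
      p.fiber.map g y = x ∧ ∀ i ∈ S, smap F g (a i) = smap F g (b i) by
    obtain ⟨Y, g, y, hy, h⟩ := h Finset.univ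
    exact ⟨Y, g, y, hy, fun i => h i (Finset.mem_univ i)⟩
  intro S
  induction S using Finset.induction_on with
  | empty => exact ⟨U, 𝟙 U, x, by simp, fun i hi => absurd hi (Finset.notMem_empty i)⟩
  | @insert i S hi ih =>
    obtain ⟨Y, g, y, hy, h'⟩ := ih
    have he : ModSite.germ p F Y y (smap F g (a i)) = ModSite.germ p F Y y (smap F g (b i)) := by
      rw [germ_smap, germ_smap, hy]; exact h i
    obtain ⟨Z, f, z, hz, he'⟩ := (p.toPresheafFiber_eq_iff' Y y _ _).1 he
    refine ⟨Z, f ≫ g, z, by rw [Functor.map_comp]; exact (congrArg (p.fiber.map g) hz).trans hy, fun j hj => ?_⟩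
    rw [smap_comp, smap_comp]
    rcases Finset.mem_insert.1 hj with rfl | hj
    · exact he'
    · rw [h' j hj]

theorem exists_nbhd_eqRing {ι : Type*} [Finite ι] (U : C) (x : p.fiber.obj U)
    (a b : ι → O.obj.obj (op U))
    (h : ∀ i, ModSite.germRing p (O := O) U x (a i) = ModSite.germRing p (O := O) U x (b i)) :
    ∃ (Y : C) (g : Y ⟶ U) (y : p.fiber.obj Y), p.fiber.map g y = x ∧ ∀ i, rmap O g (a i) = rmap O g (b i) := by
  classical
  cases nonempty_fintype ι
  suffices h : ∀ S : Finset ι, ∃ (Y : C) (g : Y ⟶ U) (y : p.fiber.obj Y),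
      p.fiber.map g y = x ∧ ∀ i ∈ S, rmap O g (a i) = rmap O g (b i) by
    obtain ⟨Y, g, y, hy, h⟩ := h Finset.univ
    exact ⟨Y, g, y, hy, fun i => h i (Finset.mem_univ i)⟩
  intro S
  induction S using Finset.induction_on with
  | empty => exact ⟨U, 𝟙 U, x, by simp, fun i hi => absurd hi (Finset.notMem_empty i)⟩
  | @insert i S hi ih =>
    obtain ⟨Y, g, y, hy, h'⟩ := ih
    have he : ModSite.germRing p (O := O) Y y (rmap O g (a i)) = ModSite.germRing p (O := O) Y y (rmap O g (b i)) := by
      rw [germRing_rmap, germRing_rmap, hy]; exact h i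
    obtain ⟨Z, f, z, hz, he'⟩ := (p.toPresheafFiber_eq_iff' Y y _ _).1 he
    refine ⟨Z, f ≫ g, z, by rw [Functor.map_comp]; exact (congrArg (p.fiber.map g) hz).trans hy, fun j hj => ?_⟩
    rw [rmap_comp, rmap_comp]
    rcases Finset.mem_insert.1 hj with rfl | hj
    · exact he'
    · rw [h' j hj]

theorem germ_sum {ι : Type*} [Fintype ι] (U : C) (x : p.fiber.obj U) (s : ι → ModSite.sect F U) :
    ModSite.germ p F U x (∑ i, s i) = ∑ i, ModSite.germ p F U x (s i) :=
  map_sum (p.toPresheafFiber U x (ModSite.toAb F).obj).hom s Finset.univ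

/-- Stalks of a flat module are flat. -/
theorem RelTriv.flat_stalk (hF : RelTriv F) : Module.Flat (ModSite.stalkRing p O) (ModSite.stalkMod p F) := by
  refine Module.Flat.of_forall_isTrivialRelation fun {l f x} hfx => ?_
  obtain ⟨⟨U₀, x₀⟩⟩ := IsCofiltered.nonempty (C := p.fiber.Elements)
  obtain ⟨U, -, u, -, hU⟩ := exists_nbhd_forall p
    (fun i Y y => (∃ r, ModSite.germRing p (O := O) Y y r = f i) ∧ ∃ s, ModSite.germ p F Y y s = x i)
    (fun i Y Z g z => by
      rintro ⟨⟨r, hr⟩, ⟨s, hs⟩⟩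
      exact ⟨⟨rmap O g r, by rw [germRing_rmap]; exact hr⟩, ⟨smap F g s, by rw [germ_smap]; exact hs⟩⟩)
    (fun i => by
      obtain ⟨Y, y, r, hr⟩ := p.toPresheafFiber_jointly_surjective (P := O.obj) (f i)
      obtain ⟨Z, z, s, hs⟩ := p.toPresheafFiber_jointly_surjective (P := (ModSite.toAb F).obj) (x i)
      let W := IsCofiltered.min (Functor.elementsMk p.fiber Y y) (Functor.elementsMk p.fiber Z z)
      let gY := IsCofiltered.minToLeft (Functor.elementsMk p.fiber Y y) (Functor.elementsMk p.fiber Z z)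
      let gZ := IsCofiltered.minToRight (Functor.elementsMk p.fiber Y y) (Functor.elementsMk p.fiber Z z)
      refine ⟨W.1, W.2, ⟨rmap O gY.1 r, ?_⟩, ⟨smap F gZ.1 s, ?_⟩⟩
      · rw [germRing_rmap, gY.2]; exact hr
      · rw [germ_smap, gZ.2]; exact hs) U₀ x₀
  choose r hr s hs using fun i => (⟨(hU i).1.choose, (hU i).1.choose_spec, (hU i).2.choose, (hU i).2.choose_spec⟩ :
    ∃ r, ModSite.germRing p (O := O) U u r = f i ∧ ∃ s, ModSite.germ p F U u s = x i)
  have h0 : ∀ _ : Unit, ModSite.germ p F U u (∑ i, r i • s i) = ModSite.germ p F U u 0 := fun _ => by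
    rw [germ_sum]
    refine Eq.trans ?_ (map_zero (p.toPresheafFiber U u (ModSite.toAb F).obj).hom).symm
    refine Eq.trans (Finset.sum_congr rfl fun i _ => ?_) hfx
    rw [← hr i, ← hs i]
    exact ModSite.germ_smul p F U u (r i) (s i)
  obtain ⟨V, g, v, rfl, hv⟩ := exists_nbhd_eq p U u _ _ h0
  have hrel : ∑ i, rmap O g (r i) • smap F g (s i) = 0 := by
    have h := hv ()
    rw [map_zero, map_sum] at h
    exact Eq.trans (Finset.sum_congr rfl fun i _ => (smap_smul g (r i) (s i)).symm) h
  obtain ⟨S, hS, hS'⟩ := hF V l _ _ hrel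
  obtain ⟨W, h, hh, w, rfl⟩ := p.jointly_surjective S hS v
  obtain ⟨k, t, a, hta, hfa⟩ := hS' h hh
  refine ⟨k, fun i j => ModSite.germRing p (O := O) W w (a i j), fun j => ModSite.germ p F W w (t j),
    fun i => ?_, fun j => ?_⟩
  · rw [← hs i, ← germ_smap, ← germ_smap, show smap F h (smap F g (s i)) = _ from hta i, germ_sum]
    exact Finset.sum_congr rfl fun j _ => ModSite.germ_smul p F W w (a i j) (t j)
  · have e : ∀ i, f i = ModSite.germRing p (O := O) W w (rmap O h (rmap O g (r i))) := fun i => by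
      rw [germRing_rmap, germRing_rmap]; exact (hr i).symm
    refine Eq.trans ?_ (map_zero (p.toPresheafFiber W w O.obj).hom)
    rw [← hfa j, map_sum]
    refine Finset.sum_congr rfl fun i _ => ?_
    rw [map_mul, e i, mul_comm]

/-- Modules with flat stalks at a conservative family of points have locally trivial relations. -/
theorem relTriv_of_flat_stalks {P : ObjectProperty (GrothendieckTopology.Point.{u} J)}
    (hP : P.IsConservativeFamilyOfPoints)
    (h : ∀ p, P p → Module.Flat (ModSite.stalkRing p O) (ModSite.stalkMod p F)) : RelTriv F := by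
  intro U n f s hrel
  let good : (Σ V : C, V ⟶ U) → Prop := fun i =>
    ∃ (l : ℕ) (t : Fin l → ModSite.sect F i.1) (a : Fin n → Fin l → O.obj.obj (op i.1)),
      (∀ j, smap F i.2 (s j) = ∑ k, a j k • t k) ∧ (∀ k, ∑ j, a j k * rmap O i.2 (f j) = 0)
  have hgood : ∀ (i : Σ V : C, V ⟶ U) {W : C} (g : W ⟶ i.1), good i → good ⟨W, g ≫ i.2⟩ := by
    rintro ⟨V, q⟩ W g ⟨l, t, a, h1, h2⟩
    refine ⟨l, fun k => smap F g (t k), fun j k => rmap O g (a j k), fun j => ?_, fun k => ?_⟩
    · rw [smap_comp, h1, map_sum]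
      exact Finset.sum_congr rfl fun k _ => smap_smul g _ _
    · have h3 := congrArg (rmap O g) (h2 k)
      simp only [map_sum, map_mul, map_zero] at h3
      refine Eq.trans (Finset.sum_congr rfl fun j _ => ?_) h3
      rw [rmap_comp]
  refine ⟨Sieve.ofArrows (fun i : {i // good i} => i.1.1) (fun i => i.1.2), ?_, ?_⟩
  · rw [hP.jointly_reflect_ofArrows_mem]
    intro Φ x
    let p := Φ.obj
    haveI := h p Φ.property
    have hrel' : ∑ j, ModSite.germRing p (O := O) U x (f j) • ModSite.germ p F U x (s j) = 0 := by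
      refine Eq.trans ?_ (map_zero (p.toPresheafFiber U x (ModSite.toAb F).obj).hom)
      rw [← hrel]
      exact (Finset.sum_congr rfl fun j _ => (ModSite.germ_smul p F U x (f j) (s j)).symm).trans (germ_sum p U x _).symm
    obtain ⟨l, a₀, t₀, ht₀, hf₀⟩ := Module.Flat.isTrivialRelation_of_sum_smul_eq_zero
      (R := ModSite.stalkRing p O) (M := ModSite.stalkMod p F) hrel'
    obtain ⟨Y, g, y, hy, hY⟩ := exists_nbhd_forall p
      (Sum.elim (fun k Y y => ∃ t, ModSite.germ p F Y y t = t₀ k)
        (fun (q : Fin n × Fin l) Y y => ∃ r, ModSite.germRing p (O := O) Y y r = a₀ q.1 q.2))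
      (fun i {Y Z} g z => by
        rcases i with k | q
        · rintro ⟨t, ht⟩; exact ⟨smap F g t, by rw [germ_smap]; exact ht⟩
        · rintro ⟨r, hr⟩; exact ⟨rmap O g r, by rw [germRing_rmap]; exact hr⟩)
      (fun i => by
        rcases i with k | q
        · obtain ⟨Y, y, t, ht⟩ := p.toPresheafFiber_jointly_surjective (P := (ModSite.toAb F).obj) (t₀ k)
          exact ⟨Y, y, t, ht⟩
        · obtain ⟨Y, y, r, hr⟩ := p.toPresheafFiber_jointly_surjective (P := O.obj) (a₀ q.1 q.2)
          exact ⟨Y, y, r, hr⟩) U x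
    subst hy
    choose t ht using fun k => hY (Sum.inl k)
    choose a ha using fun q => hY (Sum.inr q)
    obtain ⟨Z, g₁, z, hz, hZ⟩ := exists_nbhd_eq p Y y (fun j => smap F g (s j)) (fun j => ∑ k, a (j, k) • t k)
      (fun j => by
        rw [germ_smap, germ_sum]
        refine (ht₀ j).trans (Finset.sum_congr rfl fun k _ => ?_)
        rw [← ha (j, k), ← ht k]
        exact (ModSite.germ_smul p F Y y _ _).symm)
    subst hz
    obtain ⟨W, g₂, w, hw, hW⟩ := exists_nbhd_eqRing p Z z
      (fun k => ∑ j, rmap O g₁ (a (j, k)) * rmap O g₁ (rmap O g (f j))) (fun _ => 0)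
      (fun k => by
        refine Eq.trans ?_ (map_zero (p.toPresheafFiber Z z O.obj).hom).symm
        refine Eq.trans ?_ (hf₀ k)
        refine (map_sum (p.toPresheafFiber Z z O.obj).hom _ _).trans (Finset.sum_congr rfl fun j _ => ?_)
        refine (map_mul (p.toPresheafFiber Z z O.obj).hom _ _).trans ((mul_comm _ _).trans ?_)
        exact congrArg₂ (· * ·) (((germRing_rmap p g₁ z _).trans (germRing_rmap p g _ _)))
          ((germRing_rmap p g₁ z _).trans (ha (j, k))))
    subst hw
    refine ⟨⟨⟨W, g₂ ≫ g₁ ≫ g⟩, l, fun k => smap F g₂ (smap F g₁ (t k)),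
      fun j k => rmap O g₂ (rmap O g₁ (a (j, k))), fun j => ?_, fun k => ?_⟩, w, ?_⟩
    · rw [smap_comp, smap_comp, hZ j, map_sum, map_sum]
      exact Finset.sum_congr rfl fun k _ => by rw [smap_smul, smap_smul]
    · have h3 := hW k
      simp only [map_sum, map_mul, map_zero] at h3
      refine Eq.trans (Finset.sum_congr rfl fun j _ => ?_) h3
      rw [rmap_comp, rmap_comp]
    · simp only [Functor.map_comp]
      rfl
  · rintro V _ ⟨_, g, q, ⟨i⟩, rfl⟩
    exact hgood i.1 g i.2

end Groth.Agent.ModFlat16
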