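import Groth.Agent.Lib.ModFlat16.LocFT
import Groth.Agent.Lib.ModFlat16.Stalks
import Mathlib.LinearAlgebra.Matrix.NonsingularInverse
import Mathlib.CategoryTheory.Balanced

/-! Bases of modules over an object of a site. -/

set_option autoImplicit false
set_option linter.style.haveILetI false
set_option linter.unusedSectionVars false
set_option backward.isDefEq.respectTransparency false
set_option backward.isDefEq.respectTransparency.types false

universe u

open CategoryTheory CategoryTheory.Limits Opposite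

noncomputable section

namespace Groth.Agent.ModFlat16

variable {C : Type u} [SmallCategory C] {J : GrothendieckTopology C} {O : Sheaf J CommRingCat.{u}}
  {M N : ModSite.Mod O}

theorem eq_of_locally {V : C} (x y : ModSite.sect M V) (S : Sieve V) (hS : S ∈ J V)
    (h : ∀ ⦃W : C⦄ (l : W ⟶ V), S l → smap M l x = smap M l y) : x = y := by
  rw [← sub_eq_zero]
  refine ExtSupp8.sect_eq_zero_of_locally O M _ _ hS fun W l hl => ?_
  exact (map_sub (smap M l) x y).trans (sub_eq_zero.2 (h l hl))

theorem mono_of_injective (φ : M ⟶ N) (h : ∀ V, Function.Injective (φ.val.app (op V))) : Mono φ := by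
  refine ⟨fun {Z} a b hab => SheafOfModules.hom_ext (PresheafOfModules.hom_ext fun A =>
    ModuleCat.hom_ext (LinearMap.ext fun z => h A.unop ?_))⟩
  exact congrArg (fun q : Z ⟶ N => q.val.app A z) hab

theorem epi_of_local_preimages (φ : M ⟶ N) (h : ∀ (V : C) (x : ModSite.sect N V), ∃ S ∈ J V,
    ∀ ⦃W : C⦄ (l : W ⟶ V), S l → ∃ y, φ.val.app (op W) y = smap N l x) : Epi φ := by
  refine (SheafOfModules.toSheaf (ModSite.ringSh O)).epi_of_epi_map ?_
  refine (Sheaf.isLocallySurjective_iff_epi' _ _).1 ⟨fun {V} x => ?_⟩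
  obtain ⟨S, hS, h'⟩ := h V x
  exact J.superset_covering (fun W l hl => h' l hl) hS

theorem local_preimages_of_gens {U : C} (φ : M ⟶ N) {ι : Type u} [Fintype ι] {s : ι → ModSite.sect N U}
    (hs : Gens N U s) (g : ι → ModSite.sect M U) (hg : ∀ i, φ.val.app (op U) (g i) = s i) {V : C} (k : V ⟶ U)
    (x : ModSite.sect N V) :
    ∃ S ∈ J V, ∀ ⦃W : C⦄ (l : W ⟶ V), S l → ∃ y, φ.val.app (op W) y = smap N l x := by
  obtain ⟨S, hS, h⟩ := gens_apply hs k x
  refine ⟨S, hS, fun W l hl => ?_⟩
  obtain ⟨c, hc⟩ := h l hl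
  refine ⟨∑ i, c i • smap M (l ≫ k) (g i), ?_⟩
  rw [app_comb, hc]
  refine Finset.sum_congr rfl fun i _ => ?_
  rw [app_smap, hg]

theorem epi_restr_of_gens {U : C} (φ : M ⟶ N) {ι : Type u} [Fintype ι] {s : ι → ModSite.sect N U}
    (hs : Gens N U s) (g : ι → ModSite.sect M U) (hg : ∀ i, φ.val.app (op U) (g i) = s i) :
    Epi ((ModSite.restr O U).map φ) := by
  refine (SheafOfModules.toSheaf (ModSite.ringSh (O.over U))).epi_of_epi_map ?_
  refine (Sheaf.isLocallySurjective_iff_epi' _ _).1 ⟨fun {A} x => ?_⟩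
  obtain ⟨S, hS, h⟩ := local_preimages_of_gens φ hs g hg A.hom x
  rw [GrothendieckTopology.mem_over_iff]
  refine J.superset_covering ?_ hS
  intro W k hk
  rw [Sieve.overEquiv_iff]
  exact h k hk

variable {U : C} {ι : Type u} [Fintype ι]

/-- The sections form a basis over the slice. -/
def IsBasis (M : ModSite.Mod O) (U : C) (e : ι → ModSite.sect M U) : Prop :=
  ∀ ⦃V : C⦄ (k : V ⟶ U) (x : ModSite.sect M V), ∃! c : ι → O.obj.obj (op V), x = ∑ i, c i • smap M k (e i)

theorem IsBasis.gens {e : ι → ModSite.sect M U} (he : IsBasis M U e) : Gens M U e := by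
  refine gens_mk _ fun {V} k x => ⟨⊤, J.top_mem V, fun W l _ => ?_⟩
  obtain ⟨c, hc, -⟩ := he k x
  refine ⟨fun i => rmap O l (c i), ?_⟩
  rw [hc, smap_comb]
  refine Finset.sum_congr rfl fun i _ => ?_
  rw [← smap_comp]

theorem IsBasis.eq_zero {e : ι → ModSite.sect M U} (he : IsBasis M U e) {V : C} (k : V ⟶ U)
    (c : ι → O.obj.obj (op V)) (hc : ∑ i, c i • smap M k (e i) = 0) : c = 0 := by
  obtain ⟨d, -, hd⟩ := he k 0
  rw [hd c hc.symm, hd 0 (by simp)]

theorem IsBasis.smap {e : ι → ModSite.sect M U} (he : IsBasis M U e) {U' : C} (g : U' ⟶ U) :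
    IsBasis M U' fun i => smap M g (e i) := by
  intro V k x
  simp only [← smap_comp]
  exact he (k ≫ g) x

theorem isBasis_topVal (θ : (ModSite.restr O U).obj M ≅ SheafOfModules.free ι) :
    IsBasis M U fun i => topVal (fι i ≫ θ.inv) := by
  classical
  intro V k x
  let x' : ModSite.sect ((ModSite.restr O U).obj M) (Over.mk k) := x
  have hπ : ∀ c : ι → O.obj.obj (op V), θ.inv.val.app (op (Over.mk k)) (freeElt (A := Over.mk k) c) =
      ∑ i, c i • Groth.Agent.ModFlat16.smap M k (topVal (fι i ≫ θ.inv)) := fun c => app_freeElt (A := Over.mk k) θ.inv c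
  refine ⟨coord (θ.hom.val.app (op (Over.mk k)) x'), ?_, fun c hc => ?_⟩
  · refine Eq.trans ?_ (hπ _)
    rw [freeElt_coord]
    exact (congrArg (fun q : (ModSite.restr O U).obj M ⟶ (ModSite.restr O U).obj M =>
      q.val.app (op (Over.mk k)) x') θ.hom_inv_id).symm
  · have h : x' = θ.inv.val.app (op (Over.mk k)) (freeElt (A := Over.mk k) c) := hc.trans (hπ c).symm
    have h' : θ.hom.val.app (op (Over.mk k)) x' = freeElt (A := Over.mk k) c := by
      rw [h]
      exact congrArg (fun q : SheafOfModules.free ι ⟶ SheafOfModules.free ι =>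
        q.val.app (op (Over.mk k)) (freeElt (A := Over.mk k) c)) θ.inv_hom_id
    funext j
    rw [h', coord_freeElt]

theorem isBasis_of_iso (θ : (ModSite.restr O U).obj M ≅ SheafOfModules.free ι) :
    ∃ e : ι → ModSite.sect M U, IsBasis M U e :=
  ⟨_, isBasis_topVal θ⟩

theorem isIso_freeTo {e : ι → ModSite.sect M U} (hg : Gens M U e)
    (hind : ∀ {V : C} (k : V ⟶ U) (c : ι → O.obj.obj (op V)),
      ∑ i, c i • Groth.Agent.ModFlat16.smap M k (e i) = 0 → c = 0) :
    IsIso (freeTo (N := (ModSite.restr O U).obj M) e) := by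
  classical
  let f := freeTo (N := (ModSite.restr O U).obj M) e
  haveI : Epi f := epi_freeTo (N := (ModSite.restr O U).obj M) hg
  haveI : Mono f := mono_of_injective f fun A => by
    intro a b hab
    have hf : ∀ z, f.val.app (op A) z = ∑ i, coord z i • Groth.Agent.ModFlat16.smap M A.hom (e i) := fun z => by
      conv_lhs => rw [← freeElt_coord z]
      refine (app_freeElt f (coord z)).trans ?_
      simp only [f, topVal_ιFree_freeTo]
      rfl
    refine coord_ext fun j => sub_eq_zero.1 (congrFun (hind A.hom (fun i => coord a i - coord b i) ?_) j)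
    simp only [sub_smul, Finset.sum_sub_distrib]
    exact sub_eq_zero.2 ((hf a).symm.trans (hab.trans (hf b)))
  exact isIso_of_mono_of_epi f

theorem isBasis_of_gens {e : ι → ModSite.sect M U} (hg : Gens M U e)
    (hind : ∀ {V : C} (k : V ⟶ U) (c : ι → O.obj.obj (op V)),
      ∑ i, c i • Groth.Agent.ModFlat16.smap M k (e i) = 0 → c = 0) : IsBasis M U e := by
  haveI := isIso_freeTo hg hind
  intro V k x
  have h : ∃! c : ι → O.obj.obj (op V), x = ∑ i, c i • Groth.Agent.ModFlat16.smap M k
      (topVal (fι i ≫ (asIso (freeTo (N := (ModSite.restr O U).obj M) e)).symm.inv)) :=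
    isBasis_topVal (asIso (freeTo (N := (ModSite.restr O U).obj M) e)).symm k x
  simp only [Iso.symm_inv, asIso_hom, topVal_ιFree_freeTo] at h
  exact h

theorem nonempty_iso_of_isBasis {e : ι → ModSite.sect M U} (he : IsBasis M U e) :
    Nonempty ((ModSite.restr O U).obj M ≅ SheafOfModules.free ι) := by
  haveI := isIso_freeTo he.gens (fun k c => he.eq_zero k c)
  exact ⟨(asIso (freeTo (N := (ModSite.restr O U).obj M) e)).symm⟩

theorem injective_of_epi_basis (φ : M ⟶ N) [Epi φ] {e : ι → ModSite.sect M U} (he : IsBasis M U e)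
    {e' : ι → ModSite.sect N U} (he' : IsBasis N U e') {V : C} (k : V ⟶ U) (x : ModSite.sect M V)
    (hx : φ.val.app (op V) x = 0) : x = 0 := by
  classical
  obtain ⟨T, hT, hpre⟩ := cov_iInter' (J := J) (fun j => ExtSupp8.exists_local_preimage φ (smap N k (e' j)))
  refine eq_of_locally x 0 T hT fun W l hl => ?_
  choose y hy using fun j => hpre j l hl
  choose B hB using fun j => (he (l ≫ k) (y j)).exists
  choose A hA using fun i => (he' (l ≫ k) (φ.val.app (op W) (smap M (l ≫ k) (e i)))).exists
  obtain ⟨c, hc, -⟩ := he (l ≫ k) (smap M l x)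
  have hBA : Matrix.of B * Matrix.of A = 1 := by
    ext j m
    have h : (fun m => ∑ i, B j i * A i m) - (fun m => if j = m then 1 else 0) = 0 := by
      apply he'.eq_zero (l ≫ k)
      simp only [Pi.sub_apply, sub_smul, Finset.sum_sub_distrib, sub_eq_zero, ite_smul, _root_.one_smul,
        _root_.zero_smul, Finset.sum_ite_eq, Finset.mem_univ, if_true, Finset.sum_smul]
      rw [Finset.sum_comm]
      refine Eq.trans ?_ ((congrArg (φ.val.app (op W)) (hB j).symm).trans ((hy j).trans (smap_comp k l _).symm))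
      rw [app_comb]
      refine Finset.sum_congr rfl fun i _ => ?_
      rw [hA i, Finset.smul_sum]
      simp only [smul_smul]
    have h' := congrFun h m
    rw [Pi.sub_apply, Pi.zero_apply, sub_eq_zero] at h'
    simpa [Matrix.mul_apply, Matrix.one_apply] using h'
  have hcA : Matrix.vecMul c (Matrix.of A) = 0 := by
    apply he'.eq_zero (l ≫ k)
    have h0 : φ.val.app (op W) (smap M l x) = 0 := by
      rw [app_smap, hx, map_zero]
    rw [hc, app_comb] at h0
    refine Eq.trans ?_ h0
    simp only [Matrix.vecMul, dotProduct, Matrix.of_apply, Finset.sum_smul]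
    rw [Finset.sum_comm]
    refine Finset.sum_congr rfl fun i _ => ?_
    rw [hA i, Finset.smul_sum]
    simp only [smul_smul]
  have hc0 : c = 0 := by
    rw [← Matrix.vecMul_one c, ← mul_eq_one_comm.1 hBA, ← Matrix.vecMul_vecMul, hcA, Matrix.zero_vecMul]
  rw [hc, hc0, map_zero]
  simp

end Groth.Agent.ModFlat16
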