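import Groth.Agent.Lib.KFlat.Site
import Mathlib.CategoryTheory.Sites.LocallyInjective
import Mathlib.CategoryTheory.Sites.LocallySurjective

/-! Elements of tensor products of sheaves of modules, locally. -/

set_option autoImplicit false
set_option linter.style.haveILetI false
set_option linter.unusedSectionVars false
set_option backward.isDefEq.respectTransparency false
set_option backward.isDefEq.respectTransparency.types false

universe u

open CategoryTheory CategoryTheory.Limits MonoidalCategory Opposite TensorProduct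

noncomputable section

namespace Groth.Agent.ModFlat16

open Groth.Agent.KFlat.Site

variable {C : Type u} [SmallCategory C] {J : GrothendieckTopology C} {O : Sheaf J CommRingCat.{u}}
  {X Y F : ModSite.Mod O} {V W : C}

/-- The presheaf tensor product of the underlying presheaves. -/
abbrev Pt (X F : ModSite.Mod O) : ModSite.preMod O := (ModSite.toPre O).obj X ⊗ (ModSite.toPre O).obj F

/-- An elementary tensor. -/
def tm (x : ModSite.sect X V) (s : ModSite.sect F V) : (Pt X F).obj (op V) :=
  letI : Module (O.obj.obj (op V)) (ModSite.sect X V) := inferInstanceAs (Module ((ModSite.ringSh O).obj.obj (op V)) (X.val.obj (op V)))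
  letI : Module (O.obj.obj (op V)) (ModSite.sect F V) := inferInstanceAs (Module ((ModSite.ringSh O).obj.obj (op V)) (F.val.obj (op V)))
  x ⊗ₜ[O.obj.obj (op V)] s

theorem tm_add_left (x x' : ModSite.sect X V) (s : ModSite.sect F V) : tm (x + x') s = tm x s + tm x' s :=
  TensorProduct.add_tmul _ _ _

theorem tm_add_right (x : ModSite.sect X V) (s s' : ModSite.sect F V) : tm x (s + s') = tm x s + tm x s' :=
  TensorProduct.tmul_add _ _ _

theorem tm_zero_left (s : ModSite.sect F V) : tm (0 : ModSite.sect X V) s = 0 := TensorProduct.zero_tmul _ _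

theorem tm_zero_right (x : ModSite.sect X V) : tm x (0 : ModSite.sect F V) = 0 := TensorProduct.tmul_zero _ _

theorem tm_smul (r : (ModSite.ringSh O).obj.obj (op V)) (x : ModSite.sect X V) (s : ModSite.sect F V) :
    tm (r • x) s = tm x (r • s) :=
  TensorProduct.smul_tmul (R := O.obj.obj (op V)) (R' := O.obj.obj (op V)) r x s

theorem tm_sum_right {ι : Type*} (x : ModSite.sect X V) (S : Finset ι) (s : ι → ModSite.sect F V) :
    tm x (∑ i ∈ S, s i) = ∑ i ∈ S, tm x (s i) := TensorProduct.tmul_sum _ _ _

theorem map_tm (g : W ⟶ V) (x : ModSite.sect X V) (s : ModSite.sect F V) :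
    (Pt X F).map g.op (tm x s) = tm ((X.val.map g.op).hom x) ((F.val.map g.op).hom s) := rfl

/-- The map on elementary tensors. -/
abbrev pmap (φ : X ⟶ Y) (F : ModSite.Mod O) : Pt X F ⟶ Pt Y F := (ModSite.toPre O).map φ ▷ (ModSite.toPre O).obj F

theorem pmap_tm (φ : X ⟶ Y) (x : ModSite.sect X V) (s : ModSite.sect F V) :
    (pmap φ F).app (op V) (tm x s) = tm (φ.val.app (op V) x) s := rfl

theorem tm_induction {motive : (Pt X F).obj (op V) → Prop} (z : (Pt X F).obj (op V)) (h0 : motive 0)
    (htm : ∀ x s, motive (tm x s)) (hadd : ∀ a b, motive a → motive b → motive (a + b)) : motive z :=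
  TensorProduct.induction_on z h0 htm hadd

theorem exists_eq_sum_tm (z : (Pt X F).obj (op V)) :
    ∃ (l : ℕ) (x : Fin l → ModSite.sect X V) (s : Fin l → ModSite.sect F V), z = ∑ k, tm (x k) (s k) := by
  induction z using tm_induction with
  | h0 => exact ⟨0, Fin.elim0, Fin.elim0, by simp⟩
  | htm x s => exact ⟨1, fun _ => x, fun _ => s, by simp⟩
  | hadd a b ha hb =>
    obtain ⟨l, x, s, rfl⟩ := ha
    obtain ⟨l', x', s', rfl⟩ := hb
    exact ⟨l + l', Fin.append x x', Fin.append s s', by simp [Fin.sum_univ_add]⟩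

/-- The sections of the sheafification coming from the presheaf tensor product. -/
abbrev eta (X F : ModSite.Mod O) : Pt X F ⟶ (ModSite.toPre O).obj ((ModSite.shPre O).obj (Pt X F)) :=
  (adj O).unit.app (Pt X F)

theorem eta_naturality (φ : X ⟶ Y) (z : (Pt X F).obj (op V)) :
    ((ModSite.toPre O).map (((TS O).flip.obj F).map φ)).app (op V) ((eta X F).app (op V) z) =
      (eta Y F).app (op V) ((pmap φ F).app (op V) z) :=
  congrArg (fun q : Pt X F ⟶ (ModSite.toPre O).obj ((ModSite.shPre O).obj (Pt Y F)) => q.app (op V) z)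
    ((adj O).unit.naturality (pmap φ F)).symm

theorem eta_locally_injective (z z' : (Pt X F).obj (op V))
    (h : (eta X F).app (op V) z = (eta X F).app (op V) z') :
    ∃ S ∈ J V, ∀ ⦃W : C⦄ (g : W ⟶ V), S g → (Pt X F).map g.op z = (Pt X F).map g.op z' := by
  haveI : Presheaf.IsLocallyInjective J ((PresheafOfModules.toPresheaf _).map (eta X F)) :=
    ((J.W_iff_isLocallyBijective _).1 (W_unit O (Pt X F))).1
  exact ⟨Presheaf.equalizerSieve (F := (PresheafOfModules.toPresheaf _).obj (Pt X F)) (X := op V) z z',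
    Presheaf.equalizerSieve_mem J ((PresheafOfModules.toPresheaf _).map (eta X F)) z z' h, fun _ _ hg => hg⟩

theorem eta_locally_surjective (σ : ((ModSite.toPre O).obj ((ModSite.shPre O).obj (Pt X F))).obj (op V)) :
    ∃ S ∈ J V, ∀ ⦃W : C⦄ (g : W ⟶ V), S g → ∃ w : (Pt X F).obj (op W),
      (eta X F).app (op W) w = ((ModSite.toPre O).obj ((ModSite.shPre O).obj (Pt X F))).map g.op σ := by
  haveI : Presheaf.IsLocallySurjective J ((PresheafOfModules.toPresheaf _).map (eta X F)) :=
    ((J.W_iff_isLocallyBijective _).1 (W_unit O (Pt X F))).2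
  exact ⟨Presheaf.imageSieve ((PresheafOfModules.toPresheaf _).map (eta X F)) σ,
    Presheaf.imageSieve_mem J ((PresheafOfModules.toPresheaf _).map (eta X F)) σ, fun _ _ hg => hg⟩

/-- Exactness of tensoring with a flat module, on local elements. -/
theorem exists_lift_tensor (hF : ModSite.IsFlat F) (φ : X ⟶ Y) (z : (Pt X F).obj (op V))
    (hz : (pmap φ F).app (op V) z = 0) :
    ∃ S ∈ J V, ∀ ⦃W : C⦄ (g : W ⟶ V), S g →
      ∃ w : (Pt (kernel φ) F).obj (op W), (pmap (kernel.ι φ) F).app (op W) w = (Pt X F).map g.op z := by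
  let T := (TS O).flip.obj F
  haveI : PreservesFiniteLimits T := hF.1
  let ev := SheafOfModules.evaluation (ModSite.ringSh O) (op V)
  haveI : PreservesFiniteLimits ev := inferInstance
  haveI : T.Additive := Functor.additive_of_preserves_binary_products T
  haveI : ev.PreservesZeroMorphisms := ⟨fun _ _ => rfl⟩
  haveI : (T ⋙ ev).PreservesZeroMorphisms := inferInstance
  let S₀ : ShortComplex (ModSite.Mod O) := ShortComplex.mk (kernel.ι φ) φ (kernel.condition φ)
  have hS₀ : S₀.Exact := S₀.exact_of_f_is_kernel (kernelIsKernel φ)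
  have hex : (S₀.map (T ⋙ ev)).Exact := hS₀.map_of_mono_of_preservesKernel _ inferInstance inferInstance
  rw [ShortComplex.moduleCat_exact_iff] at hex
  obtain ⟨(σ : ((ModSite.toPre O).obj ((ModSite.shPre O).obj (Pt (kernel φ) F))).obj (op V)), hσ⟩ := hex ((eta X F).app (op V) z) (by
    show ((ModSite.toPre O).map (T.map φ)).app (op V) ((eta X F).app (op V) z) = 0
    rw [eta_naturality, hz]
    exact map_zero _)
  obtain ⟨S, hS, hw⟩ := eta_locally_surjective (X := kernel φ) (F := F) σ
  have key : ∀ ⦃W : C⦄ (g : W ⟶ V), S g → ∃ w : (Pt (kernel φ) F).obj (op W),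
      (eta X F).app (op W) ((pmap (kernel.ι φ) F).app (op W) w) =
        (eta X F).app (op W) ((Pt X F).map g.op z) := by
    intro W g hg
    obtain ⟨w, hw⟩ := hw g hg
    refine ⟨w, ?_⟩
    rw [← eta_naturality, hw, PresheafOfModules.naturality_apply]
    refine (PresheafOfModules.naturality_apply ((ModSite.toPre O).map (T.map (kernel.ι φ))) g.op σ).trans ?_
    exact congrArg (fun t => ((ModSite.toPre O).obj ((ModSite.shPre O).obj (Pt X F))).map g.op t) hσ
  choose w hw using key
  choose T' hT' hT'' using fun W (g : W ⟶ V) (hg : S g) => eta_locally_injective _ _ (hw g hg)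
  refine ⟨Sieve.bind S.arrows fun W g hg => T' W g hg, J.bind_covering hS fun W g hg => hT' W g hg, ?_⟩
  rintro W' _ ⟨W, g', g, hg, hg', rfl⟩
  refine ⟨(Pt (kernel φ) F).map g'.op (w g hg), ?_⟩
  rw [PresheafOfModules.naturality_apply, op_comp, PresheafOfModules.map_comp_apply]
  exact hT'' W g hg g' hg'

end Groth.Agent.ModFlat16
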