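import Groth.Agent.Lib.ModFlat16.Relations
import Mathlib.LinearAlgebra.TensorProduct.Vanishing
import Mathlib.RingTheory.TensorProduct.DirectLimitFG

/-! The equational criterion of flatness for sheaves of modules. -/

set_option autoImplicit false
set_option linter.style.haveILetI false
set_option linter.unusedSectionVars false
set_option backward.isDefEq.respectTransparency false
set_option backward.isDefEq.respectTransparency.types false

universe u

open CategoryTheory CategoryTheory.Limits MonoidalCategory Opposite TensorProduct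

noncomputable section

namespace Groth.Agent.ModFlat16

open Groth.Agent.KFlat.Site

/-- Data making a vanishing tensor vanish trivially. -/
theorem vanish_data {R M N : Type*} [CommRing R] [AddCommGroup M] [Module R M] [AddCommGroup N]
    [Module R N] {l : ℕ} (m : Fin l → M) (n : Fin l → N) (h : ∑ i, n i ⊗ₜ[R] m i = 0) :
    ∃ (p k : ℕ) (g : Fin p → M) (a : Fin l ⊕ Fin p → Fin k → R) (y : Fin k → N),
      (∀ i, Sum.elim n (fun _ => 0) i = ∑ j, a i j • y j) ∧
        ∀ j, ∑ i, a i j • Sum.elim m g i = 0 := by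
  have h' : ∑ i, m i ⊗ₜ[R] n i = 0 := by
    have := congrArg (TensorProduct.comm R N M) h
    simpa only [map_sum, TensorProduct.comm_tmul, map_zero] using this
  let P : Submodule R M := Submodule.span R (Set.range m)
  have hP : P.FG := Submodule.fg_span (Set.finite_range m)
  let m' : Fin l → P := fun i => ⟨m i, Submodule.subset_span ⟨i, rfl⟩⟩
  obtain ⟨Q, hPQ, hQ, h0⟩ := TensorProduct.eq_zero_of_fg_of_subtype_eq_zero hP
    (show LinearMap.rTensor N P.subtype (∑ i, m' i ⊗ₜ[R] n i) = 0 by
      simpa only [map_sum, LinearMap.rTensor_tmul, m', Submodule.subtype_apply] using h')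
  obtain ⟨p, g, hg⟩ := Submodule.fg_iff_exists_fin_generating_family.1 hQ
  let mQ : Fin l ⊕ Fin p → Q := Sum.elim (fun i => ⟨m i, hPQ (m' i).2⟩)
    (fun j => ⟨g j, hg ▸ Submodule.subset_span ⟨j, rfl⟩⟩)
  have hspan : Submodule.span R (Set.range mQ) = ⊤ := by
    refine Submodule.map_injective_of_injective Q.injective_subtype ?_
    rw [Submodule.map_span, Submodule.map_top, Submodule.range_subtype, ← Set.range_comp]
    refine le_antisymm (Submodule.span_le.2 ?_) ?_
    · rintro _ ⟨i, rfl⟩; exact (mQ i).2
    · conv_lhs => rw [← hg]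
      refine Submodule.span_mono ?_
      rintro _ ⟨j, rfl⟩
      exact ⟨.inr j, rfl⟩
  have hsum : ∑ i, mQ i ⊗ₜ[R] Sum.elim n (fun _ => (0 : N)) i = 0 := by
    simpa [Fintype.sum_sum_type, mQ, m', map_sum, Submodule.inclusion_apply] using h0
  obtain ⟨k, a, y, h1, h2⟩ := TensorProduct.vanishesTrivially_of_sum_tmul_eq_zero R hspan hsum
  refine ⟨p, k, g, a, y, h1, fun j => ?_⟩
  have := congrArg Q.subtype (h2 j)
  simp only [map_sum, map_smul, map_zero] at this
  refine Eq.trans (Finset.sum_congr rfl fun i _ => ?_) this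
  cases i <;> rfl

variable {C : Type u} [SmallCategory C] {J : GrothendieckTopology C} {O : Sheaf J CommRingCat.{u}}

/-- Restriction of sections of the ring. -/
abbrev rmap (O : Sheaf J CommRingCat.{u}) {U V : C} (g : V ⟶ U) : O.obj.obj (op U) →+* O.obj.obj (op V) :=
  (O.obj.map g.op).hom

theorem rmap_comp {U V W : C} (g : V ⟶ U) (h : W ⟶ V) (r : O.obj.obj (op U)) :
    rmap O (h ≫ g) r = rmap O h (rmap O g r) := by
  simp only [rmap, op_comp, Functor.map_comp]
  rfl

/-- Restriction of sections of a module. -/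
abbrev smap (F : ModSite.Mod O) {U V : C} (g : V ⟶ U) : ModSite.sect F U →+ ModSite.sect F V :=
  (F.val.map g.op).hom.toAddMonoidHom

theorem smap_smul {F : ModSite.Mod O} {U V : C} (g : V ⟶ U) (r : O.obj.obj (op U)) (x : ModSite.sect F U) :
    smap F g (r • x) = rmap O g r • smap F g x :=
  F.val.map_smul g.op r x

theorem smap_comp {F : ModSite.Mod O} {U V W : C} (g : V ⟶ U) (h : W ⟶ V) (x : ModSite.sect F U) :
    smap F (h ≫ g) x = smap F h (smap F g x) := by
  show (F.val.map (h ≫ g).op) x = _
  rw [op_comp, F.val.map_comp_apply]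
  rfl

theorem smap_id {F : ModSite.Mod O} {U : C} (x : ModSite.sect F U) : smap F (𝟙 U) x = x := by
  show (F.val.map (𝟙 U).op) x = _
  rw [op_id, F.val.map_id]
  rfl

/-- Relations in `F` are locally trivial. -/
def RelTriv (F : ModSite.Mod O) : Prop :=
  ∀ (U : C) (n : ℕ) (f : Fin n → O.obj.obj (op U)) (s : Fin n → ModSite.sect F U),
    ∑ j, f j • s j = 0 →
    ∃ S ∈ J U, ∀ ⦃V : C⦄ (g : V ⟶ U), S g →
      ∃ (l : ℕ) (t : Fin l → ModSite.sect F V) (a : Fin n → Fin l → O.obj.obj (op V)),
        (∀ j, (F.val.map g.op).hom (s j) = ∑ k, a j k • t k) ∧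
        (∀ k, ∑ j, a j k * (O.obj.map g.op).hom (f j) = 0)

theorem relTriv_of_isFlat {F : ModSite.Mod O} (hF : ModSite.IsFlat F) : RelTriv F :=
  fun U n f s h => relation_trivial hF U n f s h

/-- Finitely many relations are simultaneously locally trivial. -/
theorem RelTriv.many {F : ModSite.Mod O} (hF : RelTriv F) {U : C} {n : ℕ} (s : Fin n → ModSite.sect F U) :
    ∀ (m : ℕ) (f : Fin m → Fin n → O.obj.obj (op U)), (∀ r, ∑ j, f r j • s j = 0) →
    ∃ S ∈ J U, ∀ ⦃V : C⦄ (g : V ⟶ U), S g →
      ∃ (l : ℕ) (t : Fin l → ModSite.sect F V) (a : Fin n → Fin l → O.obj.obj (op V)),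
        (∀ j, smap F g (s j) = ∑ k, a j k • t k) ∧
        (∀ r k, ∑ j, a j k * rmap O g (f r j) = 0) := by
  classical
  intro m
  induction m with
  | zero =>
    intro f _
    refine ⟨⊤, J.top_mem U, fun V g _ => ⟨n, fun j => smap F g (s j),
      fun j k => if j = k then 1 else 0, fun j => ?_, fun r => r.elim0⟩⟩
    rw [Finset.sum_eq_single j]
    · show _ = (if j = j then (1 : O.obj.obj (op V)) else 0) • smap F g (s j)
      rw [if_pos rfl]
      exact (one_smul (O.obj.obj (op V)) _).symm
    · intro k _ hk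
      show (if j = k then (1 : O.obj.obj (op V)) else 0) • smap F g (s k) = 0
      rw [if_neg (Ne.symm hk)]
      exact zero_smul (O.obj.obj (op V)) _
    · simp
  | succ m ih =>
    intro f hf
    obtain ⟨S, hS, hS'⟩ := ih (fun r => f r.castSucc) (fun r => hf _)
    choose l t a hsa hfa using hS'
    have hrel : ∀ ⦃V : C⦄ (g : V ⟶ U) (hg : S g),
        ∑ k, (∑ j, a g hg j k * rmap O g (f (Fin.last m) j)) • t g hg k = 0 := by
      intro V g hg
      simp only [Finset.sum_smul]
      rw [Finset.sum_comm]
      have h0 : smap F g (∑ j, f (Fin.last m) j • s j) = 0 := by rw [hf]; exact map_zero _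
      rw [map_sum] at h0
      refine Eq.trans (Finset.sum_congr rfl fun j _ => ?_) h0
      rw [smap_smul, hsa, Finset.smul_sum]
      refine Finset.sum_congr rfl fun k _ => ?_
      rw [mul_comm, mul_smul]
    choose T hT hT' using fun V (g : V ⟶ U) (hg : S g) => hF V _ _ (t g hg) (hrel g hg)
    refine ⟨Sieve.bind S.arrows fun V g hg => T V g hg, J.bind_covering hS fun V g hg => hT V g hg, ?_⟩
    rintro W _ ⟨V, h, g, hg, hh, rfl⟩
    obtain ⟨l', t', b, htb, hfb⟩ := hT' V g hg h hh
    refine ⟨l', t', fun j q => ∑ k, rmap O h (a g hg j k) * b k q, fun j => ?_, fun r q => ?_⟩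
    · rw [smap_comp, hsa, map_sum]
      simp only [Finset.sum_smul]
      rw [Finset.sum_comm]
      refine Finset.sum_congr rfl fun k _ => ?_
      rw [smap_smul, show smap F h (t g hg k) = ∑ q, b k q • t' q from htb k, Finset.smul_sum]
      exact Finset.sum_congr rfl fun q _ => (mul_smul _ _ _).symm
    · have key : (∑ j, (∑ k, rmap O h (a g hg j k) * b k q) * rmap O (h ≫ g) (f r j)) =
          ∑ k, b k q * rmap O h (∑ j, a g hg j k * rmap O g (f r j)) := by
        simp only [Finset.sum_mul, map_sum, Finset.mul_sum, map_mul, rmap_comp]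
        rw [Finset.sum_comm]
        exact Finset.sum_congr rfl fun k _ => Finset.sum_congr rfl fun j _ => by ring
      rw [key]
      induction r using Fin.lastCases with
      | last => exact hfb q
      | cast i => exact Finset.sum_eq_zero fun k _ => by rw [hfa g hg i k, map_zero, mul_zero]

theorem tm_sum_left {F X : ModSite.Mod O} {V : C} {ι : Type*} (S : Finset ι) (x : ι → ModSite.sect X V)
    (s : ModSite.sect F V) : tm (∑ i ∈ S, x i) s = ∑ i ∈ S, tm (x i) s :=
  TensorProduct.sum_tmul _ _ _

theorem tm_smul' {F X : ModSite.Mod O} {V : C} (r : O.obj.obj (op V)) (x : ModSite.sect X V)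
    (s : ModSite.sect F V) : tm (r • x) s = tm x (r • s) :=
  tm_smul r x s

/-- An element killed by a monomorphism is locally zero. -/
theorem RelTriv.locally_zero {F X Y : ModSite.Mod O} (hF : RelTriv F) (φ : X ⟶ Y) [Mono φ] {V : C}
    (z : (Pt X F).obj (op V)) (hz : (pmap φ F).app (op V) z = 0) :
    ∃ S ∈ J V, ∀ ⦃W : C⦄ (g : W ⟶ V), S g → (Pt X F).map g.op z = 0 := by
  obtain ⟨l, x, s, rfl⟩ := exists_eq_sum_tm z
  simp only [map_sum, pmap_tm] at hz
  obtain ⟨p, k, g, a, y, hn, hrel⟩ := vanish_data (R := O.obj.obj (op V)) (M := ModSite.sect F V)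
    (N := ModSite.sect Y V) s (fun i => φ.val.app (op V) (x i)) hz
  let u : Fin (l + p) → ModSite.sect F V := fun i => Sum.elim s g (finSumFinEquiv.symm i)
  obtain ⟨S, hS, hS'⟩ := hF.many u k (fun r i => a (finSumFinEquiv.symm i) r) (fun r => by
    rw [← finSumFinEquiv.sum_comp]
    simpa [u] using hrel r)
  refine ⟨S, hS, fun W h hh => ?_⟩
  obtain ⟨q, t, c, htc, hfc⟩ := hS' h hh
  have h1 : ∀ i, smap F h (s i) = ∑ j, c (finSumFinEquiv (Sum.inl i)) j • t j := fun i => by
    rw [← htc]
    simp [u]
  have hker : ∀ j, (∑ i, c (finSumFinEquiv (Sum.inl i)) j • smap X h (x i)) = 0 := by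
    intro j
    haveI : Mono ((SheafOfModules.evaluation (ModSite.ringSh O) (op W)).map φ) := inferInstance
    refine (ModuleCat.mono_iff_injective ((SheafOfModules.evaluation (ModSite.ringSh O) (op W)).map φ)).1
      inferInstance ?_
    show φ.val.app (op W) _ = φ.val.app (op W) _
    rw [map_sum, map_zero]
    calc ∑ i, φ.val.app (op W) (c (finSumFinEquiv (Sum.inl i)) j • smap X h (x i))
        = ∑ i, c (finSumFinEquiv i) j • smap Y h (Sum.elim (fun i => φ.val.app (op V) (x i)) (fun _ => 0) i) := by
          rw [Fintype.sum_sum_type]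
          have h0 : ∀ i : Fin p, c (finSumFinEquiv (Sum.inr i)) j •
              smap Y h (Sum.elim (fun i => φ.val.app (op V) (x i)) (fun _ => 0) (Sum.inr i)) = 0 := fun i => by
            rw [show smap Y h (Sum.elim (fun i => φ.val.app (op V) (x i)) (fun _ => 0) (Sum.inr i)) = 0 from
              map_zero _, smul_zero]
          rw [Finset.sum_eq_zero fun i _ => h0 i, add_zero]
          refine Finset.sum_congr rfl fun i _ => ?_
          refine ((φ.val.app (op W)).hom.map_smul _ _).trans ?_
          exact congrArg _ (PresheafOfModules.naturality_apply φ.val h.op (x i))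
      _ = ∑ r, (∑ i, c (finSumFinEquiv i) j * rmap O h (a i r)) • smap Y h (y r) := by
          simp only [Finset.sum_smul]
          rw [Finset.sum_comm]
          refine Finset.sum_congr rfl fun i _ => ?_
          rw [hn i, map_sum, Finset.smul_sum]
          exact Finset.sum_congr rfl fun r _ => by rw [smap_smul, mul_smul]
      _ = 0 := Finset.sum_eq_zero fun r _ => by
          have h2 := hfc r j
          rw [← finSumFinEquiv.sum_comp] at h2
          simp only [Equiv.symm_apply_apply] at h2
          rw [h2, zero_smul]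
  simp only [map_sum, map_tm]
  calc ∑ i, tm (smap X h (x i)) (smap F h (s i))
      = ∑ j, tm (∑ i, c (finSumFinEquiv (Sum.inl i)) j • smap X h (x i)) (t j) := by
        simp only [h1, tm_sum_right, ← tm_smul']
        rw [Finset.sum_comm]
        refine Finset.sum_congr rfl fun j _ => ?_
        exact (tm_sum_left _ _ _).symm
    _ = 0 := Finset.sum_eq_zero fun j _ => by rw [hker, tm_zero_left]

/-- The equational criterion of flatness. -/
theorem isFlat_of_relTriv {F : ModSite.Mod O} (hF : RelTriv F) : ModSite.IsFlat F := by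
  let T := (TS O).flip.obj F
  have hm : T.PreservesMonomorphisms := ⟨fun {X Y} φ _ => by
    haveI : T.Additive := Functor.additive_of_preserves_binary_products T
    haveI : (ModSite.toPre O).ReflectsMonomorphisms := inferInstanceAs (SheafOfModules.forget (ModSite.ringSh O)).ReflectsMonomorphisms
    refine (ModSite.toPre O).mono_of_mono_map (PresheafOfModules.mono_of_injective fun {U} => ?_)
    refine (injective_iff_map_eq_zero _).2 fun σ hσ => ?_
    obtain ⟨S, hS, hw⟩ := eta_locally_surjective (X := X) (F := F) (V := U.unop) σ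
    have key : ∀ ⦃W : C⦄ (g : W ⟶ U.unop), S g → ∃ w : (Pt X F).obj (op W), ∃ S' ∈ J W,
        (eta X F).app (op W) w = ((ModSite.toPre O).obj ((ModSite.shPre O).obj (Pt X F))).map g.op σ ∧
        ∀ ⦃W' : C⦄ (g' : W' ⟶ W), S' g' → (Pt X F).map g'.op w = 0 := by
      intro W g hg
      obtain ⟨w, hw⟩ := hw g hg
      have h0 : (eta Y F).app (op W) ((pmap φ F).app (op W) w) = (eta Y F).app (op W) 0 := by
        rw [map_zero, ← eta_naturality, hw]
        refine (PresheafOfModules.naturality_apply ((ModSite.toPre O).map (T.map φ)) g.op σ).trans ?_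
        exact (congrArg (fun t => ((ModSite.toPre O).obj ((ModSite.shPre O).obj (Pt Y F))).map g.op t) hσ).trans (map_zero _)
      obtain ⟨S₁, hS₁, hS₁'⟩ := eta_locally_injective _ _ h0
      have h1 : ∀ ⦃W' : C⦄ (g' : W' ⟶ W), S₁ g' →
          (pmap φ F).app (op W') ((Pt X F).map g'.op w) = 0 := fun W' g' hg' => by
        rw [PresheafOfModules.naturality_apply, hS₁' g' hg', map_zero]
      choose S₂ hS₂ hS₂' using fun W' (g' : W' ⟶ W) (hg' : S₁ g') => hF.locally_zero φ _ (h1 g' hg')
      refine ⟨w, Sieve.bind S₁.arrows fun W' g' hg' => S₂ W' g' hg',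
        J.bind_covering hS₁ fun W' g' hg' => hS₂ W' g' hg', hw, ?_⟩
      rintro W'' _ ⟨W', h', g', hg', hh', rfl⟩
      rw [op_comp, PresheafOfModules.map_comp_apply]
      exact hS₂' W' g' hg' h' hh'
    choose w S' hS' hw' hw0 using key
    refine (Presheaf.IsSheaf.isSeparated (ModSite.toAb (T.obj X)).property) U.unop
      (Sieve.bind S.arrows fun W g hg => S' g hg) (J.bind_covering hS fun W g hg => hS' g hg) _ _ ?_
    rintro W' _ ⟨W, g', g, hg, hg', rfl⟩
    change (T.obj X).val.map (g' ≫ g).op σ = (T.obj X).val.map (g' ≫ g).op 0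
    rw [map_zero, op_comp, (T.obj X).val.map_comp_apply]
    refine (congrArg _ (hw' g hg).symm).trans ?_
    refine (PresheafOfModules.naturality_apply (eta X F) g'.op (w g hg)).symm.trans ?_
    rw [hw0 g hg g' hg']
    exact map_zero _⟩
  refine (isFlat_iff F).1 (isFlat_of_left ⟨fun {A B} f _ => ?_⟩)
  exact ((MorphismProperty.monomorphisms _).arrow_mk_iso_iff
    (Arrow.isoMk ((flipObjIso O F).app A) ((flipObjIso O F).app B)
      ((flipObjIso O F).hom.naturality f).symm)).2
    (MorphismProperty.monomorphisms.infer_property (T.map f))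

end Groth.Agent.ModFlat16
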