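import Groth.Agent.Lib.ModFlat16.BasisTop
import Mathlib.Topology.Sheaves.Points
import Mathlib.LinearAlgebra.Finsupp.LSum

/-! Spreading out from stalks. -/

set_option autoImplicit false
set_option linter.style.haveILetI false
set_option linter.unusedSectionVars false
set_option backward.isDefEq.respectTransparency false
set_option backward.isDefEq.respectTransparency.types false

universe u

open CategoryTheory CategoryTheory.Limits Opposite TopologicalSpace

noncomputable section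

namespace Groth.Agent.ModFlat16

variable {X : TopCat.{u}} {O : TopCat.Sheaf CommRingCat.{u} X} {M N : ModSite.Mod O}

theorem exists_mem_of_covd {Q : Opens X → Prop} (h : Covd (Opens.grothendieckTopology X) Q) (x : X) :
    ∃ U : Opens X, x ∈ U ∧ Q U := by
  obtain ⟨S, hS, h'⟩ := h ⊤
  obtain ⟨U, f, hf, hx⟩ := hS x trivial
  exact ⟨U, hx, h' f hf⟩

/-- The point. -/
abbrev pt (x : X) : GrothendieckTopology.Point.{u} (Opens.grothendieckTopology X) :=
  Opens.pointGrothendieckTopology x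

/-- The fibre element. -/
abbrev mk {x : X} {U : Opens X} (h : x ∈ U) : (pt x).fiber.obj U := ⟨⟨h⟩⟩

theorem exists_lifts {ι : Type*} [Finite ι] (x : X) (t : ι → ModSite.stalkAb (pt x) M) {U : Opens X}
    (hU : x ∈ U) :
    ∃ (V : Opens X) (_ : V ⟶ U) (hV : x ∈ V) (g : ι → ModSite.sect M V),
      ∀ i, ModSite.germ (pt x) M V (mk hV) (g i) = t i := by
  obtain ⟨V, f, v, -, h⟩ := exists_nbhd_forall (pt x)
    (fun i Y y => ∃ g : ModSite.sect M Y, ModSite.germ (pt x) M Y y g = t i)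
    (fun i Y Z f z ⟨g, hg⟩ => ⟨smap M f g, by rw [germ_smap]; exact hg⟩)
    (fun i => by
      obtain ⟨Y, y, g, hg⟩ := (pt x).toPresheafFiber_jointly_surjective (P := (ModSite.toAb M).obj) (t i)
      exact ⟨Y, y, g, hg⟩) U (mk hU)
  choose g hg using h
  exact ⟨V, f, v.down.down, g, hg⟩

theorem stalkMap_germ (φ : M ⟶ N) (x : X) {U : Opens X} (v : (pt x).fiber.obj U) (s : ModSite.sect M U) :
    (ModSite.stalkMap (pt x) φ).hom (ModSite.germ (pt x) M U v s) =
      ModSite.germ (pt x) N U v (φ.val.app (op U) s) :=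
  (pt x).toPresheafFiber_naturality_apply ((SheafOfModules.toSheaf (ModSite.ringSh O)).map φ).hom U v s

theorem exists_epi_restr (φ : M ⟶ N) [SheafOfModules.IsFiniteType (R := ModSite.ringSh O) N] (x : X)
    (hx : Function.Surjective (ModSite.stalkMap (pt x) φ).hom) :
    ∃ U : Opens X, x ∈ U ∧ Epi ((ModSite.restr O U).map φ) := by
  obtain ⟨U, hxU, ι, hι, s, hs⟩ := exists_mem_of_covd (covd_hasGens (M := N)) x
  choose t ht using fun i => hx (ModSite.germ (pt x) N U (mk hxU) (s i))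
  obtain ⟨V, f, hxV, g, hg⟩ := exists_lifts x t hxU
  obtain ⟨W, l, w, -, he⟩ := exists_nbhd_eq (pt x) V (mk hxV) (fun i => φ.val.app (op V) (g i))
    (fun i => smap N f (s i)) (fun i => by
      rw [← stalkMap_germ, hg, ht, germ_smap]
      rfl)
  refine ⟨W, w.down.down, epi_restr_of_gens φ (gens_smap (l ≫ f) hs) (fun i => smap M l (g i)) fun i => ?_⟩
  rw [app_smap, he, ← smap_comp]

theorem exists_basis_of_germs [SheafOfModules.IsFinitePresentation (R := ModSite.ringSh O) M] (x : X)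
    {ι : Type u} [Fintype ι] (b : Module.Basis ι (ModSite.stalkRing (pt x) O) (ModSite.stalkMod (pt x) M)) :
    ∃ U : Opens X, x ∈ U ∧ ∃ e : ι → ModSite.sect M U, IsBasis M U e := by
  classical
  obtain ⟨U, hxU, α, κ, hα, hκ, s, R, hs, hR⟩ := exists_mem_of_covd (covd_hasPres (M := M)) x
  obtain ⟨V, f, hxV, e, he⟩ := exists_lifts (M := M) x (fun i => b i) hxU
  obtain ⟨T, hT, hA⟩ := cov_iInter' (J := Opens.grothendieckTopology X) (fun i => gens_apply hs f (e i))
  obtain ⟨V₁, f₁, hf₁, hxV₁⟩ := hT x hxV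
  choose A hA using fun i => hA i f₁ hf₁
  -- lift the coefficients of the germs of the generators
  let τ : α → ι → ModSite.stalkRing (pt x) O := fun a i =>
    b.repr (ModSite.germ (pt x) M U (mk hxU) (s a)) i
  obtain ⟨V₂, f₂, v₂, -, hB⟩ := exists_nbhd_forall (pt x)
    (fun (q : α × ι) Y y => ∃ r : O.obj.obj (op Y), ModSite.germRing (pt x) (O := O) Y y r = τ q.1 q.2)
    (fun q Y Z h z ⟨r, hr⟩ => ⟨rmap O h r, by rw [germRing_rmap]; exact hr⟩)
    (fun q => by
      obtain ⟨Y, y, r, hr⟩ := (pt x).toPresheafFiber_jointly_surjective (P := O.obj) (τ q.1 q.2)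
      exact ⟨Y, y, r, hr⟩) V₁ (mk hxV₁)
  choose B hB using hB
  let k₂ : V₂ ⟶ U := (f₂ ≫ f₁) ≫ f
  let e₂ : ι → ModSite.sect M V₂ := fun i => smap M (f₂ ≫ f₁) (e i)
  let s₂ : α → ModSite.sect M V₂ := fun a => smap M k₂ (s a)
  let A₂ : ι → α → O.obj.obj (op V₂) := fun i a => rmap O f₂ (A i a)
  have heA : ∀ i, e₂ i = ∑ a, A₂ i a • s₂ a := fun i => by
    show smap M (f₂ ≫ f₁) (e i) = _
    rw [smap_comp, hA i, smap_comb]
    refine Finset.sum_congr rfl fun a _ => ?_
    rw [← smap_comp]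
    simp only [A₂, s₂, k₂, Category.assoc]
  have hge : ∀ i, ModSite.germ (pt x) M V₂ v₂ (e₂ i) = b i := fun i => by
    rw [germ_smap]; exact he i
  have hgs : ∀ a, ModSite.germ (pt x) M V₂ v₂ (s₂ a) =
      ModSite.germ (pt x) M V₂ v₂ (∑ i, B (a, i) • e₂ i) := fun a => by
    rw [germ_sum]
    refine Eq.trans ?_ (Finset.sum_congr rfl fun i _ => ((ModSite.germ_smul (pt x) M V₂ v₂ _ _).trans
      (by rw [hB, hge])).symm)
    refine Eq.trans ?_ (b.sum_repr (ModSite.germ (pt x) M U (mk hxU) (s a))).symm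
    rw [germ_smap]
    rfl
  obtain ⟨V₃, f₃, v₃, hv₃, hs₃⟩ := exists_nbhd_eq (pt x) V₂ v₂ s₂ (fun a => ∑ i, B (a, i) • e₂ i) hgs
  -- the two families of relations on the lifted sections
  let e₃ : ι → ModSite.sect M V₃ := fun i => smap M f₃ (e₂ i)
  let B₃ : α → ι → O.obj.obj (op V₃) := fun a i => rmap O f₃ (B (a, i))
  let A₃ : ι → α → O.obj.obj (op V₃) := fun i a => rmap O f₃ (A₂ i a)
  let k₃ : V₃ ⟶ U := f₃ ≫ k₂
  have hsB : ∀ a, smap M k₃ (s a) = ∑ i, B₃ a i • e₃ i := fun a => by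
    rw [smap_comp k₂ f₃]
    exact (hs₃ a).trans (smap_comb f₃ _ _)
  have heA₃ : ∀ i, e₃ i = ∑ a, A₃ i a • smap M k₃ (s a) := fun i => by
    show smap M f₃ (e₂ i) = _
    rw [heA, smap_comb]
    refine Finset.sum_congr rfl fun a _ => ?_
    rw [← smap_comp]
  let Z : κ ⊕ ι → ι → O.obj.obj (op V₃) := Sum.elim (fun r j => ∑ a, rmap O k₃ (R r a) * B₃ a j)
    (fun i j => (∑ a, A₃ i a * B₃ a j) - if i = j then 1 else 0)
  have hZ : ∀ q, ∑ j, Z q j • e₃ j = 0 := by
    rintro (r | i)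
    · simp only [Z, Sum.elim_inl, Finset.sum_smul, mul_smul]
      rw [Finset.sum_comm]
      refine Eq.trans (Finset.sum_congr rfl fun a _ => ?_) ((smap_comb k₃ (R r) s).symm.trans ?_)
      · rw [hsB, Finset.smul_sum]
      · exact (congrArg (smap M k₃) (hR.1 r)).trans (map_zero _)
    · simp only [Z, Sum.elim_inr, sub_smul, Finset.sum_sub_distrib, ite_smul, _root_.one_smul, _root_.zero_smul,
        Finset.sum_ite_eq, Finset.mem_univ, if_true, Finset.sum_smul, mul_smul, sub_eq_zero]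
      rw [Finset.sum_comm, heA₃ i]
      exact Finset.sum_congr rfl fun a _ => by rw [hsB, Finset.smul_sum]
  have hZ0 : ∀ q : (κ ⊕ ι) × ι, ModSite.germRing (pt x) (O := O) V₃ v₃ (Z q.1 q.2) =
      ModSite.germRing (pt x) (O := O) V₃ v₃ 0 := fun q => by
    have h : ∑ j, ModSite.germRing (pt x) (O := O) V₃ v₃ (Z q.1 j) • b j = 0 := by
      have h0 := congrArg (ModSite.germ (pt x) M V₃ v₃) (hZ q.1)
      rw [germ_sum] at h0
      refine Eq.trans (Finset.sum_congr rfl fun j _ => ?_) (h0.trans (map_zero _))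
      rw [ModSite.germ_smul, germ_smap, hv₃, hge]
    rw [Fintype.linearIndependent_iff.1 b.linearIndependent _ h q.2]
    exact (map_zero _).symm
  obtain ⟨V₄, f₄, v₄, -, h₄⟩ := exists_nbhd_eqRing (pt x) V₃ v₃ (fun q : (κ ⊕ ι) × ι => Z q.1 q.2) 0 hZ0
  let k₄ : V₄ ⟶ U := f₄ ≫ k₃
  refine ⟨V₄, v₄.down.down, fun i => smap M f₄ (e₃ i), ?_⟩
  -- generation
  have hsp : ∀ (W' : Opens X) (m' : W' ⟶ V₄) (a : α),
      smap M (m' ≫ k₄) (s a) = ∑ i, rmap O (m' ≫ f₄) (B₃ a i) • smap M m' (smap M f₄ (e₃ i)) := by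
    intro W' m' a
    rw [← Category.assoc, smap_comp k₃, hsB, smap_comb]
    refine Finset.sum_congr rfl fun i _ => ?_
    show _ • smap M (m' ≫ f₄) (smap M f₃ (smap M (f₂ ≫ f₁) (e i))) =
      _ • smap M m' (smap M f₄ (smap M f₃ (smap M (f₂ ≫ f₁) (e i))))
    simp only [← smap_comp, Category.assoc]
  -- independence
  have huniq : ∀ (W' : Opens X) (m' : W' ⟶ V₄) (c : ι → O.obj.obj (op W')),
      ∑ i, c i • smap M m' (smap M f₄ (e₃ i)) = 0 → c = 0 := by
    intro W' m' c hc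
    let F : α → O.obj.obj (op W') := fun a => ∑ i, c i * rmap O (m' ≫ f₄) (A₃ i a)
    have hF : ∑ a, F a • smap M (m' ≫ k₄) (s a) = 0 := by
      refine Eq.trans ?_ hc
      simp only [F, Finset.sum_smul, mul_smul]
      rw [Finset.sum_comm]
      refine Finset.sum_congr rfl fun i _ => ?_
      rw [← Finset.smul_sum, heA₃ i, ← smap_comp, smap_comb]
      refine congrArg (c i • ·) (Finset.sum_congr rfl fun a _ => ?_)
      rw [← smap_comp, Category.assoc]
    obtain ⟨S, hS, hd⟩ := rels_apply hR (m' ≫ k₄) F hF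
    funext j
    show c j = 0
    refine (Presheaf.IsSheaf.isSeparated O.property) W' _ hS _ _ fun W₁ n hn => ?_
    show rmap O n (c j) = rmap O n 0
    rw [map_zero]
    obtain ⟨d, hd⟩ := hd n hn
    have hz : ∀ q : (κ ⊕ ι) × ι, rmap O (n ≫ m' ≫ f₄) (Z q.1 q.2) = 0 := fun q => by
      rw [← Category.assoc, rmap_comp f₄, h₄]
      exact (congrArg _ (map_zero _)).trans (map_zero _)
    have hl : ∑ i, rmap O n (c i) * rmap O (n ≫ m' ≫ f₄) (Z (Sum.inr i) j) = 0 :=
      Finset.sum_eq_zero fun i _ => by rw [hz (Sum.inr i, j), mul_zero]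
    simp only [Z, Sum.elim_inr, map_sub, map_sum, map_mul, apply_ite (rmap O (n ≫ m' ≫ f₄)), map_one,
      map_zero, mul_sub, Finset.sum_sub_distrib, mul_ite, _root_.mul_one, mul_zero, Finset.sum_ite_eq',
      Finset.mem_univ, if_true, sub_eq_zero, Finset.mul_sum] at hl
    rw [← hl, Finset.sum_comm]
    have hFa : ∀ a, ∑ i, rmap O n (c i) * rmap O (n ≫ m' ≫ f₄) (A₃ i a) = rmap O n (F a) := fun a => by
      simp only [F, map_sum, map_mul, rmap_comp (m' ≫ f₄) n]
    calc _ = ∑ a, rmap O n (F a) * rmap O (n ≫ m' ≫ f₄) (B₃ a j) := by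
          refine Finset.sum_congr rfl fun a _ => ?_
          rw [← hFa a, Finset.sum_mul]
          simp only [mul_assoc]
      _ = ∑ r, d r * rmap O (n ≫ m' ≫ f₄) (Z (Sum.inl r) j) := by
          simp only [hd, Finset.sum_mul, Z, Sum.elim_inl, map_sum, map_mul, Finset.mul_sum]
          rw [Finset.sum_comm]
          refine Finset.sum_congr rfl fun r _ => Finset.sum_congr rfl fun a _ => ?_
          simp only [B₃, k₄, mul_assoc, ← rmap_comp, Category.assoc]
      _ = 0 := Finset.sum_eq_zero fun r _ => by rw [hz (Sum.inl r, j), mul_zero]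
  have hG : Gens M V₄ fun i => smap M f₄ (e₃ i) := gens_mk _ fun {W} m y => by
    obtain ⟨S, hS, hc⟩ := gens_apply hs (m ≫ k₄) y
    refine ⟨S, hS, fun W₁ n hn => ?_⟩
    obtain ⟨c, hc⟩ := hc n hn
    refine ⟨fun i => ∑ a, c a * rmap O ((n ≫ m) ≫ f₄) (B₃ a i), ?_⟩
    simp only [hc, ← Category.assoc n m k₄, hsp, Finset.smul_sum, Finset.sum_smul, mul_smul]
    exact Finset.sum_comm
  intro W m y
  exact isBasis_of_gens hG (fun {W} m c => huniq W m c) m y

end Groth.Agent.ModFlat16
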