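import Groth.Prelude.Def_ModSite
import Mathlib.Algebra.Category.ModuleCat.Sheaf.PullbackFree
import Mathlib.Algebra.Category.Grp.Limits
import Mathlib.CategoryTheory.Sites.Sheaf

/-! The pullback of the structure sheaf along a morphism of ringed sites is the structure sheaf. -/

universe u

open CategoryTheory CategoryTheory.Limits Opposite

set_option linter.style.haveILetI false
set_option backward.isDefEq.respectTransparency false
set_option backward.isDefEq.respectTransparency.types false

namespace Groth.Agent.ModFlat16

variable {C D : Type u} [SmallCategory C] [SmallCategory D] {J : GrothendieckTopology C}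
  {K : GrothendieckTopology D}

/-- The final sheaf of sets. -/
abbrev pointSheaf (J : GrothendieckTopology C) : Sheaf J (Type u) :=
  Sheaf.terminal J (X := (PUnit : Type u)) Types.isTerminalPUnit

/-- Sections of a sheaf of sets are maps from the final sheaf. -/
def pointHomEquiv (F : Sheaf J (Type u)) : (pointSheaf J ⟶ F) ≃ F.obj.sections where
  toFun h := ⟨fun X => h.hom.app X PUnit.unit, fun f => (ConcreteCategory.congr_hom (h.hom.naturality f) PUnit.unit).symm⟩
  invFun s := ⟨{ app := fun X => ↾fun _ => s.val X, naturality := fun _ _ f => by ext; exact (s.property f).symm }⟩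
  left_inv h := by ext X ⟨⟩; rfl
  right_inv s := rfl

/-- Restricting global sections along an exact continuous functor is bijective. -/
theorem bijective_sectionsPrecomp_of_exact (u : D ⥤ C) [u.IsContinuous K J]
    (hu : PreservesFiniteLimits (u.sheafPullback (Type u) K J)) (F : Sheaf J (Type u)) :
    Function.Bijective (fun s : F.obj.sections =>
      (⟨fun X => s.val (u.op.obj X), fun f => s.property (u.op.map f)⟩ : (u.op ⋙ F.obj).sections)) := by
  let η : pointSheaf K ⟶ (u.sheafPushforwardContinuous (Type u) K J).obj (pointSheaf J) :=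
    ⟨{ app := fun _ => 𝟙 _ }⟩
  let adj := u.sheafAdjunctionContinuous (Type u) K J
  let j := (adj.homEquiv _ _).symm η
  haveI : IsIso j := by
    haveI : PreservesLimit (Functor.empty.{0} (Sheaf K (Type u))) (u.sheafPullback (Type u) K J) := inferInstance
    exact isIso_of_isTerminal (IsTerminal.isTerminalObj (u.sheafPullback (Type u) K J) _
      (Sheaf.isTerminalTerminal K Types.isTerminalPUnit)) (Sheaf.isTerminalTerminal J Types.isTerminalPUnit) j
  let e : F.obj.sections ≃ (u.op ⋙ F.obj).sections :=
    (pointHomEquiv F).symm.trans (((asIso j).homCongr (Iso.refl F)).symm.trans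
      ((adj.homEquiv _ _).trans (pointHomEquiv ((u.sheafPushforwardContinuous (Type u) K J).obj F))))
  convert e.bijective using 1
  funext s
  simp only [e, Equiv.trans_apply, Iso.homCongr_symm, Iso.homCongr_apply, Iso.refl_symm, Iso.refl_hom,
    Iso.symm_inv, asIso_hom, Category.comp_id, Adjunction.homEquiv_naturality_right, j, Equiv.apply_symm_apply]
  rfl

variable {O_C : Sheaf J CommRingCat.{u}} {O_D : Sheaf K CommRingCat.{u}}

theorem bijective_pushSections (f : ModSite.RMor O_C O_D) (M : ModSite.Mod O_C) :
    Function.Bijective (SheafOfModules.pushforwardSections f.sharpR (M := M)) :=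
  bijective_sectionsPrecomp_of_exact (K := K) f.fn f.exact
    ((sheafCompose J (forget AddCommGrpCat.{u})).obj (ModSite.toAb M))

theorem isIso_pullUnit (f : ModSite.RMor O_C O_D) :
    IsIso (SheafOfModules.pullbackObjUnitToUnit f.sharpR) := by
  rw [isIso_iff_coyoneda_map_bijective]
  intro M
  rw [← (f.adj.homEquiv _ _).bijective.of_comp_iff', ← (SheafOfModules.unitHomEquiv _).bijective.of_comp_iff']
  convert! (bijective_pushSections f M).comp (SheafOfModules.unitHomEquiv M).bijective
  ext g : 1
  dsimp
  rw [SheafOfModules.pushforwardSections_unitHomEquiv, EmbeddingLike.apply_eq_iff_eq,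
    Adjunction.homEquiv_naturality_right,
    SheafOfModules.pullbackPushforwardAdjunction_homEquiv_pullbackObjUnitToUnit]

/-- Pullback of the structure sheaf. -/
noncomputable def pullUnitIso (f : ModSite.RMor O_C O_D) :
    f.pull.obj (SheafOfModules.unit (ModSite.ringSh O_D)) ≅ SheafOfModules.unit (ModSite.ringSh O_C) :=
  @asIso _ _ _ _ (SheafOfModules.pullbackObjUnitToUnit f.sharpR) (isIso_pullUnit f)

/-- Pullback of free modules. -/
noncomputable def pullFreeIso (f : ModSite.RMor O_C O_D) (I : Type u) :
    f.pull.obj (SheafOfModules.free (R := ModSite.ringSh O_D) I) ≅ SheafOfModules.free (R := ModSite.ringSh O_C) I :=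
  haveI : PreservesColimitsOfShape (Discrete I) f.pull :=
    f.adj.leftAdjoint_preservesColimits.preservesColimitsOfShape
  (asIso (sigmaComparison f.pull _)).symm ≪≫ Sigma.mapIso (fun _ => pullUnitIso f)

end Groth.Agent.ModFlat16
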