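import Groth.Agent.Lib.ModFlat16.PullFlat
import Groth.Agent.Lib.ModFlat16.ExtZero
import Groth.Agent.Lib.ModFlat16.Generators
import Groth.Agent.Lib.ModFlat16.PullUnit
import Mathlib.CategoryTheory.Sites.CoverPreserving

/-! Inverse images of modules commute with localisation. -/

set_option autoImplicit false
set_option linter.style.haveILetI false
set_option backward.isDefEq.respectTransparency false
set_option backward.isDefEq.respectTransparency.types false

universe u

open CategoryTheory CategoryTheory.Limits Opposite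

noncomputable section

namespace Groth.Agent.ModFlat16

open Groth.Agent.KFlat.Site

variable {C D : Type u} [SmallCategory C] [SmallCategory D] {J : GrothendieckTopology C}
  {K : GrothendieckTopology D} {O_C : Sheaf J CommRingCat.{u}} {O_D : Sheaf K CommRingCat.{u}}
  (f : ModSite.RMor O_C O_D)

theorem coverPreserving_fn : CoverPreserving K J f.fn where
  cover_preserve {V₀ S} hS := by
    obtain ⟨T, hT, h⟩ := locally_lift f (𝟙 (f.fn.obj V₀)) S hS
    refine J.superset_covering ?_ hT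
    intro W k hk
    obtain ⟨V, g, u', hg, e⟩ := h k hk
    exact ⟨V, g, u', hg, by rw [e, Category.comp_id]⟩

/-- Arrows to the image agreeing over a common one factor locally through a commutative square. -/
theorem locally_square {U : C} {V₁ V₂ V : D} (g₁ : V₁ ⟶ V) (g₂ : V₂ ⟶ V) (u₁ : U ⟶ f.fn.obj V₁)
    (u₂ : U ⟶ f.fn.obj V₂) (h : u₁ ≫ f.fn.map g₁ = u₂ ≫ f.fn.map g₂) :
    ∃ S ∈ J U, ∀ ⦃W : C⦄ (k : W ⟶ U), S k → ∃ (V' : D) (h₁ : V' ⟶ V₁) (h₂ : V' ⟶ V₂) (u : W ⟶ f.fn.obj V'),
      h₁ ≫ g₁ = h₂ ≫ g₂ ∧ u ≫ f.fn.map h₁ = k ≫ u₁ ∧ u ≫ f.fn.map h₂ = k ≫ u₂ := by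
  obtain ⟨S, hS, hspan⟩ := locally_span f u₁ u₂
  choose V' a b u ha hb using hspan
  have heq : ∀ ⦃W : C⦄ (k : W ⟶ U) (hk : S k), ∃ T ∈ J W, ∀ ⦃W' : C⦄ (l : W' ⟶ W), T l →
      ∃ (V'' : D) (e : V'' ⟶ V' k hk) (u' : W' ⟶ f.fn.obj V''),
        e ≫ a k hk ≫ g₁ = e ≫ b k hk ≫ g₂ ∧ u' ≫ f.fn.map e = l ≫ u k hk := fun W k hk =>
    locally_equalize f _ _ _ (by
      rw [Functor.map_comp, Functor.map_comp, ← Category.assoc, ha, ← Category.assoc, hb, Category.assoc,
        Category.assoc, h])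
  choose T hT hT' using heq
  refine ⟨Sieve.bind S.arrows T, J.bind_covering hS fun W k hk => hT k hk, ?_⟩
  rintro W _ ⟨W', l, k, hk, hl, rfl⟩
  obtain ⟨V'', e, u', he, hu'⟩ := hT' k hk l hl
  exact ⟨V'', e ≫ a k hk, e ≫ b k hk, u', by simpa using he,
    by rw [Functor.map_comp, reassoc_of% hu', ha, Category.assoc],
    by rw [Functor.map_comp, reassoc_of% hu', hb, Category.assoc]⟩

variable (V₀ : D)

theorem sheaf_ext {U : C} (G : Sheaf (J.over U) (Type u)) {A : Over U} {x y : G.obj.obj (op A)}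
    (S : Sieve A.left) (hS : S ∈ J A.left)
    (h : ∀ {A' : Over U} (a : A' ⟶ A), S a.left → G.obj.map a.op x = G.obj.map a.op y) : x = y := by
  have hS' : (Sieve.overEquiv A).symm S ∈ J.over U A := J.overEquiv_symm_mem_over A S hS
  exact (((isSheaf_iff_isSheaf_of_type _ _).1 G.property) _ hS').isSeparatedFor.ext fun A' a ha =>
    h a ((Sieve.overEquiv_symm_iff _ _).1 ha)

instance isContinuous_post :
    (Over.post (X := V₀) f.fn).IsContinuous (K.over V₀) (J.over (f.fn.obj V₀)) := by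
  refine Functor.isContinuous_of_coverPreserving ?_ ((coverPreserving_fn f).overPost V₀)
  constructor
  intro G Z T x hx Y₁ Y₂ X f₁ f₂ g₁ g₂ hg₁ hg₂ e
  obtain ⟨S, hS, h⟩ := locally_square f g₁.left g₂.left f₁.left f₂.left (congrArg (fun z => z.left) e)
  refine sheaf_ext G S hS fun {A'} a ha => ?_
  obtain ⟨V', h₁, h₂, u, hh, hu₁, hu₂⟩ := h a.left ha
  let Y₃ : Over V₀ := Over.mk (h₁ ≫ Y₁.hom)
  let b₁ : Y₃ ⟶ Y₁ := Over.homMk h₁
  let b₂ : Y₃ ⟶ Y₂ := Over.homMk h₂ (by
    show h₂ ≫ Y₂.hom = h₁ ≫ Y₁.hom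
    rw [← Over.w g₂, ← Over.w g₁, ← Category.assoc, ← hh, Category.assoc])
  let v : A' ⟶ (Over.post f.fn).obj Y₃ := Over.homMk u (by
    show u ≫ f.fn.map (h₁ ≫ Y₁.hom) = A'.hom
    rw [Functor.map_comp, reassoc_of% hu₁]
    exact (congrArg (a.left ≫ ·) (Over.w f₁)).trans (Over.w a))
  have hx' := hx b₁ b₂ hg₁ hg₂ (Over.OverMorphism.ext hh)
  rw [← Functor.map_comp_apply, ← Functor.map_comp_apply, ← op_comp, ← op_comp,
    show a ≫ f₁ = v ≫ (Over.post f.fn).map b₁ from Over.OverMorphism.ext hu₁.symm,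
    show a ≫ f₂ = v ≫ (Over.post f.fn).map b₂ from Over.OverMorphism.ext hu₂.symm,
    op_comp, op_comp, Functor.map_comp_apply, Functor.map_comp_apply]
  exact congrArg (G.obj.map v.op) hx'

/-- The structure map on slices. -/
abbrev sharpV : ModSite.ringSh (O_D.over V₀) ⟶
    ((Over.post (X := V₀) f.fn).sheafPushforwardContinuous RingCat.{u} (K.over V₀) (J.over (f.fn.obj V₀))).obj
      (ModSite.ringSh (O_C.over (f.fn.obj V₀))) :=
  ((Over.forget V₀).sheafPushforwardContinuous RingCat.{u} (K.over V₀) K).map f.sharpR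

/-- Direct image on slices. -/
abbrev pushV : ModSite.Mod (O_C.over (f.fn.obj V₀)) ⥤ ModSite.Mod (O_D.over V₀) :=
  SheafOfModules.pushforward.{u} (sharpV f V₀)

instance isRightAdjoint_pushV : (pushV f V₀).IsRightAdjoint := inferInstance

/-- Inverse image on slices. -/
abbrev pullV : ModSite.Mod (O_D.over V₀) ⥤ ModSite.Mod (O_C.over (f.fn.obj V₀)) :=
  SheafOfModules.pullback.{u} (sharpV f V₀)

/-- The adjunction on slices. -/
abbrev adjV : pullV f V₀ ⊣ pushV f V₀ := SheafOfModules.pullbackPushforwardAdjunction.{u} (sharpV f V₀)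

variable {V₀} {f} {M : ModSite.Mod O_D} {N : ModSite.Mod (O_C.over (f.fn.obj V₀))}

/-- Restriction of sections on a slice. -/
abbrev rN {A A' : Over (f.fn.obj V₀)} (a : A' ⟶ A) : ModSite.sect N A →+ ModSite.sect N A' := smap N a

variable (φ : (ModSite.restr O_D V₀).obj M ⟶ (pushV f V₀).obj N)

/-- The value of a symbol expressed over the slice. -/
def av {A : Over (f.fn.obj V₀)} (Y : Over V₀) (k : A ⟶ (Over.post f.fn).obj Y) (m : ModSite.sect M Y.left) :
    ModSite.sect N A :=
  smap N k (show ModSite.sect N ((Over.post f.fn).obj Y) from φ.val.app (op Y) m)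

theorem rN_av {A A' : Over (f.fn.obj V₀)} (a : A' ⟶ A) (Y : Over V₀) (k : A ⟶ (Over.post f.fn).obj Y)
    (m : ModSite.sect M Y.left) : rN a (av φ Y k m) = av φ Y (a ≫ k) m :=
  (smap_comp k a _).symm

theorem av_map {A : Over (f.fn.obj V₀)} {Y Y' : Over V₀} (h : Y' ⟶ Y) (k : A ⟶ (Over.post f.fn).obj Y')
    (m : ModSite.sect M Y.left) :
    av φ Y' k (smap M h.left m) = av φ Y (k ≫ (Over.post f.fn).map h) m := by
  rw [av, av, smap_comp]
  exact congrArg (smap N k) (PresheafOfModules.naturality_apply φ.val h.op m)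

theorem av_eq {A : Over (f.fn.obj V₀)} {V' : D} (m : ModSite.sect M V') (Y₁ Y₂ : Over V₀)
    (k₁ : A ⟶ (Over.post f.fn).obj Y₁) (k₂ : A ⟶ (Over.post f.fn).obj Y₂) (g₁ : Y₁.left ⟶ V') (g₂ : Y₂.left ⟶ V')
    (h : k₁.left ≫ f.fn.map g₁ = k₂.left ≫ f.fn.map g₂) :
    av φ Y₁ k₁ (smap M g₁ m) = av φ Y₂ k₂ (smap M g₂ m) := by
  obtain ⟨S, hS, hsq⟩ := locally_square f Y₁.hom Y₂.hom k₁.left k₂.left ((Over.w k₁).trans (Over.w k₂).symm)
  refine sheaf_ext ((sheafCompose _ (forget AddCommGrpCat.{u})).obj (ModSite.toAb N)) S hS fun {A'} a ha => ?_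
  show rN a (av φ Y₁ k₁ (smap M g₁ m)) = rN a (av φ Y₂ k₂ (smap M g₂ m))
  obtain ⟨V₃, h₁, h₂, u, hh, hu₁, hu₂⟩ := hsq a.left ha
  obtain ⟨T, hT, heq⟩ := locally_equalize f (h₁ ≫ g₁) (h₂ ≫ g₂) u (by
    rw [Functor.map_comp, Functor.map_comp, reassoc_of% hu₁, reassoc_of% hu₂, h])
  refine sheaf_ext ((sheafCompose _ (forget AddCommGrpCat.{u})).obj (ModSite.toAb N)) T hT fun {A''} b hb => ?_
  show rN b (rN a (av φ Y₁ k₁ (smap M g₁ m))) = rN b (rN a (av φ Y₂ k₂ (smap M g₂ m)))
  obtain ⟨V₄, e, u', he, hu'⟩ := heq b.left hb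
  let Y₄ : Over V₀ := Over.mk (e ≫ h₁ ≫ Y₁.hom)
  let c₁ : Y₄ ⟶ Y₁ := Over.homMk (e ≫ h₁) (Category.assoc _ _ _)
  let c₂ : Y₄ ⟶ Y₂ := Over.homMk (e ≫ h₂) (by show (e ≫ h₂) ≫ Y₂.hom = e ≫ h₁ ≫ Y₁.hom; rw [Category.assoc, hh])
  let v : A'' ⟶ (Over.post f.fn).obj Y₄ := Over.homMk u' (by
    show u' ≫ f.fn.map (e ≫ h₁ ≫ Y₁.hom) = A''.hom
    rw [Functor.map_comp, reassoc_of% hu', Functor.map_comp, reassoc_of% hu₁]
    exact (congrArg (fun z => b.left ≫ a.left ≫ z) (Over.w k₁)).trans
      ((congrArg (b.left ≫ ·) (Over.w a)).trans (Over.w b)))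
  have e₁ : b ≫ a ≫ k₁ = v ≫ (Over.post f.fn).map c₁ := Over.OverMorphism.ext (by
    show b.left ≫ a.left ≫ k₁.left = u' ≫ f.fn.map (e ≫ h₁)
    rw [Functor.map_comp, reassoc_of% hu', hu₁])
  have e₂ : b ≫ a ≫ k₂ = v ≫ (Over.post f.fn).map c₂ := Over.OverMorphism.ext (by
    show b.left ≫ a.left ≫ k₂.left = u' ≫ f.fn.map (e ≫ h₂)
    rw [Functor.map_comp, reassoc_of% hu', hu₂])
  rw [rN_av, rN_av, rN_av, rN_av, e₁, e₂, ← av_map φ c₁ v, ← av_map φ c₂ v]
  refine congrArg (av φ Y₄ v) ?_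
  show smap M (e ≫ h₁) (smap M g₁ m) = smap M (e ≫ h₂) (smap M g₂ m)
  rw [← smap_comp, ← smap_comp, Category.assoc, Category.assoc, he]

variable (f) in
/-- The candidates for the value of a symbol. -/
def IsVal {A : Over (f.fn.obj V₀)} {V' : D} (u : A.left ⟶ f.fn.obj V') (m : ModSite.sect M V')
    (q : ModSite.sect N A) : Prop :=
  ∀ ⦃A' : Over (f.fn.obj V₀)⦄ (a : A' ⟶ A) (Y : Over V₀) (k : A' ⟶ (Over.post f.fn).obj Y) (g : Y.left ⟶ V'),
    k.left ≫ f.fn.map g = a.left ≫ u → rN a q = av φ Y k (smap M g m)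

theorem exists_cand {A : Over (f.fn.obj V₀)} {V' : D} (u : A.left ⟶ f.fn.obj V') :
    ∃ S ∈ J A.left, ∀ {A' : Over (f.fn.obj V₀)} (a : A' ⟶ A), S a.left →
      ∃ (Y : Over V₀) (k : A' ⟶ (Over.post f.fn).obj Y) (g : Y.left ⟶ V'), k.left ≫ f.fn.map g = a.left ≫ u := by
  obtain ⟨S, hS, h⟩ := locally_span f (V₁ := V₀) A.hom u
  refine ⟨S, hS, fun {A'} a ha => ?_⟩
  obtain ⟨V'', g₁, g₂, w, hw₁, hw₂⟩ := h a.left ha
  exact ⟨Over.mk g₁, Over.homMk w (hw₁.trans (Over.w a)), g₂, hw₂⟩

theorem isVal_unique {A : Over (f.fn.obj V₀)} {V' : D} {u : A.left ⟶ f.fn.obj V'} {m : ModSite.sect M V'}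
    {q q' : ModSite.sect N A} (h : IsVal f φ u m q) (h' : IsVal f φ u m q') : q = q' := by
  obtain ⟨S, hS, hc⟩ := exists_cand u
  refine sheaf_ext ((sheafCompose _ (forget AddCommGrpCat.{u})).obj (ModSite.toAb N)) S hS fun {A'} a ha => ?_
  obtain ⟨Y, k, g, e⟩ := hc a ha
  exact (h a Y k g e).trans (h' a Y k g e).symm

theorem exists_isVal {A : Over (f.fn.obj V₀)} {V' : D} (u : A.left ⟶ f.fn.obj V') (m : ModSite.sect M V') :
    ∃ q, IsVal f φ u m q := by
  obtain ⟨S, hS, hc⟩ := exists_cand u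
  let G := (sheafCompose _ (forget AddCommGrpCat.{u})).obj (ModSite.toAb N)
  let S' := (Sieve.overEquiv A).symm S
  have hS' : S' ∈ J.over _ A := J.overEquiv_symm_mem_over A S hS
  have hc' : ∀ {A' : Over (f.fn.obj V₀)} (a : A' ⟶ A), S' a →
      ∃ (Y : Over V₀) (k : A' ⟶ (Over.post f.fn).obj Y) (g : Y.left ⟶ V'), k.left ≫ f.fn.map g = a.left ≫ u :=
    fun a ha => hc a ((Sieve.overEquiv_symm_iff _ _).1 ha)
  choose Y k g e using @hc'
  let fam : Presieve.FamilyOfElements G.obj S'.arrows := fun A' a ha =>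
    (av φ (Y a ha) (k a ha) (smap M (g a ha) m) : ModSite.sect N A')
  have hcomp : fam.Compatible := by
    intro A₁ A₂ A₃ b₁ b₂ a₁ a₂ h₁ h₂ he
    show rN b₁ (av φ _ (k a₁ h₁) _) = rN b₂ (av φ _ (k a₂ h₂) _)
    rw [rN_av, rN_av]
    refine av_eq φ m _ _ _ _ _ _ ?_
    show (b₁.left ≫ _) ≫ _ = (b₂.left ≫ _) ≫ _
    rw [Category.assoc, Category.assoc, e, e, ← Category.assoc, ← Category.assoc]
    exact congrArg (· ≫ u) (congrArg (fun z => z.left) he)
  obtain ⟨q, hq, -⟩ := ((isSheaf_iff_isSheaf_of_type _ _).1 G.property) S' hS' fam hcomp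
  refine ⟨q, fun A' a Y' k' g' e' => ?_⟩
  refine sheaf_ext G (S.pullback a.left) (J.pullback_stable _ hS) fun {A''} b hb => ?_
  show rN b (rN a q) = rN b (av φ Y' k' (smap M g' m))
  rw [rN_av, ← smap_comp]
  have hm : S' (b ≫ a) := (Sieve.overEquiv_symm_iff _ _).2 hb
  refine (hq (b ≫ a) hm).trans (av_eq φ m _ _ _ _ _ _ ?_)
  show _ = (b.left ≫ k'.left) ≫ _
  rw [e, Category.assoc, e']
  exact Category.assoc _ _ _

/-- The value of a symbol. -/
def vl {A : Over (f.fn.obj V₀)} {V' : D} (u : A.left ⟶ f.fn.obj V') (m : ModSite.sect M V') : ModSite.sect N A :=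
  (exists_isVal φ u m).choose

theorem isVal_vl {A : Over (f.fn.obj V₀)} {V' : D} (u : A.left ⟶ f.fn.obj V') (m : ModSite.sect M V') :
    IsVal f φ u m (vl φ u m) :=
  (exists_isVal φ u m).choose_spec

theorem rN_vl {A A' : Over (f.fn.obj V₀)} (a : A' ⟶ A) {V' : D} (u : A.left ⟶ f.fn.obj V')
    (m : ModSite.sect M V') : rN a (vl φ u m) = vl φ (a.left ≫ u) m := by
  refine isVal_unique φ (fun A'' b Y k g e => ?_) (isVal_vl φ _ m)
  rw [← smap_comp]
  exact isVal_vl φ u m (b ≫ a) Y k g (e.trans (Category.assoc _ _ _).symm)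

theorem vl_eq_av {A : Over (f.fn.obj V₀)} (Y : Over V₀) (k : A ⟶ (Over.post f.fn).obj Y)
    {V' : D} (g : Y.left ⟶ V') (m : ModSite.sect M V') :
    vl φ (k.left ≫ f.fn.map g) m = av φ Y k (smap M g m) := by
  have h := isVal_vl φ (k.left ≫ f.fn.map g) m (𝟙 A) Y k g (Category.id_comp _).symm
  rwa [smap_id (F := N)] at h

theorem av_add {A : Over (f.fn.obj V₀)} (Y : Over V₀) (k : A ⟶ (Over.post f.fn).obj Y)
    (m m' : ModSite.sect M Y.left) : av φ Y k (m + m') = av φ Y k m + av φ Y k m' :=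
  (congrArg (smap N k) ((φ.val.app (op Y)).hom.map_add m m')).trans (map_add _ _ _)

theorem vl_add {A : Over (f.fn.obj V₀)} {V' : D} (u : A.left ⟶ f.fn.obj V') (m m' : ModSite.sect M V') :
    vl φ u (m + m') = vl φ u m + vl φ u m' := by
  refine isVal_unique φ (isVal_vl φ u _) fun A' a Y k g e => ?_
  rw [map_add, isVal_vl φ u m a Y k g e, isVal_vl φ u m' a Y k g e, ← av_add, map_add]

theorem vl_res {A : Over (f.fn.obj V₀)} {V V' : D} (g : V' ⟶ V) (u : A.left ⟶ f.fn.obj V') (m : ModSite.sect M V) :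
    vl φ u (smap M g m) = vl φ (u ≫ f.fn.map g) m := by
  refine isVal_unique φ (isVal_vl φ u _) fun A' a Y k h e => ?_
  rw [← smap_comp]
  exact isVal_vl φ _ m a Y k (h ≫ g) (by rw [Functor.map_comp, reassoc_of% e])

theorem vl_smul {A : Over (f.fn.obj V₀)} {V' : D} (u : A.left ⟶ f.fn.obj V') (c : O_D.obj.obj (op V'))
    (m : ModSite.sect M V') :
    vl φ u (c • m) = (rho f u c : (O_C.over (f.fn.obj V₀)).obj.obj (op A)) • vl φ u m := by
  refine isVal_unique φ (isVal_vl φ u _) fun A' a Y k g e => ?_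
  refine (smap_smul (F := N) a _ _).trans ?_
  rw [isVal_vl φ u m a Y k g e, smap_smul]
  refine Eq.trans ?_ ((congrArg (smap N k)
    ((φ.val.app (op Y)).hom.map_smul (rmap O_D g c) (smap M g m))).trans (smap_smul (F := N) k _ _)).symm
  refine congrArg₂ (· • ·) ?_ rfl
  show rmap O_C a.left (rmap O_C u (shp f V' c)) = rmap O_C k.left (shp f Y.left (rmap O_D g c))
  rw [shp_rmap]
  refine (rmap_comp _ _ _).symm.trans (Eq.trans ?_ (rmap_comp _ _ _))
  exact congrArg (fun z => rmap O_C z _) e.symm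

/-- The map on the free presheaf at an object of the slice. -/
def lamP (A : Over (f.fn.obj V₀)) :
    (ModuleCat.free ((ringPre O_C).obj (op A.left))).obj ((SymT f M).obj (op A.left)) ⟶
      (N.val.obj (op A) : ModuleCat.{u} ((ringPre O_C).obj (op A.left))) :=
  ModuleCat.freeDesc (↾fun s : (SymT f M).obj (op A.left) => (vl φ s.2.1 s.2.2 : ModSite.sect N A))

theorem lamP_gen (A : Over (f.fn.obj V₀)) {V' : D} (u : A.left ⟶ f.fn.obj V') (m : ModSite.sect M V') :
    lamP φ A (gen u m) = vl φ u m :=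
  ModuleCat.freeDesc_apply _ _

theorem lamP_relVal (A : Over (f.fn.obj V₀)) (r : Rel f M A.left) : lamP φ A (relVal r) = 0 := by
  cases r with
  | add V u m m' =>
    simp only [relVal, map_sub]
    erw [lamP_gen, lamP_gen, lamP_gen, vl_add]
    abel_nf
  | smul V u c m =>
    simp only [relVal, map_sub, map_smul]
    erw [lamP_gen, lamP_gen, vl_smul]
    exact sub_self _
  | res V V' g u m =>
    simp only [relVal, map_sub]
    erw [lamP_gen, lamP_gen, vl_res]
    exact sub_self _

theorem lamP_relMap (A : Over (f.fn.obj V₀)) (c : (PresheafOfModules.freeObj (R := ringPre O_C) (RelT f M)).obj (op A.left)) :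
    lamP φ A ((relMap f M).app (op A.left) c) = 0 := by
  have h : (relMap f M).app (op A.left) ≫ lamP φ A = 0 := by
    refine ModuleCat.free_hom_ext fun r => ?_
    show lamP φ A ((relMap f M).app (op A.left) (ModuleCat.freeMk r)) = 0
    rw [show (relMap f M).app (op A.left) (ModuleCat.freeMk r) = relVal r from ModuleCat.freeDesc_apply _ _]
    exact lamP_relVal φ A r
  exact ConcreteCategory.congr_hom h c

theorem lamP_eq_of_preQπ_eq (A : Over (f.fn.obj V₀)) (z z' : (preP f M).obj (op A.left))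
    (h : (preQπ f M).app (op A.left) z = (preQπ f M).app (op A.left) z') : lamP φ A z = lamP φ A z' := by
  obtain ⟨c, hc⟩ := exists_rel_of_preQπ_eq_zero f M (z - z') (by rw [map_sub, h, sub_self])
  refine sub_eq_zero.1 ?_
  refine ((map_sub (lamP φ A).hom z z').symm).trans ?_
  exact (congrArg (lamP φ A) hc).symm.trans (lamP_relMap φ A c)

theorem rN_lamP {A A' : Over (f.fn.obj V₀)} (a : A' ⟶ A) (z : (preP f M).obj (op A.left)) :
    rN a (lamP φ A z) = lamP φ A' ((preP f M).map a.left.op z) := by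
  induction z using Finsupp.induction_linear with
  | zero => rw [map_zero, map_zero, map_zero]; rfl
  | add x y hx hy => rw [map_add, map_add, map_add]; erw [hx, hy]; exact (map_add (lamP φ A').hom _ _).symm
  | single s r =>
    obtain ⟨V, u, m⟩ := s
    have e : (Finsupp.single (⟨V, u, m⟩ : (SymT f M).obj (op A.left)) r : (preP f M).obj (op A.left)) =
        (r : (ringPre O_C).obj (op A.left)) • gen u m := (Finsupp.smul_single_one _ r).symm
    rw [e]
    refine ((congrArg (rN a) ((lamP φ A).hom.map_smul _ _)).trans (smap_smul (F := N) a _ _)).trans ?_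
    refine Eq.trans ?_ ((congrArg (lamP φ A') (PresheafOfModules.map_smul _ _ _ _)).trans
      ((lamP φ A').hom.map_smul _ _)).symm
    refine congrArg₂ (· • ·) rfl ?_
    show rN a (lamP φ A (gen u m)) = lamP φ A' _
    rw [lamP_gen, map_gen, lamP_gen, rN_vl]

/-- The map on the restricted presentation. -/
def lam : (preR O_C (f.fn.obj V₀)).obj (preQ f M) ⟶ (ModSite.toPre (O_C.over (f.fn.obj V₀))).obj N :=
  PresheafOfModules.homMk
    { app := fun A => AddCommGrpCat.ofHom (AddMonoidHom.mk'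
        (fun z => lamP φ A.unop (preQπ_surjective f M (op A.unop.left) z).choose) fun z z' => by
          refine Eq.trans ?_ (map_add (lamP φ A.unop).hom _ _)
          refine lamP_eq_of_preQπ_eq φ A.unop _ _ ?_
          refine ((preQπ_surjective f M _ (z + z')).choose_spec).trans (Eq.trans ?_ (map_add _ _ _).symm)
          exact congrArg₂ (· + ·) (preQπ_surjective f M _ z).choose_spec.symm
            (preQπ_surjective f M _ z').choose_spec.symm)
      naturality := fun A A' a => by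
        ext z
        show lamP φ A'.unop _ = rN a.unop (lamP φ A.unop _)
        rw [rN_lamP]
        refine lamP_eq_of_preQπ_eq φ A'.unop _ _ ?_
        refine ((preQπ_surjective f M _ _).choose_spec).trans ?_
        refine Eq.trans ?_ (PresheafOfModules.naturality_apply (preQπ f M) a.unop.left.op _).symm
        exact congrArg ((preQ f M).map a.unop.left.op) (preQπ_surjective f M _ z).choose_spec.symm }
    fun A r z => by
      refine Eq.trans ?_ ((lamP φ A.unop).hom.map_smul (r : (ringPre O_C).obj (op A.unop.left)) _)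
      refine lamP_eq_of_preQπ_eq φ A.unop _ _ ?_
      refine ((preQπ_surjective f M _ _).choose_spec).trans ?_
      refine Eq.trans ?_ (((preQπ f M).app (op A.unop.left)).hom.map_smul _ _).symm
      exact congrArg (fun y => (r : (ringPre O_C).obj (op A.unop.left)) • y)
        (preQπ_surjective f M _ z).choose_spec.symm

theorem lam_gen (A : Over (f.fn.obj V₀)) {V' : D} (u : A.left ⟶ f.fn.obj V') (m : ModSite.sect M V') :
    (lam φ).app (op A) ((preQπ f M).app (op A.left) (gen u m)) = vl φ u m := by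
  refine Eq.trans ?_ (lamP_gen φ A u m)
  exact lamP_eq_of_preQπ_eq φ A _ _ (preQπ_surjective f M _ _).choose_spec

variable (M V₀) in
/-- The unit of the presentation, restricted. -/
def unitR : (preR O_C (f.fn.obj V₀)).obj (preQ f M) ⟶
    (ModSite.toPre (O_C.over (f.fn.obj V₀))).obj ((ModSite.restr O_C (f.fn.obj V₀)).obj ((ModSite.shPre O_C).obj (preQ f M))) :=
  (preR O_C (f.fn.obj V₀)).map ((adj O_C).unit.app (preQ f M)) ≫
    (restrToPre O_C (f.fn.obj V₀)).inv.app _

variable (f M V₀) in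
theorem isIso_shPre_unitR : IsIso ((ModSite.shPre (O_C.over (f.fn.obj V₀))).map (unitR (f := f) V₀ M)) := by
  have hη := (J.W_iff_isLocallyBijective _).1 (W_unit O_C (preQ f M))
  have : IsIso ((ModSite.shPre (O_C.over (f.fn.obj V₀))).map
      ((preR O_C (f.fn.obj V₀)).map ((adj O_C).unit.app (preQ f M)))) := by
    refine isIso_shPre_map _ _ (((J.over (f.fn.obj V₀)).W_iff_isLocallyBijective _).2 ⟨⟨fun {A} x y hxy => ?_⟩,
      ⟨fun {A} s => ?_⟩⟩)
    · rw [GrothendieckTopology.mem_over_iff]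
      refine J.superset_covering ?_ (hη.1.equalizerSieve_mem (X := op A.unop.left) x y hxy)
      intro W k hk
      exact (Sieve.overEquiv_iff _ _).2 hk
    · rw [GrothendieckTopology.mem_over_iff]
      haveI := hη.2
      refine J.superset_covering ?_ (Presheaf.imageSieve_mem J ((PresheafOfModules.toPresheaf _).map
        ((adj O_C).unit.app (preQ f M))) (U := op A.left) s)
      intro W k hk
      exact (Sieve.overEquiv_iff _ _).2 hk
  rw [unitR, Functor.map_comp]
  infer_instance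

theorem exists_ext : ∃ α : (ModSite.restr O_C (f.fn.obj V₀)).obj ((ModSite.shPre O_C).obj (preQ f M)) ⟶ N,
    unitR V₀ M ≫ (ModSite.toPre _).map α = lam φ := by
  let sh := ModSite.shPre (O_C.over (f.fn.obj V₀))
  let ε := (adj (O_C.over (f.fn.obj V₀))).counit
  haveI := isIso_shPre_unitR f V₀ M
  let X := (ModSite.restr O_C (f.fn.obj V₀)).obj ((ModSite.shPre O_C).obj (preQ f M))
  refine ⟨inv (ε.app X) ≫ inv (sh.map (unitR V₀ M)) ≫ sh.map (lam φ) ≫ ε.app N, ?_⟩
  apply ((adj (O_C.over (f.fn.obj V₀))).homEquiv _ _).symm.injective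
  rw [Adjunction.homEquiv_counit, Adjunction.homEquiv_counit, Functor.map_comp, Category.assoc,
    (adj (O_C.over (f.fn.obj V₀))).counit_naturality, IsIso.hom_inv_id_assoc, IsIso.hom_inv_id_assoc]

variable (f V₀ M) in
/-- Restricted inverse images corepresent maps into restricted direct images. -/
theorem bijective_toPushV (N : ModSite.Mod (O_C.over (f.fn.obj V₀))) :
    Function.Bijective fun α : (ModSite.restr O_C (f.fn.obj V₀)).obj ((ModSite.shPre O_C).obj (preQ f M)) ⟶ N =>
      (ModSite.restr O_D V₀).map (toPush f M) ≫ (pushV f V₀).map α := by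
  refine ⟨fun α β h => ?_, fun φ => ?_⟩
  · -- uniqueness
    have hgen : ∀ (Y : Over V₀) (m : ModSite.sect M Y.left),
        α.val.app (op ((Over.post f.fn).obj Y)) (cls f M (𝟙 _) m) =
          β.val.app (op ((Over.post f.fn).obj Y)) (cls f M (𝟙 _) m) :=
      fun Y m => congrArg (fun q : _ ⟶ (pushV f V₀).obj N => q.val.app (op Y) m) h
    haveI := isIso_shPre_unitR f V₀ M
    have key : unitR V₀ M ≫ (ModSite.toPre _).map α = unitR V₀ M ≫ (ModSite.toPre _).map β := by
      apply PresheafOfModules.hom_ext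
      intro A
      obtain ⟨A, rfl⟩ : ∃ B, op B = A := ⟨A.unop, rfl⟩
      refine ModuleCat.hom_ext (LinearMap.ext fun z => ?_)
      obtain ⟨z, rfl⟩ := preQπ_surjective f M (op A.left) z
      induction z using Finsupp.induction_linear with
      | zero => rw [map_zero, map_zero, map_zero]
      | add x y hx hy => rw [map_add, map_add, map_add, hx, hy]
      | single s r =>
        obtain ⟨V', u, m⟩ := s
        have e : (Finsupp.single (⟨V', u, m⟩ : (SymT f M).obj (op A.left)) r : (preP f M).obj (op A.left)) =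
            (r : (ringPre O_C).obj (op A.left)) • gen u m := (Finsupp.smul_single_one _ r).symm
        rw [e, map_smul]
        refine (map_smul _ _ _).trans (Eq.trans ?_ (map_smul _ _ _).symm)
        refine congrArg _ ?_
        show α.val.app (op A) (cls f M u m) = β.val.app (op A) (cls f M u m)
        obtain ⟨S, hS, hc⟩ := exists_cand (f := f) u
        refine sheaf_ext ((sheafCompose _ (forget AddCommGrpCat.{u})).obj (ModSite.toAb N)) S hS
          fun {A'} a ha => ?_
        obtain ⟨Y, k, g, e⟩ := hc a ha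
        show N.val.map a.op _ = N.val.map a.op _
        rw [← PresheafOfModules.naturality_apply, ← PresheafOfModules.naturality_apply]
        show α.val.app (op A') (smap _ a.left (cls f M u m)) = β.val.app (op A') (smap _ a.left (cls f M u m))
        rw [map_cls, ← e, ← cls_res]
        have hc' : cls f M k.left (smap M g m) =
            smap ((ModSite.shPre O_C).obj (preQ f M)) k.left (cls f M (𝟙 _) (smap M g m)) := by
          rw [map_cls]; exact congrArg (fun z => cls f M z _) (Category.comp_id _).symm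
        rw [hc']
        exact (PresheafOfModules.naturality_apply α.val k.op _).trans
          ((congrArg (N.val.map k.op) (hgen Y _)).trans (PresheafOfModules.naturality_apply β.val k.op _).symm)
    have h' := congrArg ((adj (O_C.over (f.fn.obj V₀))).homEquiv _ _).symm key
    rw [Adjunction.homEquiv_counit, Adjunction.homEquiv_counit, Functor.map_comp, Functor.map_comp, Category.assoc,
      Category.assoc, (adj (O_C.over (f.fn.obj V₀))).counit_naturality,
      (adj (O_C.over (f.fn.obj V₀))).counit_naturality] at h'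
    exact (cancel_epi _).1 ((cancel_epi _).1 h')
  · obtain ⟨α, hα⟩ := exists_ext φ
    refine ⟨α, SheafOfModules.hom_ext (PresheafOfModules.hom_ext fun Y => ?_)⟩
    obtain ⟨Y, rfl⟩ : ∃ B, op B = Y := ⟨Y.unop, rfl⟩
    refine ModuleCat.hom_ext (LinearMap.ext fun m => ?_)
    show α.val.app (op ((Over.post f.fn).obj Y)) (cls f M (𝟙 _) m) = φ.val.app (op Y) m
    refine Eq.trans (congrArg (fun q : (preR O_C (f.fn.obj V₀)).obj (preQ f M) ⟶ _ =>
      q.app (op ((Over.post f.fn).obj Y)) ((preQπ f M).app (op (f.fn.obj Y.left)) (gen (𝟙 _) m))) hα) ?_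
    refine (lam_gen φ ((Over.post f.fn).obj Y) (𝟙 (f.fn.obj Y.left)) m).trans ?_
    have h := vl_eq_av φ Y (𝟙 ((Over.post f.fn).obj Y)) (𝟙 Y.left) m
    rw [f.fn.map_id, smap_id, av, smap_id (F := N)] at h
    exact (congrArg (fun z => vl φ z m) (Category.comp_id _).symm).trans h

variable (f V₀ M) in
/-- The comparison of inverse image and localisation. -/
def pullRestrHom : (pullV f V₀).obj ((ModSite.restr O_D V₀).obj M) ⟶
    (ModSite.restr O_C (f.fn.obj V₀)).obj ((ModSite.shPre O_C).obj (preQ f M)) :=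
  ((adjV f V₀).homEquiv _ _).symm ((ModSite.restr O_D V₀).map (toPush f M))

variable (f V₀ M) in
theorem isIso_pullRestrHom : IsIso (pullRestrHom f V₀ M) := by
  rw [isIso_iff_coyoneda_map_bijective]
  intro N
  rw [← ((adjV f V₀).homEquiv _ _).bijective.of_comp_iff']
  refine (Function.Bijective.of_comp_iff _ (Function.bijective_id)).1 ?_
  convert bijective_toPushV f V₀ M N using 1
  funext α
  show (adjV f V₀).homEquiv _ _ (pullRestrHom f V₀ M ≫ α) = _
  rw [Adjunction.homEquiv_naturality_right, pullRestrHom, Equiv.apply_symm_apply]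

variable (f V₀ M) in
/-- Inverse image commutes with localisation. -/
def pullRestrIso : (pullV f V₀).obj ((ModSite.restr O_D V₀).obj M) ≅
    (ModSite.restr O_C (f.fn.obj V₀)).obj (f.pull.obj M) :=
  haveI := isIso_pullRestrHom f V₀ M
  asIso (pullRestrHom f V₀ M) ≪≫ (ModSite.restr O_C (f.fn.obj V₀)).mapIso (pullPresIso f M).symm

variable (f V₀) in
theorem isIso_pullVUnit : IsIso (SheafOfModules.pullbackObjUnitToUnit (sharpV f V₀)) := by
  rw [isIso_iff_coyoneda_map_bijective]
  intro N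
  rw [← ((adjV f V₀).homEquiv _ _).bijective.of_comp_iff',
    ← (SheafOfModules.unitHomEquiv _).bijective.of_comp_iff']
  have hb : Function.Bijective (SheafOfModules.pushforwardSections (sharpV f V₀) (M := N)) := by
    let e₁ := sectionsEquivTop (O := O_C) N
    let e₂ := sectionsEquivTop (O := O_D) ((pushV f V₀).obj N)
    let i : (Over.post f.fn).obj (Over.mk (𝟙 V₀)) ≅ Over.mk (𝟙 (f.fn.obj V₀)) :=
      Over.isoMk (Iso.refl _) (by
        show 𝟙 _ ≫ 𝟙 _ = f.fn.map (𝟙 V₀)
        rw [f.fn.map_id]; exact Category.id_comp _)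
    refine (Function.Bijective.of_comp_iff' e₂.bijective _).1 ?_
    have : (e₂ ∘ SheafOfModules.pushforwardSections (sharpV f V₀) (M := N)) = (smap N i.hom) ∘ e₁ := by
      funext s
      exact (PresheafOfModules.sections_property s i.hom.op).symm
    rw [this]
    refine Function.Bijective.comp ⟨fun x y h => ?_, fun y => ⟨smap N i.inv y, ?_⟩⟩ e₁.bijective
    · have h' := congrArg (smap N i.inv) h
      rwa [← smap_comp, ← smap_comp, i.inv_hom_id, smap_id, smap_id] at h'
    · rw [← smap_comp, i.hom_inv_id, smap_id]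
  convert hb.comp (SheafOfModules.unitHomEquiv N).bijective using 1
  funext t
  simp only [Function.comp_apply]
  rw [SheafOfModules.pushforwardSections_unitHomEquiv, EmbeddingLike.apply_eq_iff_eq,
    Adjunction.homEquiv_naturality_right,
    SheafOfModules.pullbackPushforwardAdjunction_homEquiv_pullbackObjUnitToUnit]

end Groth.Agent.ModFlat16
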