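import Groth.Agent.Lib.ModFlat16.Basic
import Groth.Agent.Lib.KFlat.TwoOfThree

/-! Bounded acyclic complexes of flat modules stay acyclic after tensoring. -/

universe u

open CategoryTheory CategoryTheory.Limits

set_option linter.style.haveILetI false
set_option backward.isDefEq.respectTransparency false
set_option backward.isDefEq.respectTransparency.types false

namespace Groth.Agent.ModFlat16

open Groth.Agent.KFlat.Site

section Reverse

variable {A : Type*} [Category* A] [Preadditive A]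

/-- A chain complex indexed backwards. -/
def negCx (M : ChainComplex A ℤ) : CochainComplex A ℤ where
  X n := M.X (-n)
  d n m := M.d (-n) (-m)
  shape n m h := M.shape _ _ (by simp only [ComplexShape.down_Rel, ComplexShape.up_Rel] at h ⊢; omega)
  d_comp_d' _ _ _ _ _ := M.d_comp_d _ _ _

end Reverse

theorem exact_map_of_cycles {C D : Type*} [Category* C] [Abelian C] [Category* D] [Abelian D] (G : C ⥤ D)
    [G.Additive] {L : CochainComplex C ℤ} (hL : L.Acyclic)
    (hG : ∀ n : ℤ, ((KFlat.cyclesSC L n (n + 1)).map G).ShortExact) (n : ℤ) :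
    ((L.sc' (n - 1) n (n + 1)).map G).Exact := by
  have hn : n - 1 + 1 = n := by omega
  have hprev := hG (n - 1)
  rw [hn] at hprev
  let S₀ : ShortComplex C := ShortComplex.mk (L.d (n - 1) n) (KFlat.cyclesSC L n (n + 1)).g (by
    rw [← cancel_mono (kernel.ι (L.d (n + 1) (n + 1 + 1))), Category.assoc, kernel.lift_ι, L.d_comp_d,
      zero_comp])
  let S₁ : ShortComplex C := ShortComplex.mk (kernel.ι (L.d n (n + 1))) (KFlat.cyclesSC L n (n + 1)).g
    (KFlat.cyclesSC L n (n + 1)).zero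
  let φ₁ : S₀ ⟶ S₁ :=
    { τ₁ := (KFlat.cyclesSC L (n - 1) n).g, τ₂ := 𝟙 _, τ₃ := 𝟙 _
      comm₁₂ := (kernel.lift_ι _ _ _).trans (Category.comp_id _).symm }
  let φ₂ : S₀ ⟶ L.sc' (n - 1) n (n + 1) :=
    { τ₁ := 𝟙 _, τ₂ := 𝟙 _, τ₃ := kernel.ι _
      comm₂₃ := (Category.id_comp _).trans (kernel.lift_ι _ _ _).symm }
  haveI : Epi (G.map (KFlat.cyclesSC L (n - 1) n).g) := hprev.epi_g
  haveI : Mono (G.map (kernel.ι (L.d (n + 1) (n + 1 + 1)))) := (hG (n + 1)).mono_f
  haveI : Epi (G.mapShortComplex.map φ₁).τ₁ := inferInstanceAs (Epi (G.map (KFlat.cyclesSC L (n - 1) n).g))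
  haveI : IsIso (G.mapShortComplex.map φ₁).τ₂ := inferInstanceAs (IsIso (G.map (𝟙 _)))
  haveI : Mono (G.mapShortComplex.map φ₁).τ₃ := inferInstanceAs (Mono (G.map (𝟙 _)))
  haveI : Epi (G.mapShortComplex.map φ₂).τ₁ := inferInstanceAs (Epi (G.map (𝟙 _)))
  haveI : IsIso (G.mapShortComplex.map φ₂).τ₂ := inferInstanceAs (IsIso (G.map (𝟙 _)))
  haveI : Mono (G.mapShortComplex.map φ₂).τ₃ := inferInstanceAs (Mono (G.map (kernel.ι _)))
  exact (ShortComplex.exact_iff_of_epi_of_isIso_of_mono (G.mapShortComplex.map φ₂)).1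
    ((ShortComplex.exact_iff_of_epi_of_isIso_of_mono (G.mapShortComplex.map φ₁)).2 (hG n).exact)

variable {C : Type u} [SmallCategory C] {J : GrothendieckTopology C} {O : Sheaf J CommRingCat.{u}}

theorem isFlat_of_isZero {X : ModSite.Mod O} (h : IsZero X) : ModSite.IsFlat X :=
  (isFlat_iff X).1 (KFlat.isFlat_of_isZero h)

theorem isFlat_cycles {L : CochainComplex (ModSite.Mod O) ℤ} (hL : L.Acyclic) (b : ℤ)
    (hb : ∀ n, b < n → IsZero (L.X n)) (hF : ∀ n, ModSite.IsFlat (L.X n)) :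
    ∀ (k : ℕ) (n : ℤ), b < n + k → ModSite.IsFlat (kernel (L.d n (n + 1))) := by
  intro k
  induction k with
  | zero =>
    intro n hn
    exact isFlat_of_isZero (IsZero.of_mono (kernel.ι _) (hb n (by omega)))
  | succ k ih =>
    intro n hn
    have h := KFlat.isFlat_X₁ (T := TS O) (enough O) (S := KFlat.cyclesSC L n (n + 1))
      (KFlat.cyclesSC_shortExact hL n (n + 1) rfl) ((isFlat_iff _).2 (hF n))
      ((isFlat_iff _).2 (ih (n + 1) (by omega)))
    exact (isFlat_iff (kernel (L.d n (n + 1)))).1 h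

theorem acyclic_map_flip (M : ChainComplex (ModSite.Mod O) ℤ) (F : ModSite.Mod O)
    [((TS O).flip.obj F).PreservesZeroMorphisms] (hb : ∃ i₀ : ℤ, ∀ i, i < i₀ → IsZero (M.X i))
    (hM : ∀ i, ModSite.IsFlat (M.X i)) (hac : M.Acyclic) :
    ((((TS O).flip.obj F).mapHomologicalComplex (ComplexShape.down ℤ)).obj M).Acyclic := by
  obtain ⟨i₀, hb⟩ := hb
  haveI : ((TS O).flip.obj F).Additive :=
    haveI := preservesBinaryBiproducts_of_preservesBinaryCoproducts ((TS O).flip.obj F)
    Functor.additive_of_preservesBinaryBiproducts _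
  have hL : (negCx M).Acyclic := fun n => by
    rw [HomologicalComplex.exactAt_iff' _ (n - 1) n (n + 1) (by simp) (by simp)]
    exact (HomologicalComplex.exactAt_iff' M (-(n - 1)) (-n) (-(n + 1))
      (by simp; omega) (by simp; omega)).1 (hac _)
  intro i
  rw [HomologicalComplex.exactAt_iff' _ (-(-i - 1)) i (-(-i + 1)) (by simp; omega) (by simp; omega)]
  have h := exact_map_of_cycles ((TS O).flip.obj F) hL (fun n => shortExact_map_flip
    (KFlat.cyclesSC_shortExact hL n (n + 1) rfl)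
    (isFlat_cycles hL (-i₀) (fun n hn => hb _ (by omega)) (fun n => hM _)
      ((-i₀ - (n + 1) + 1).toNat) (n + 1) (by omega)) F) (-i)
  obtain ⟨j, rfl⟩ : ∃ j, i = -j := ⟨-i, (neg_neg i).symm⟩
  simp only [neg_neg] at h ⊢
  exact h

end Groth.Agent.ModFlat16
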