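import Groth.Agent.Lib.ExtSupp8.Restr

/-! Restriction along a morphism of slices is exact. -/

set_option autoImplicit false
set_option linter.style.haveILetI false
set_option backward.isDefEq.respectTransparency false
set_option backward.isDefEq.respectTransparency.types false

universe u

open CategoryTheory CategoryTheory.Limits Opposite

noncomputable section

namespace Groth.Agent.ModFlat16

variable {C : Type u} [SmallCategory C] {J : GrothendieckTopology C} (O : Sheaf J CommRingCat.{u})
  {U V : C} (g : V ⟶ U)

/-- Restriction of modules from `C/U` to `C/V`. -/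
abbrev overRestr : ModSite.Mod (O.over U) ⥤ ModSite.Mod (O.over V) :=
  SheafOfModules.overMap (ModSite.ringSh O) g

/-- It is compatible with restriction from `C`. -/
def overRestrIso : ModSite.restr O U ⋙ overRestr O g ≅ ModSite.restr O V :=
  SheafOfModules.overFunctorMap (ModSite.ringSh O) g

instance isRightAdjoint_overRestr : (overRestr O g).IsRightAdjoint :=
  inferInstanceAs (SheafOfModules.pushforward.{u} (F := Over.map g)
    (Sheaf.pushforwardOverMapIso (ModSite.ringSh O) g).inv).IsRightAdjoint

instance preservesFiniteLimits_overRestr : PreservesFiniteLimits (overRestr O g) :=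
  haveI : PreservesLimitsOfSize.{0, 0} (overRestr O g) :=
    (Adjunction.ofIsRightAdjoint (overRestr O g)).rightAdjoint_preservesLimits
  PreservesLimitsOfSize.preservesFiniteLimits _

instance preservesEpimorphisms_overRestr : (overRestr O g).PreservesEpimorphisms := ⟨fun {A B} f _ => by
  refine (SheafOfModules.toSheaf (ModSite.ringSh (O.over V))).epi_of_epi_map ?_
  refine (Sheaf.isLocallySurjective_iff_epi' _ _).1 ⟨fun {W} x => ?_⟩
  obtain ⟨R, hR, hloc⟩ := ExtSupp8.exists_local_preimage f (V := (Over.map g).obj W) x
  rw [GrothendieckTopology.mem_over_iff] at hR ⊢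
  refine J.superset_covering ?_ hR
  intro Z h hh
  rw [Sieve.overEquiv_iff] at hh ⊢
  let k : Over.mk (h ≫ ((Over.map g).obj W).hom) ⟶ (Over.map g).obj W := Over.homMk h rfl
  let e : (Over.map g).obj (Over.mk (h ≫ W.hom)) ⟶ Over.mk (h ≫ ((Over.map g).obj W).hom) :=
    Over.homMk (𝟙 Z) (by simp)
  obtain ⟨a, ha⟩ := hloc (e ≫ k) (R.downward_closed hh e)
  refine ⟨a, ha.trans (B.val.congr_map_apply (congrArg Quiver.Hom.op (Over.OverMorphism.ext (Category.id_comp h) : e ≫ k = (Over.map g).map (Over.homMk h))) x)⟩
⟩

instance preservesFiniteColimits_overRestr : PreservesFiniteColimits (overRestr O g) :=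
  haveI : (overRestr O g).Additive := Functor.additive_of_preserves_binary_products _
  haveI := Functor.preservesHomology_of_preservesEpis_and_kernels (overRestr O g)
  Functor.preservesFiniteColimits_of_preservesHomology _

end Groth.Agent.ModFlat16
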