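import Groth.Agent.Lib.ModFlat16.Criterion
import Groth.Agent.Lib.ModFlat16.OverMap

/-! Maps from finitely presented modules to flat modules factor locally through free modules. -/

set_option autoImplicit false
set_option linter.style.haveILetI false
set_option backward.isDefEq.respectTransparency false
set_option backward.isDefEq.respectTransparency.types false

universe u

open CategoryTheory CategoryTheory.Limits Opposite

noncomputable section

namespace Groth.Agent.ModFlat16

variable {C : Type u} [SmallCategory C] {J : GrothendieckTopology C} {O : Sheaf J CommRingCat.{u}}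

/-- Simultaneous trivialisation, over finite index types. -/
theorem RelTriv.many' {F : ModSite.Mod O} (hF : RelTriv F) {U : C} {ι σ : Type*} [Fintype ι] [Fintype σ]
    (s : ι → ModSite.sect F U) (f : σ → ι → O.obj.obj (op U)) (h : ∀ r, ∑ j, f r j • s j = 0) :
    ∃ S ∈ J U, ∀ ⦃V : C⦄ (g : V ⟶ U), S g →
      ∃ (l : ℕ) (t : Fin l → ModSite.sect F V) (a : ι → Fin l → O.obj.obj (op V)),
        (∀ j, smap F g (s j) = ∑ k, a j k • t k) ∧ (∀ r k, ∑ j, a j k * rmap O g (f r j) = 0) := by
  let eι := Fintype.equivFin ι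
  let eσ := Fintype.equivFin σ
  obtain ⟨S, hS, hS'⟩ := hF.many (fun j => s (eι.symm j)) (Fintype.card σ)
    (fun r j => f (eσ.symm r) (eι.symm j)) (fun r => by
      rw [eι.symm.sum_comp fun j => f (eσ.symm r) j • s j]
      exact h _)
  refine ⟨S, hS, fun V g hg => ?_⟩
  obtain ⟨l, t, a, h1, h2⟩ := hS' g hg
  refine ⟨l, t, fun j k => a (eι j) k, fun j => ?_, fun r k => ?_⟩
  · simpa using h1 (eι j)
  · have h3 := h2 (eσ r) k
    rw [← eι.symm.sum_comp fun j => a (eι j) k * rmap O g (f r j)]
    simpa using h3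

section Slice

variable {U : C}

/-- The value at the top of a map out of the structure sheaf. -/
def topVal {N : ModSite.Mod (O.over U)} (f : SheafOfModules.unit (ModSite.ringSh (O.over U)) ⟶ N) :
    N.val.obj (topOver U) :=
  f.val.app (topOver U) (1 : (ModSite.ringSh (O.over U)).obj.obj (topOver U))

theorem topVal_secHom {N : ModSite.Mod (O.over U)} (x : N.val.obj (topOver U)) : topVal (secHom x) = x := by
  rw [topVal, secHom_one, show fromTop (topOver U) = 𝟙 (topOver U) from (fromTop_unique _).symm,
    PresheafOfModules.map_id]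
  rfl

theorem topVal_inj {N : ModSite.Mod (O.over U)} {f f' : SheafOfModules.unit (ModSite.ringSh (O.over U)) ⟶ N}
    (h : topVal f = topVal f') : f = f' :=
  ((SheafOfModules.unitHomEquiv N).trans (sectionsEquivTop O N)).injective h

theorem topVal_comp {N N' : ModSite.Mod (O.over U)} (f : SheafOfModules.unit (ModSite.ringSh (O.over U)) ⟶ N)
    (g : N ⟶ N') : topVal (f ≫ g) = g.val.app (topOver U) (topVal f) := rfl

theorem topVal_secHom_comp {N : ModSite.Mod (O.over U)} (a : O.obj.obj (op U))
    (f : SheafOfModules.unit (ModSite.ringSh (O.over U)) ⟶ N) :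
    topVal (secHom (N := SheafOfModules.unit (ModSite.ringSh (O.over U))) a ≫ f) =
      (a : (ModSite.ringSh (O.over U)).obj.obj (topOver U)) • topVal f := by
  rw [topVal_comp, topVal_secHom]
  refine Eq.trans ?_ ((f.val.app (topOver U)).hom.map_smul
    (a : (ModSite.ringSh (O.over U)).obj.obj (topOver U))
    (1 : (ModSite.ringSh (O.over U)).obj.obj (topOver U)))
  exact congrArg _ (mul_one _).symm

theorem topVal_sum {N : ModSite.Mod (O.over U)} {ι : Type*} (S : Finset ι)
    (f : ι → (SheafOfModules.unit (ModSite.ringSh (O.over U)) ⟶ N)) :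
    topVal (∑ i ∈ S, f i) = ∑ i ∈ S, topVal (f i) := by
  classical
  induction S using Finset.induction_on with
  | empty => rfl
  | @insert i S hi ih => rw [Finset.sum_insert hi, Finset.sum_insert hi, ← ih]; rfl

variable {ι : Type u}

/-- The projections of a free module. -/
def proj [DecidableEq ι] (j : ι) :
    SheafOfModules.free (R := ModSite.ringSh (O.over U)) ι ⟶ SheafOfModules.unit (ModSite.ringSh (O.over U)) :=
  Cofan.IsColimit.desc (SheafOfModules.isColimitFreeCofan ι) fun k => if k = j then 𝟙 _ else 0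

theorem ιFree_proj [DecidableEq ι] (k j : ι) :
    SheafOfModules.ιFree k ≫ proj (O := O) (U := U) j = if k = j then 𝟙 _ else 0 :=
  Cofan.IsColimit.fac (SheafOfModules.isColimitFreeCofan ι) _ _

theorem free_total [Fintype ι] [DecidableEq ι] :
    (∑ j, proj (O := O) (U := U) j ≫ SheafOfModules.ιFree j) = 𝟙 (SheafOfModules.free ι) := by
  refine Cofan.IsColimit.hom_ext (SheafOfModules.isColimitFreeCofan ι) _ _ fun k => ?_
  show SheafOfModules.ιFree k ≫ _ = SheafOfModules.ιFree k ≫ 𝟙 _
  rw [Preadditive.comp_sum, Category.comp_id, Finset.sum_eq_single k]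
  · rw [← Category.assoc, ιFree_proj, if_pos rfl, Category.id_comp]
  · intro j _ hj
    rw [← Category.assoc, ιFree_proj, if_neg (Ne.symm hj), zero_comp]
  · simp

end Slice

variable {U V : C} (g : V ⟶ U)

theorem topVal_overRestr {N : ModSite.Mod (O.over U)} (f : SheafOfModules.unit (ModSite.ringSh (O.over U)) ⟶ N) :
    topVal (U := V) ((overRestr O g).map f) = N.val.map (fromTop ((Over.map g).op.obj (topOver V))) (topVal f) := by
  show f.val.app ((Over.map g).op.obj (topOver V))
    (1 : (ModSite.ringSh (O.over U)).obj.obj ((Over.map g).op.obj (topOver V))) = _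
  refine Eq.trans ?_ (PresheafOfModules.naturality_apply f.val
    (fromTop ((Over.map g).op.obj (topOver V))) (1 : (ModSite.ringSh (O.over U)).obj.obj (topOver U)))
  exact congrArg _ (map_one ((ModSite.ringSh (O.over U)).obj.map (fromTop ((Over.map g).op.obj (topOver V)))).hom).symm

theorem restr_map_fromTop {H : ModSite.Mod O} (A : Over U) (x : ModSite.sect H U) :
    ((ModSite.restr O U).obj H).val.map (fromTop (op A)) x = smap H A.hom x := rfl

theorem topVal_overRestr_iso {H : ModSite.Mod O}
    (f : SheafOfModules.unit (ModSite.ringSh (O.over U)) ⟶ (ModSite.restr O U).obj H) :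
    topVal (U := V) ((overRestr O g).map f ≫ (overRestrIso O g).hom.app H) = smap H g (topVal f) := by
  rw [topVal_comp, topVal_overRestr]
  show smap H (𝟙 V ≫ g) (topVal f) = _
  rw [Category.id_comp]

theorem topVal_lin {H : ModSite.Mod O} {l : ℕ} (a : Fin l → O.obj.obj (op V)) (t : Fin l → ModSite.sect H V) :
    topVal (U := V) (∑ k, secHom (N := SheafOfModules.unit (ModSite.ringSh (O.over V))) (a k) ≫
      secHom (N := (ModSite.restr O V).obj H) (t k)) = (show ModSite.sect H V from ∑ k, a k • t k) := by
  rw [topVal_sum]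
  refine Finset.sum_congr rfl fun k _ => ?_
  rw [topVal_secHom_comp, topVal_secHom]

/-- The local factorisation. -/
theorem RelTriv.factor {F H : ModSite.Mod O} (hH : RelTriv H) (φ : F ⟶ H) {X : C} {ι σ : Type u}
    [Finite ι] [Finite σ] (rel : SheafOfModules.free σ ⟶ SheafOfModules.free ι)
    (π : SheafOfModules.free ι ⟶ (ModSite.restr O X).obj F) (w : rel ≫ π = 0)
    (hc : IsColimit (CokernelCofork.ofπ π w)) :
    ∃ S ∈ J X, ∀ ⦃V : C⦄ (g : V ⟶ X), S g →
      ∃ (n : ℕ) (a : (ModSite.restr O V).obj F ⟶ SheafOfModules.free (ULift.{u} (Fin n)))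
        (b : SheafOfModules.free (ULift.{u} (Fin n)) ⟶ (ModSite.restr O V).obj H),
        a ≫ b = (ModSite.restr O V).map φ := by
  classical
  cases nonempty_fintype ι
  cases nonempty_fintype σ
  let s : ι → ModSite.sect H X := fun j => topVal (SheafOfModules.ιFree j ≫ π ≫ (ModSite.restr O X).map φ)
  let f : σ → ι → O.obj.obj (op X) := fun r j =>
    topVal (SheafOfModules.ιFree r ≫ rel ≫ proj (O := O) (U := X) j)
  have hdec : ∀ r, SheafOfModules.ιFree r ≫ rel =
      ∑ j, secHom (N := SheafOfModules.unit (ModSite.ringSh (O.over X))) (f r j) ≫ SheafOfModules.ιFree j := by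
    intro r
    have e : ∀ j, secHom (N := SheafOfModules.unit (ModSite.ringSh (O.over X))) (f r j) =
        SheafOfModules.ιFree r ≫ rel ≫ proj j := fun j => topVal_inj (topVal_secHom _)
    simp only [e, Category.assoc, ← Preadditive.comp_sum, free_total, Category.comp_id]
  obtain ⟨S, hS, hS'⟩ := hH.many' s f (fun r => by
    have h0 : topVal (SheafOfModules.ιFree r ≫ rel ≫ π ≫ (ModSite.restr O X).map φ) = 0 := by
      rw [reassoc_of% w, zero_comp, comp_zero]; rfl
    rw [← Category.assoc, hdec, Preadditive.sum_comp, topVal_sum] at h0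
    refine Eq.trans (Finset.sum_congr rfl fun j _ => ?_) h0
    rw [Category.assoc, topVal_secHom_comp])
  refine ⟨S, hS, fun V g hg => ?_⟩
  obtain ⟨l, t, a, hta, hfa⟩ := hS' g hg
  let Φ := overRestr O g
  haveI : Φ.Additive := Functor.additive_of_preserves_binary_products _
  haveI : PreservesColimitsOfShape (Discrete ι) Φ := inferInstance
  haveI : PreservesColimitsOfShape (Discrete σ) Φ := inferInstance
  let hι : IsColimit (Cofan.mk _ fun j : ι => Φ.map (SheafOfModules.ιFree j)) :=
    isColimitCofanMkObjOfIsColimit Φ _ _ (SheafOfModules.isColimitFreeCofan ι)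
  let hσ : IsColimit (Cofan.mk _ fun j : σ => Φ.map (SheafOfModules.ιFree j)) :=
    isColimitCofanMkObjOfIsColimit Φ _ _ (SheafOfModules.isColimitFreeCofan σ)
  let vec : ι → (SheafOfModules.unit (ModSite.ringSh (O.over V)) ⟶ SheafOfModules.free (ULift.{u} (Fin l))) :=
    fun j => ∑ k, secHom (N := SheafOfModules.unit (ModSite.ringSh (O.over V))) (a j k) ≫
      SheafOfModules.ιFree ⟨k⟩
  let A : Φ.obj (SheafOfModules.free ι) ⟶ SheafOfModules.free (ULift.{u} (Fin l)) := Cofan.IsColimit.desc hι vec
  have hA : ∀ j, Φ.map (SheafOfModules.ιFree j) ≫ A = vec j := fun j => Cofan.IsColimit.fac hι _ _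
  have hΦ : ∀ c : O.obj.obj (op X), Φ.map (secHom (N := SheafOfModules.unit (ModSite.ringSh (O.over X))) c) =
      secHom (N := SheafOfModules.unit (ModSite.ringSh (O.over V))) (rmap O g c) := fun c => topVal_inj (by
    rw [topVal_overRestr, topVal_secHom, topVal_secHom]
    exact congrArg (fun q => (O.obj.map q.op) c) (Category.id_comp g))
  have hrel : Φ.map rel ≫ A = 0 := by
    refine Cofan.IsColimit.hom_ext hσ _ _ fun r => ?_
    show Φ.map (SheafOfModules.ιFree r) ≫ Φ.map rel ≫ A = Φ.map (SheafOfModules.ιFree r) ≫ 0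
    rw [comp_zero, ← Category.assoc, ← Functor.map_comp, hdec, Functor.map_sum, Preadditive.sum_comp]
    simp only [Functor.map_comp, Category.assoc, hA, hΦ, vec, Preadditive.comp_sum]
    rw [Finset.sum_comm]
    refine Finset.sum_eq_zero fun k _ => ?_
    simp only [← Category.assoc]
    erw [← Preadditive.sum_comp]
    refine (congrArg (· ≫ SheafOfModules.ιFree (ULift.up k)) (topVal_inj (?_ : topVal _ = topVal 0))).trans zero_comp
    rw [topVal_sum]
    refine Eq.trans ?_ (hfa r k)
    refine Finset.sum_congr rfl fun j _ => ?_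
    rw [topVal_secHom_comp, topVal_secHom]
    show rmap O g (f r j) * a j k = _
    exact mul_comm _ _
  have hc' := CokernelCofork.mapIsColimit _ hc Φ
  let a' : Φ.obj ((ModSite.restr O X).obj F) ⟶ SheafOfModules.free (ULift.{u} (Fin l)) :=
    hc'.desc (CokernelCofork.ofπ A hrel)
  have ha' : Φ.map π ≫ a' = A := hc'.fac (CokernelCofork.ofπ A hrel) WalkingParallelPair.one
  let b : SheafOfModules.free (ULift.{u} (Fin l)) ⟶ (ModSite.restr O V).obj H :=
    Cofan.IsColimit.desc (SheafOfModules.isColimitFreeCofan _) fun k => secHom (t k.down)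
  have hb : ∀ k, SheafOfModules.ιFree (ULift.up k) ≫ b = secHom (t k) := fun k =>
    Cofan.IsColimit.fac (SheafOfModules.isColimitFreeCofan _) _ _
  refine ⟨l, (overRestrIso O g).inv.app F ≫ a', b, ?_⟩
  have key : a' ≫ b = Φ.map ((ModSite.restr O X).map φ) ≫ (overRestrIso O g).hom.app H := by
    refine Cofork.IsColimit.hom_ext hc' ?_
    show Φ.map π ≫ a' ≫ b = Φ.map π ≫ _
    rw [← Category.assoc, ha']
    refine Cofan.IsColimit.hom_ext hι _ _ fun j => ?_
    show Φ.map (SheafOfModules.ιFree j) ≫ A ≫ b = Φ.map (SheafOfModules.ιFree j) ≫ Φ.map π ≫ _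
    rw [← Category.assoc, hA]
    simp only [vec, Preadditive.sum_comp, Category.assoc, hb]
    refine topVal_inj ?_
    refine (topVal_lin (H := H) (a j) t).trans ((hta j).symm.trans ?_)
    refine (topVal_overRestr_iso g _).symm.trans (congrArg topVal ?_)
    refine (congrArg (· ≫ _) ((Φ.map_comp _ _).trans (congrArg _ (Φ.map_comp _ _)))).trans ?_
    exact (Category.assoc _ _ _).trans (congrArg _ (Category.assoc _ _ _))
  rw [Category.assoc, key]
  exact NatIso.naturality_1 (overRestrIso O g) φ

end Groth.Agent.ModFlat16
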