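import Groth.Agent.Lib.ModFlat16.PullPres
import Groth.Agent.Lib.ModFlat16.Factor

/-! The inverse image of a flat module is flat. -/

set_option autoImplicit false
set_option linter.style.haveILetI false
set_option backward.isDefEq.respectTransparency false
set_option backward.isDefEq.respectTransparency.types false

universe u

open CategoryTheory CategoryTheory.Limits Opposite TensorProduct

noncomputable section

namespace Groth.Agent.ModFlat16

open Groth.Agent.KFlat.Site

variable {C D : Type u} [SmallCategory C] [SmallCategory D] {J : GrothendieckTopology C}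
  {K : GrothendieckTopology D} {O_C : Sheaf J CommRingCat.{u}} {O_D : Sheaf K CommRingCat.{u}}
  {f : ModSite.RMor O_C O_D} {M : ModSite.Mod O_D}

theorem cov_iInter {U : C} {ι : Type*} [Finite ι] (S : ι → Sieve U) (h : ∀ i, S i ∈ J U) :
    ∃ T ∈ J U, ∀ i, T ≤ S i := by
  classical
  cases nonempty_fintype ι
  suffices ∀ s : Finset ι, ∃ T ∈ J U, ∀ i ∈ s, T ≤ S i by
    obtain ⟨T, hT, hT'⟩ := this Finset.univ
    exact ⟨T, hT, fun i => hT' i (Finset.mem_univ i)⟩
  intro s
  induction s using Finset.induction_on with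
  | empty => exact ⟨⊤, J.top_mem U, fun i hi => absurd hi (Finset.notMem_empty i)⟩
  | @insert i s hi ih =>
    obtain ⟨T, hT, hT'⟩ := ih
    refine ⟨S i ⊓ T, J.intersection_covering (h i) hT, fun j hj => ?_⟩
    rcases Finset.mem_insert.1 hj with rfl | hj
    · exact inf_le_left
    · exact inf_le_right.trans (hT' j hj)

theorem relTriv_of_iso {F G : ModSite.Mod O_C} (e : F ≅ G) (hF : RelTriv F) : RelTriv G := by
  intro U n a s hrel
  have h : ∑ j, a j • (show ModSite.sect F U from e.inv.val.app (op U) (s j)) = 0 := by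
    have h' := congrArg (e.inv.val.app (op U)) hrel
    rw [map_sum, map_zero] at h'
    exact (Finset.sum_congr rfl fun j _ => ((e.inv.val.app (op U)).hom.map_smul (a j) (s j)).symm).trans h'
  obtain ⟨S, hS, hS'⟩ := hF U n a _ h
  refine ⟨S, hS, fun V g hg => ?_⟩
  obtain ⟨l, t, b, h1, h2⟩ := hS' g hg
  refine ⟨l, fun q => e.hom.val.app (op V) (t q), b, fun j => ?_, h2⟩
  have h3 := congrArg (e.hom.val.app (op V)) (h1 j)
  rw [map_sum] at h3
  refine (Eq.trans ?_ h3).trans (Finset.sum_congr rfl fun q _ => (e.hom.val.app (op V)).hom.map_smul _ _)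
  refine Eq.trans ?_ (congrArg (e.hom.val.app (op V)) (PresheafOfModules.naturality_apply e.inv.val g.op (s j)))
  exact (ConcreteCategory.congr_hom (congrArg (fun q : G ⟶ G => q.val.app (op V)) e.inv_hom_id) _).symm

variable (f M)

/-- The projection to the sheafified presentation. -/
def clsHom (U : C) : (preP f M).obj (op U) →+ ModSite.sect ((ModSite.shPre O_C).obj (preQ f M)) U :=
  AddMonoidHom.comp (((adj O_C).unit.app (preQ f M)).app (op U)).hom.toAddMonoidHom
    ((preQπ f M).app (op U)).hom.toAddMonoidHom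

variable {f M}

theorem clsHom_gen {U : C} {V : D} (u : U ⟶ f.fn.obj V) (m : ModSite.sect M V) :
    clsHom f M U (gen u m) = cls f M u m := rfl

theorem clsHom_smul {U : C} (r : O_C.obj.obj (op U)) (z : (preP f M).obj (op U)) :
    clsHom f M U ((r : (ringPre O_C).obj (op U)) • z) = r • clsHom f M U z :=
  (congrArg (((adj O_C).unit.app (preQ f M)).app (op U)).hom (((preQπ f M).app (op U)).hom.map_smul _ z)).trans
    ((((adj O_C).unit.app (preQ f M)).app (op U)).hom.map_smul _ _)

theorem clsHom_map {U W : C} (k : W ⟶ U) (z : (preP f M).obj (op U)) :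
    smap ((ModSite.shPre O_C).obj (preQ f M)) k (clsHom f M U z) = clsHom f M W ((preP f M).map k.op z) := by
  refine ((PresheafOfModules.naturality_apply ((adj O_C).unit.app (preQ f M)) k.op _).symm).trans ?_
  exact congrArg _ (PresheafOfModules.naturality_apply (preQπ f M) k.op z).symm

theorem clsHom_relVal {U : C} (r : Rel f M U) : clsHom f M U (relVal r) = 0 :=
  (congrArg (((adj O_C).unit.app (preQ f M)).app (op U)) (preQπ_relVal f M r)).trans (map_zero _)

theorem map_cls {U W : C} (k : W ⟶ U) {V : D} (u : U ⟶ f.fn.obj V) (m : ModSite.sect M V) :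
    smap ((ModSite.shPre O_C).obj (preQ f M)) k (cls f M u m) = cls f M (k ≫ u) m := by
  rw [← clsHom_gen, clsHom_map, map_gen, clsHom_gen]

theorem cls_res {U : C} {V V' : D} (g : V' ⟶ V) (u : U ⟶ f.fn.obj V') (m : ModSite.sect M V) :
    cls f M u (smap M g m) = cls f M (u ≫ f.fn.map g) m := by
  have h := clsHom_relVal (Rel.res V V' g u m)
  simp only [relVal, map_sub, sub_eq_zero] at h
  exact h

/-- Symbols at a node are additive. -/
def clsAdd {U : C} {V : D} (u : U ⟶ f.fn.obj V) :
    ModSite.sect M V →+ ModSite.sect ((ModSite.shPre O_C).obj (preQ f M)) U :=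
  AddMonoidHom.mk' (fun m => cls f M u m) fun m m' => by
    have h := clsHom_relVal (Rel.add V u m m')
    simp only [relVal, map_sub] at h
    rw [sub_sub, sub_eq_zero] at h
    exact h

theorem cls_smul {U : C} {V : D} (u : U ⟶ f.fn.obj V) (a : O_D.obj.obj (op V)) (m : ModSite.sect M V) :
    cls f M u (a • m) = rho f u a • cls f M u m := by
  have h := clsHom_relVal (Rel.smul V u a m)
  simp only [relVal, map_sub, sub_eq_zero] at h
  exact h.trans (clsHom_smul _ _)

theorem exists_local_clsHom {U : C} (σ : ModSite.sect ((ModSite.shPre O_C).obj (preQ f M)) U) :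
    ∃ S ∈ J U, ∀ ⦃W : C⦄ (k : W ⟶ U), S k →
      ∃ z, clsHom f M W z = smap ((ModSite.shPre O_C).obj (preQ f M)) k σ := by
  haveI : Presheaf.IsLocallySurjective J ((PresheafOfModules.toPresheaf _).map ((adj O_C).unit.app (preQ f M))) :=
    ((J.W_iff_isLocallyBijective _).1 (W_unit O_C (preQ f M))).2
  refine ⟨Presheaf.imageSieve ((PresheafOfModules.toPresheaf _).map ((adj O_C).unit.app (preQ f M))) σ,
    Presheaf.imageSieve_mem J ((PresheafOfModules.toPresheaf _).map ((adj O_C).unit.app (preQ f M))) σ, ?_⟩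
  rintro W k ⟨q, hq⟩
  obtain ⟨z, rfl⟩ := preQπ_surjective f M (op W) q
  exact ⟨z, hq⟩

theorem exists_local_rel {U : C} (z : (preP f M).obj (op U)) (hz : clsHom f M U z = 0) :
    ∃ S ∈ J U, ∀ ⦃W : C⦄ (k : W ⟶ U), S k →
      ∃ c, (relMap f M).app (op W) c = (preP f M).map k.op z := by
  haveI : Presheaf.IsLocallyInjective J ((PresheafOfModules.toPresheaf _).map ((adj O_C).unit.app (preQ f M))) :=
    ((J.W_iff_isLocallyBijective _).1 (W_unit O_C (preQ f M))).1
  let q := (preQπ f M).app (op U) z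
  refine ⟨Presheaf.equalizerSieve (F := (PresheafOfModules.toPresheaf _).obj (preQ f M)) (X := op U) q 0,
    Presheaf.equalizerSieve_mem J ((PresheafOfModules.toPresheaf _).map ((adj O_C).unit.app (preQ f M))) q 0
      (hz.trans (map_zero _).symm), ?_⟩
  intro W k hk
  refine exists_rel_of_preQπ_eq_zero f M _ ?_
  rw [PresheafOfModules.naturality_apply]
  exact hk.trans (map_zero _)

/-- The nodes of the symbols. -/
abbrev Node (f : ModSite.RMor O_C O_D) (U : C) := Σ V : D, (U ⟶ f.fn.obj V)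

/-- The node of a symbol. -/
def node {U : C} (s : (SymT f M).obj (op U)) : Node f U := ⟨s.1, s.2.1⟩

/-- The nodes of a relation. -/
def relNodes {U : C} [DecidableEq (Node f U)] : Rel f M U → Finset (Node f U)
  | .add V u _ _ => {⟨V, u⟩}
  | .smul V u _ _ => {⟨V, u⟩}
  | .res V V' g u _ => {⟨V', u⟩, ⟨V, u ≫ f.fn.map g⟩}

/-- Compatibility of a choice of arrows with a relation. -/
def RelOK {U : C} {V₀ : D} (g : ∀ x : Node f U, Option (V₀ ⟶ x.1)) : Rel f M U → Prop
  | .res V V' h u _ => ∀ a b, g ⟨V', u⟩ = some a → g ⟨V, u ≫ f.fn.map h⟩ = some b → a ≫ h = b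
  | _ => True

/-- A common refinement of finitely many nodes along an arrow. -/
def Refined {U W : C} (N : Finset (Node f U)) (E : Finset (Rel f M U)) (k : W ⟶ U) : Prop :=
  ∃ (V₀ : D) (u₀ : W ⟶ f.fn.obj V₀) (g : ∀ x : Node f U, Option (V₀ ⟶ x.1)),
    (∀ x ∈ N, (g x).isSome) ∧ (∀ x a, g x = some a → u₀ ≫ f.fn.map a = k ≫ x.2) ∧ ∀ r ∈ E, RelOK g r

theorem refined_nodes {U : C} (N : Finset (Node f U)) :
    ∃ T ∈ J U, ∀ ⦃W : C⦄ (k : W ⟶ U), T k → Refined (M := M) N ∅ k := by
  classical
  induction N using Finset.induction_on with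
  | empty =>
    obtain ⟨T, hT, h⟩ := locally_over f U
    refine ⟨T, hT, fun W k hk => ?_⟩
    obtain ⟨V₀, ⟨u₀⟩⟩ := h k hk
    exact ⟨V₀, u₀, fun _ => none, fun x hx => absurd hx (Finset.notMem_empty x),
      fun x a h => (Option.some_ne_none a h.symm).elim, fun r hr => absurd hr (Finset.notMem_empty r)⟩
  | @insert x N hx ih =>
    obtain ⟨T, hT, hT'⟩ := ih
    choose V₀ u₀ g hsome hg hE using hT'
    choose S hS hS' using fun W (k : W ⟶ U) (hk : T k) => locally_span f (u₀ k hk) (k ≫ x.2)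
    refine ⟨Sieve.bind T.arrows fun W k hk => S W k hk, J.bind_covering hT fun W k hk => hS W k hk, ?_⟩
    rintro W' _ ⟨W, k', k, hk, hk', rfl⟩
    obtain ⟨V₁, g₁, g₂, u₁, h1, h2⟩ := hS' W k hk k' hk'
    refine ⟨V₁, u₁, fun y => if h : y = x then some (h ▸ g₂) else (g k hk y).map (g₁ ≫ ·), ?_, ?_,
      fun r hr => absurd hr (Finset.notMem_empty r)⟩
    · intro y hy
      by_cases h : y = x
      · simp [h]
      · simp only [h, dite_false, Option.isSome_map]
        exact hsome k hk y ((Finset.mem_insert.1 hy).resolve_left h)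
    · intro y a ha
      by_cases h : y = x
      · subst h
        simp only [dite_true, Option.some.injEq] at ha
        subst ha
        rw [h2, Category.assoc]
      · simp only [h, dite_false, Option.map_eq_some_iff] at ha
        obtain ⟨b, hb, rfl⟩ := ha
        rw [Functor.map_comp, reassoc_of% h1, hg k hk y b hb, Category.assoc]

theorem refined_rels {U : C} (N : Finset (Node f U)) (E : Finset (Rel f M U)) :
    ∃ T ∈ J U, ∀ ⦃W : C⦄ (k : W ⟶ U), T k → Refined N E k := by
  classical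
  induction E using Finset.induction_on with
  | empty => exact refined_nodes N
  | @insert r E hr ih =>
    obtain ⟨T, hT, hT'⟩ := ih
    choose V₀ u₀ g hsome hg hE using hT'
    have key : ∀ W (k : W ⟶ U) (hk : T k), ∃ S ∈ J W, ∀ ⦃W' : C⦄ (k' : W' ⟶ W), S k' →
        Refined N (insert r E) (k' ≫ k) := by
      intro W k hk
      have same : RelOK (g k hk) r → ∃ S ∈ J W, ∀ ⦃W' : C⦄ (k' : W' ⟶ W), S k' →
          Refined N (insert r E) (k' ≫ k) := fun hok =>
        ⟨⊤, J.top_mem W, fun W' k' _ => ⟨V₀ k hk, k' ≫ u₀ k hk, g k hk, hsome k hk,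
          fun y a ha => by rw [Category.assoc, Category.assoc, hg k hk y a ha],
          Finset.forall_mem_insert _ _ _ |>.2 ⟨hok, hE k hk⟩⟩⟩
      match r with
      | .add .. => exact same trivial
      | .smul .. => exact same trivial
      | .res V V' h u m =>
        match ha : g k hk ⟨V', u⟩, hb : g k hk ⟨V, u ≫ f.fn.map h⟩ with
        | none, _ => exact same fun a b ha' _ => (Option.some_ne_none a (ha'.symm.trans ha)).elim
        | some _, none => exact same fun a b _ hb' => (Option.some_ne_none b (hb'.symm.trans hb)).elim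
        | some a, some b =>
          obtain ⟨S, hS, hS'⟩ := locally_equalize f (a ≫ h) b (u₀ k hk) (by
            rw [Functor.map_comp, ← Category.assoc, hg k hk _ a ha, hg k hk _ b hb, Category.assoc])
          refine ⟨S, hS, fun W' k' hk' => ?_⟩
          obtain ⟨V₁, e, u₁, he, hu⟩ := hS' k' hk'
          refine ⟨V₁, u₁, fun y => (g k hk y).map (e ≫ ·), fun y hy => ?_, fun y c hc => ?_, ?_⟩
          · rw [Option.isSome_map]; exact hsome k hk y hy
          · obtain ⟨c', hc', rfl⟩ := Option.map_eq_some_iff.1 hc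
            rw [Functor.map_comp, reassoc_of% hu, hg k hk y c' hc', Category.assoc]
          · intro r' hr'
            rcases Finset.mem_insert.1 hr' with rfl | hr'
            · intro a' b' ha' hb'
              simp only [ha, hb, Option.map_some, Option.some.injEq] at ha' hb'
              rw [← ha', ← hb', Category.assoc]
              exact he
            · match r' with
              | .add .. => trivial
              | .smul .. => trivial
              | .res W₁ W₂ h' v _ =>
                intro a' b' ha' hb'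
                obtain ⟨a'', ha'', rfl⟩ := Option.map_eq_some_iff.1 ha'
                obtain ⟨b'', hb'', rfl⟩ := Option.map_eq_some_iff.1 hb'
                rw [Category.assoc, hE k hk _ hr' a'' b'' ha'' hb'']
    choose S hS hS' using key
    refine ⟨Sieve.bind T.arrows fun W k hk => S W k hk, J.bind_covering hT fun W k hk => hS W k hk, ?_⟩
    rintro W' _ ⟨W, k', k, hk, hk', rfl⟩
    exact hS' W k hk k' hk'

theorem relMap_apply {U : C} (c : (RelT f M).obj (op U) →₀ O_C.obj.obj (op U)) :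
    (relMap f M).app (op U) c =
      c.sum fun r a => ((a : (ringPre O_C).obj (op U)) • relVal r : (preP f M).obj (op U)) :=
  Finsupp.lift_apply _ _ _ _ _

/-- Local trivialisation of an algebraic relation between symbols. -/
theorem trivial_of_relation (hM : RelTriv M) {U : C} {n : ℕ} (fc : Fin n → O_C.obj.obj (op U))
    (z : Fin n → ((SymT f M).obj (op U) →₀ O_C.obj.obj (op U)))
    (c : (RelT f M).obj (op U) →₀ O_C.obj.obj (op U))
    (hc : (relMap f M).app (op U) c =
      (∑ j, (fc j : (ringPre O_C).obj (op U)) • (z j : (preP f M).obj (op U)) : (preP f M).obj (op U))) :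
    ∃ T ∈ J U, ∀ ⦃W : C⦄ (k : W ⟶ U), T k →
      ∃ (l : ℕ) (t : Fin l → ModSite.sect ((ModSite.shPre O_C).obj (preQ f M)) W)
        (a : Fin n → Fin l → O_C.obj.obj (op W)),
        (∀ j, smap ((ModSite.shPre O_C).obj (preQ f M)) k (clsHom f M U (z j)) = ∑ q, a j q • t q) ∧
        (∀ q, ∑ j, a j q * rmap O_C k (fc j) = 0) := by
  classical
  let Sy : Finset ((SymT f M).obj (op U)) := Finset.univ.biUnion fun j => (z j).support
  let N : Finset (Node f U) := Sy.image node ∪ c.support.biUnion relNodes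
  obtain ⟨T₀, hT₀, hT₀'⟩ := refined_rels N c.support
  suffices key : ∀ W (k : W ⟶ U), T₀ k → ∃ T ∈ J W, ∀ ⦃W' : C⦄ (k' : W' ⟶ W), T k' →
      ∃ (l : ℕ) (t : Fin l → ModSite.sect ((ModSite.shPre O_C).obj (preQ f M)) W')
        (a : Fin n → Fin l → O_C.obj.obj (op W')),
        (∀ j, smap ((ModSite.shPre O_C).obj (preQ f M)) (k' ≫ k) (clsHom f M U (z j)) = ∑ q, a j q • t q) ∧
        (∀ q, ∑ j, a j q * rmap O_C (k' ≫ k) (fc j) = 0) by
    choose S hS hS' using key
    refine ⟨Sieve.bind T₀.arrows fun W k hk => S W k hk, J.bind_covering hT₀ fun W k hk => hS W k hk, ?_⟩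
    rintro W' _ ⟨W, k', k, hk, hk', rfl⟩
    exact hS' W k hk k' hk'
  intro W k hk
  obtain ⟨V₀, u₀, g, hsome, hg, hE⟩ := hT₀' k hk
  letI : Algebra (O_D.obj.obj (op V₀)) (O_C.obj.obj (op W)) := (rho f u₀).toAlgebra
  let mv : (SymT f M).obj (op U) → ModSite.sect M V₀ := fun s =>
    if h : (g (node s)).isSome then smap M ((g (node s)).get h) s.2.2 else 0
  letI : Module (O_D.obj.obj (op V₀)) (ModSite.sect M V₀) :=
    inferInstanceAs (Module ((ModSite.ringSh O_D).obj.obj (op V₀)) (M.val.obj (op V₀)))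
  let Tn := O_C.obj.obj (op W) ⊗[O_D.obj.obj (op V₀)] ModSite.sect M V₀
  let Φ : ((SymT f M).obj (op U) →₀ O_C.obj.obj (op U)) →+ Tn :=
    Finsupp.liftAddHom fun s => AddMonoidHom.mk' (fun r => rmap O_C k r ⊗ₜ[O_D.obj.obj (op V₀)] mv s)
      fun r r' => by rw [map_add, add_tmul]
  have hΦs : ∀ s r, Φ (Finsupp.single s r) = rmap O_C k r ⊗ₜ[O_D.obj.obj (op V₀)] mv s := fun s r => by
    simp [Φ, Finsupp.liftAddHom_apply_single]
  have hΦsmul : ∀ (r : O_C.obj.obj (op U)) x, Φ (r • x) = rmap O_C k r • Φ x := fun r x => by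
    induction x using Finsupp.induction_linear with
    | zero => simp
    | add a b ha hb => rw [smul_add, map_add, map_add, ha, hb, smul_add]
    | single s a => rw [Finsupp.smul_single, hΦs, hΦs, smul_eq_mul, map_mul, smul_tmul', smul_eq_mul]
  have hΦgen : ∀ {V : D} (v : U ⟶ f.fn.obj V) (a : V₀ ⟶ V) (m : ModSite.sect M V),
      g ⟨V, v⟩ = some a → Φ (gen v m) = 1 ⊗ₜ[O_D.obj.obj (op V₀)] smap M a m := fun {V} v a m ha => by
    show Φ (Finsupp.single _ _) = _
    rw [hΦs]
    refine (congrArg (fun t => t ⊗ₜ[O_D.obj.obj (op V₀)] mv _) (map_one (rmap O_C k))).trans (congrArg _ ?_)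
    have hn : g (node (f := f) (M := M) (U := U) ⟨V, v, m⟩) = some a := ha
    simp only [mv, hn, Option.isSome_some, dite_true, Option.get_some]
    rfl
  have hrel : ∀ r ∈ c.support, Φ (relVal r) = 0 := by
    intro r hr
    have hN : ∀ x ∈ relNodes r, ∃ a, g x = some a := fun x hx =>
      Option.isSome_iff_exists.1 (hsome x (Finset.mem_union_right _ (Finset.mem_biUnion.2 ⟨r, hr, hx⟩)))
    cases r with
    | add V v m m' =>
      obtain ⟨a, ha⟩ := hN ⟨V, v⟩ (by simp [relNodes])
      show Φ (gen v (m + m') - gen v m - gen v m') = 0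
      erw [map_sub, map_sub, hΦgen v a _ ha, hΦgen v a _ ha, hΦgen v a _ ha, map_add, tmul_add]
      abel
    | smul V v b m =>
      obtain ⟨a, ha⟩ := hN ⟨V, v⟩ (by simp [relNodes])
      show Φ (gen v (b • m) - (rho f v b : (ringPre O_C).obj (op U)) • gen v m) = 0
      erw [map_sub, hΦgen v a _ ha]
      refine sub_eq_zero.2 (Eq.trans ?_ (hΦsmul (rho f v b) _).symm)
      rw [hΦgen v a _ ha, smap_smul, TensorProduct.tmul_smul, smul_tmul', smul_tmul', Algebra.smul_def, smul_eq_mul]
      congr 2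
      show rho f u₀ (rmap O_D a b) = _
      rw [rho_rmap, hg ⟨V, v⟩ a ha, rmap_rho]
    | res V V' h v m =>
      obtain ⟨a, ha⟩ := hN ⟨V', v⟩ (by simp [relNodes])
      obtain ⟨b, hb⟩ := hN ⟨V, v ≫ f.fn.map h⟩ (by simp [relNodes])
      show Φ (gen v (smap M h m) - gen (v ≫ f.fn.map h) m) = 0
      erw [map_sub, hΦgen v a _ ha, hΦgen _ b _ hb, ← smap_comp, hE _ hr a b ha hb, sub_self]
  have hsum : ∑ j, rmap O_C k (fc j) • Φ (z j) = 0 := by
    have h1 : Φ ((relMap f M).app (op U) c) = 0 := by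
      rw [relMap_apply, Finsupp.sum]
      erw [map_sum]
      exact Finset.sum_eq_zero fun r hr => (hΦsmul (c r) _).trans (by rw [hrel r hr, smul_zero])
    rw [hc] at h1
    erw [map_sum] at h1
    exact (Finset.sum_congr rfl fun j _ => (hΦsmul (fc j) (z j)).symm).trans h1
  let e : Fin (Fintype.card Sy) ≃ Sy := (Fintype.equivFin Sy).symm
  let coef : Fin n → Fin (Fintype.card Sy) → O_C.obj.obj (op W) := fun j i => rmap O_C k (z j (e i).1)
  let m₀ : Fin (Fintype.card Sy) → ModSite.sect M V₀ := fun i => mv (e i).1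
  let nv : Fin (Fintype.card Sy) → O_C.obj.obj (op W) := fun i => ∑ j, rmap O_C k (fc j) * coef j i
  have hz : ∀ j, z j = ∑ i, Finsupp.single (e i).1 (z j (e i).1) := fun j => by
    rw [e.sum_comp (fun s : Sy => Finsupp.single s.1 (z j s.1)), Finset.sum_coe_sort Sy (fun s => Finsupp.single s (z j s))]
    refine (Finsupp.sum_single (z j)).symm.trans ?_
    exact Finsupp.sum_of_support_subset _ (fun s hs => Finset.mem_biUnion.2 ⟨j, Finset.mem_univ j, hs⟩) _
      (fun i _ => Finsupp.single_zero i)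
  have hvan : ∑ i, nv i ⊗ₜ[O_D.obj.obj (op V₀)] m₀ i = 0 := by
    refine Eq.trans ?_ hsum
    simp only [nv, sum_tmul]
    rw [Finset.sum_comm]
    refine Finset.sum_congr rfl fun j _ => ?_
    conv_rhs => rw [hz j]
    rw [map_sum, Finset.smul_sum]
    refine Finset.sum_congr rfl fun i _ => ?_
    rw [hΦs, smul_tmul', smul_eq_mul]
  obtain ⟨p, r, g', a, y, hn, hrels⟩ := vanish_data (R := O_D.obj.obj (op V₀)) (M := ModSite.sect M V₀)
    (N := O_C.obj.obj (op W)) m₀ nv hvan
  obtain ⟨S, hS, hS'⟩ := hM.many' (Sum.elim m₀ g') (fun q i => a i q) hrels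
  obtain ⟨T, hT, hT'⟩ := locally_lift f u₀ S hS
  refine ⟨T, hT, fun W' k' hk' => ?_⟩
  obtain ⟨V₁, h, u₁, hh, hu⟩ := hT' k' hk'
  obtain ⟨l, t, d, htd, hdr⟩ := hS' h hh
  refine ⟨l, fun q => cls f M u₁ (t q),
    fun j q => ∑ i, rmap O_C k' (coef j i) * rho f u₁ (d (Sum.inl i) q), fun j => ?_, fun q => ?_⟩
  · conv_lhs => rw [hz j]
    rw [map_sum, map_sum]
    simp only [Finset.sum_smul]
    rw [Finset.sum_comm]
    refine Finset.sum_congr rfl fun i _ => ?_
    obtain ⟨b, hb⟩ := Option.isSome_iff_exists.1 (hsome (node (e i).1)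
      (Finset.mem_union_left _ (Finset.mem_image_of_mem node (e i).2)))
    have h0 : (Finsupp.single (e i).1 (z j (e i).1) : (preP f M).obj (op U)) =
        ((z j (e i).1 : (ringPre O_C).obj (op U)) • gen (e i).1.2.1 (e i).1.2.2 : (preP f M).obj (op U)) :=
      ((Finsupp.smul_single (show (ringPre O_C).obj (op U) from z j (e i).1) (e i).1 (1 : (ringPre O_C).obj (op U))).trans
        (congrArg (Finsupp.single (e i).1) (mul_one (z j (e i).1 : (ringPre O_C).obj (op U))))).symm
    refine (congrArg (smap _ (k' ≫ k)) ((congrArg (clsHom f M U) h0).trans (clsHom_smul _ _))).trans ?_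
    rw [smap_smul, clsHom_gen, map_cls,
      show (k' ≫ k) ≫ (e i).1.2.1 = u₁ ≫ f.fn.map (h ≫ b) by
        rw [Functor.map_comp, reassoc_of% hu, hg _ b hb]
        exact Category.assoc _ _ _,
      ← cls_res, smap_comp]
    have hm : smap M h (smap M b (e i).1.2.2) = ∑ q, d (Sum.inl i) q • t q := by
      refine Eq.trans ?_ (htd (Sum.inl i))
      simp only [Sum.elim_inl, m₀, mv, hb, Option.isSome_some, dite_true, Option.get_some]
    refine (congrArg (_ • ·) ((congrArg (cls f M u₁) hm).trans (map_sum (clsAdd u₁) _ _))).trans ?_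
    rw [Finset.smul_sum]
    refine Finset.sum_congr rfl fun q _ => ?_
    rw [show clsAdd u₁ (d (Sum.inl i) q • t q) = rho f u₁ (d (Sum.inl i) q) • cls f M u₁ (t q) from cls_smul u₁ _ _,
      smul_smul, rmap_comp]
  · calc ∑ j, (∑ i, rmap O_C k' (coef j i) * rho f u₁ (d (Sum.inl i) q)) * rmap O_C (k' ≫ k) (fc j)
        = ∑ i : Fin (Fintype.card Sy) ⊕ Fin p, rho f u₁ (d i q) * rmap O_C k' (Sum.elim nv (fun _ => 0) i) := by
          rw [Fintype.sum_sum_type]
          simp only [Sum.elim_inl, Sum.elim_inr, map_zero, mul_zero, Finset.sum_const_zero, add_zero, nv, map_sum,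
            map_mul, Finset.sum_mul, Finset.mul_sum, rmap_comp]
          rw [Finset.sum_comm]
          exact Finset.sum_congr rfl fun i _ => Finset.sum_congr rfl fun j _ => by ring
      _ = ∑ s, rmap O_C k' (y s) * rho f u₁ (∑ i, d i q * rmap O_D h (a i s)) := by
          simp only [hn, map_sum, map_mul, Algebra.smul_def, RingHom.algebraMap_toAlgebra, Finset.mul_sum]
          rw [Finset.sum_comm]
          refine Finset.sum_congr rfl fun s _ => Finset.sum_congr rfl fun i _ => ?_
          rw [rmap_rho, rho_rmap, hu]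
          ring
      _ = 0 := Finset.sum_eq_zero fun s _ => by rw [hdr s q, map_zero, mul_zero]

/-- The inverse image of a module with locally trivial relations has the same property. -/
theorem relTriv_pullPres (hM : RelTriv M) : RelTriv ((ModSite.shPre O_C).obj (preQ f M)) := by
  classical
  intro U n fc s hrel
  choose S hS hS' using fun j => exists_local_clsHom (f := f) (M := M) (s j)
  obtain ⟨T, hT, hTS⟩ := cov_iInter S hS
  suffices key : ∀ W (k : W ⟶ U), T k → ∃ T' ∈ J W, ∀ ⦃W' : C⦄ (k' : W' ⟶ W), T' k' →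
      ∃ (l : ℕ) (t : Fin l → ModSite.sect ((ModSite.shPre O_C).obj (preQ f M)) W')
        (a : Fin n → Fin l → O_C.obj.obj (op W')),
        (∀ j, smap ((ModSite.shPre O_C).obj (preQ f M)) (k' ≫ k) (s j) = ∑ q, a j q • t q) ∧
        (∀ q, ∑ j, a j q * rmap O_C (k' ≫ k) (fc j) = 0) by
    choose S' hS₁ hS₂ using key
    refine ⟨Sieve.bind T.arrows fun W k hk => S' W k hk, J.bind_covering hT fun W k hk => hS₁ W k hk, ?_⟩
    rintro W' _ ⟨W, k', k, hk, hk', rfl⟩
    exact hS₂ W k hk k' hk'
  intro W k hk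
  choose z hz using fun j => hS' j k (hTS j k hk)
  have hzero : clsHom f M W (∑ j, (rmap O_C k (fc j) : (ringPre O_C).obj (op W)) • z j) = 0 := by
    rw [map_sum]
    have h0 := congrArg (smap ((ModSite.shPre O_C).obj (preQ f M)) k) hrel
    rw [map_sum, map_zero] at h0
    refine Eq.trans (Finset.sum_congr rfl fun j _ => ?_) h0
    rw [clsHom_smul, hz j, smap_smul]
  obtain ⟨S₁, hS₁, hS₁'⟩ := exists_local_rel _ hzero
  have key2 : ∀ W₁ (k₁ : W₁ ⟶ W), S₁ k₁ → ∃ T₂ ∈ J W₁, ∀ ⦃W₂ : C⦄ (k₂ : W₂ ⟶ W₁), T₂ k₂ →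
      ∃ (l : ℕ) (t : Fin l → ModSite.sect ((ModSite.shPre O_C).obj (preQ f M)) W₂)
        (a : Fin n → Fin l → O_C.obj.obj (op W₂)),
        (∀ j, smap ((ModSite.shPre O_C).obj (preQ f M)) ((k₂ ≫ k₁) ≫ k) (s j) = ∑ q, a j q • t q) ∧
        (∀ q, ∑ j, a j q * rmap O_C ((k₂ ≫ k₁) ≫ k) (fc j) = 0) := by
    intro W₁ k₁ hk₁
    obtain ⟨c, hc⟩ := hS₁' k₁ hk₁
    obtain ⟨T₂, hT₂, hT₂'⟩ := trivial_of_relation hM (fun j => rmap O_C (k₁ ≫ k) (fc j))
      (fun j => (preP f M).map k₁.op (z j)) c (hc.trans (by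
        rw [map_sum]
        refine Finset.sum_congr rfl fun j _ => ?_
        refine (PresheafOfModules.map_smul _ _ _ _).trans ?_
        rw [rmap_comp]
        rfl))
    refine ⟨T₂, hT₂, fun W₂ k₂ hk₂ => ?_⟩
    obtain ⟨l, t, a, h1, h2⟩ := hT₂' k₂ hk₂
    refine ⟨l, t, a, fun j => ?_, fun q => ?_⟩
    · rw [Category.assoc, smap_comp, smap_comp, ← hz j, clsHom_map k₁]
      exact h1 j
    · rw [← h2 q, Category.assoc]
      exact Finset.sum_congr rfl fun j _ => congrArg _ (rmap_comp _ _ _)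
  choose T₂ hT₂ hT₂' using key2
  refine ⟨Sieve.bind S₁.arrows fun W₁ k₁ hk₁ => T₂ W₁ k₁ hk₁,
    J.bind_covering hS₁ fun W₁ k₁ hk₁ => hT₂ W₁ k₁ hk₁, ?_⟩
  rintro W₂ _ ⟨W₁, k₂, k₁, hk₁, hk₂, rfl⟩
  exact hT₂' W₁ k₁ hk₁ k₂ hk₂

/-- The inverse image of a flat module is flat. -/
theorem isFlat_pull (hM : ModSite.IsFlat M) : ModSite.IsFlat (f.pull.obj M) :=
  isFlat_of_relTriv ((relTriv_of_iso (pullPresIso f M).symm) (relTriv_pullPres (relTriv_of_isFlat hM)))

end Groth.Agent.ModFlat16
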