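import Groth.Agent.Lib.ModFlat16.PullFlat
import Groth.Agent.Lib.ModFlat16.OverMap
import Groth.Agent.Lib.ModFlat16.ExtZero
import Groth.Agent.Lib.ModFlat16.Generators
import Mathlib.Algebra.Category.ModuleCat.Sheaf.Limits
import Mathlib.CategoryTheory.Preadditive.AdditiveFunctor

/-! Inverse images keep monomorphisms with flat cokernel. -/

set_option autoImplicit false
set_option linter.style.haveILetI false
set_option backward.isDefEq.respectTransparency false
set_option backward.isDefEq.respectTransparency.types false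

universe u

open CategoryTheory CategoryTheory.Limits Opposite TensorProduct

noncomputable section

namespace Groth.Agent.ModFlat16

open Groth.Agent.KFlat.Site

variable {C D : Type u} [SmallCategory C] [SmallCategory D] {J : GrothendieckTopology C}
  {K : GrothendieckTopology D} {O_C : Sheaf J CommRingCat.{u}} {O_D : Sheaf K CommRingCat.{u}}
  (f : ModSite.RMor O_C O_D)

/-- Sections of a short exact sequence that die on the right come locally from the left. -/
theorem locally_exact_left {S : ShortComplex (ModSite.Mod O_D)} (hS : S.ShortExact) {V : D}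
    (x : ModSite.sect S.X₂ V) (hx : S.g.val.app (op V) x = 0) : ∃ y, S.f.val.app (op V) y = x := by
  haveI := hS.mono_f
  haveI := hS.mono_f
  let h : ModSite.freeOn O_D V ⟶ S.X₂ := (freeOnHom O_D V S.X₂).symm x
  have hh : h ≫ S.g = 0 := by
    apply (freeOnHom O_D V S.X₃).injective
    rw [freeOnHom_comp, Equiv.apply_symm_apply, hx]
    have h0 := freeOnHom_comp O_D (0 : ModSite.freeOn O_D V ⟶ S.X₂) (0 : S.X₂ ⟶ S.X₃)
    rw [comp_zero] at h0
    exact h0.symm
  obtain ⟨l, hl⟩ : ∃ l, l ≫ S.f = h := ⟨hS.exact.lift h hh, hS.exact.lift_f h hh⟩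
  refine ⟨freeOnHom O_D V S.X₁ l, ?_⟩
  rw [← freeOnHom_comp, hl]
  exact (freeOnHom O_D V S.X₂).apply_symm_apply x

/-- Sections lift locally along an epimorphism. -/
theorem locally_lift_epi {A B : ModSite.Mod O_D} (φ : A ⟶ B) [Epi φ] {V : D} (x : ModSite.sect B V) :
    ∃ T ∈ K V, ∀ ⦃W : D⦄ (k : W ⟶ V), T k → ∃ a, φ.val.app (op W) a = smap B k x := by
  obtain ⟨T, hT, h⟩ := ExtSupp8.exists_local_preimage φ (V := V) x
  exact ⟨T, hT, fun W k hk => h k hk⟩

variable {f}

/-- The map on presentations. -/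
def mapSh {M N : ModSite.Mod O_D} (φ : M ⟶ N) :
    (ModSite.shPre O_C).obj (preQ f M) ⟶ (ModSite.shPre O_C).obj (preQ f N) :=
  descSh (φ ≫ toPush f N)

theorem mapSh_cls {M N : ModSite.Mod O_D} (φ : M ⟶ N) {U : C} {V : D} (u : U ⟶ f.fn.obj V)
    (m : ModSite.sect M V) : (mapSh φ).val.app (op U) (cls f M u m) = cls f N u (φ.val.app (op V) m) := by
  rw [mapSh, descSh_cls, symVal]
  refine (map_cls u (𝟙 _) _).trans ?_
  exact congrArg (fun z => cls f N z _) (Category.comp_id u)

theorem pull_map_eq {M N : ModSite.Mod O_D} (φ : M ⟶ N) :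
    f.pull.map φ = (pullPresIso f M).hom ≫ mapSh φ ≫ (pullPresIso f N).inv := by
  rw [← Iso.inv_comp_eq]
  apply hom_ext_cls
  rw [Functor.map_comp, Functor.map_comp, ← Category.assoc, ← Category.assoc]
  show (toPush f M ≫ f.push.map (descSh (f.adj.unit.app M))) ≫ f.push.map (f.pull.map φ) =
    (toPush f M ≫ f.push.map (descSh (φ ≫ toPush f N))) ≫ f.push.map (descSh (f.adj.unit.app N))
  rw [toPush_descSh, toPush_descSh, Category.assoc, toPush_descSh]
  exact (f.adj.unit.naturality φ).symm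

/-- A combination of symbols, evaluated in the tensor product at a common node. -/
theorem exists_node {M : ModSite.Mod O_D} {U : C} (N₀ : Finset (Node f U))
    (z : (SymT f M).obj (op U) →₀ O_C.obj.obj (op U))
    (hN₀ : ∀ s ∈ z.support, node s ∈ N₀)
    (c : (RelT f M).obj (op U) →₀ O_C.obj.obj (op U))
    (hc : (relMap f M).app (op U) c = (z : (preP f M).obj (op U))) :
    ∃ T ∈ J U, ∀ ⦃W : C⦄ (k : W ⟶ U), T k → ∃ (V₀ : D) (u₀ : W ⟶ f.fn.obj V₀)
      (g : ∀ x : Node f U, Option (V₀ ⟶ x.1)),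
      (∀ x ∈ N₀, (g x).isSome) ∧ (∀ x a, g x = some a → u₀ ≫ f.fn.map a = k ≫ x.2) ∧
        letI : Algebra (O_D.obj.obj (op V₀)) (O_C.obj.obj (op W)) := (rho f u₀).toAlgebra
        letI : Module (O_D.obj.obj (op V₀)) (ModSite.sect M V₀) :=
          inferInstanceAs (Module ((ModSite.ringSh O_D).obj.obj (op V₀)) (M.val.obj (op V₀)))
        (z.sum fun s r => rmap O_C k r ⊗ₜ[O_D.obj.obj (op V₀)]
          (if h : (g (node s)).isSome then smap M ((g (node s)).get h) s.2.2 else (0 : ModSite.sect M V₀))) = 0 := by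
  classical
  let N : Finset (Node f U) := N₀ ∪ c.support.biUnion relNodes
  obtain ⟨T₀, hT₀, hT₀'⟩ := refined_rels N c.support
  refine ⟨T₀, hT₀, fun W k hk => ?_⟩
  obtain ⟨V₀, u₀, g, hsome, hg, hE⟩ := hT₀' k hk
  refine ⟨V₀, u₀, g, fun x hx => hsome x (Finset.mem_union_left _ hx), hg, ?_⟩
  letI : Algebra (O_D.obj.obj (op V₀)) (O_C.obj.obj (op W)) := (rho f u₀).toAlgebra
  let mv : (SymT f M).obj (op U) → ModSite.sect M V₀ := fun s =>
    if h : (g (node s)).isSome then smap M ((g (node s)).get h) s.2.2 else 0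
  letI : Module (O_D.obj.obj (op V₀)) (ModSite.sect M V₀) :=
    inferInstanceAs (Module ((ModSite.ringSh O_D).obj.obj (op V₀)) (M.val.obj (op V₀)))
  let Tn := O_C.obj.obj (op W) ⊗[O_D.obj.obj (op V₀)] ModSite.sect M V₀
  let Φ : ((SymT f M).obj (op U) →₀ O_C.obj.obj (op U)) →+ Tn :=
    Finsupp.liftAddHom fun s => AddMonoidHom.mk' (fun r => rmap O_C k r ⊗ₜ[O_D.obj.obj (op V₀)] mv s)
      fun r r' => by rw [map_add, add_tmul]
  have hΦs : ∀ s r, Φ (Finsupp.single s r) = rmap O_C k r ⊗ₜ[O_D.obj.obj (op V₀)] mv s := fun s r => by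
    simp [Φ, Finsupp.liftAddHom_apply_single]
  have hΦsmul : ∀ (r : O_C.obj.obj (op U)) x, Φ (r • x) = rmap O_C k r • Φ x := fun r x => by
    induction x using Finsupp.induction_linear with
    | zero => simp
    | add a b ha hb => rw [smul_add, map_add, map_add, ha, hb, smul_add]
    | single s a => rw [Finsupp.smul_single, hΦs, hΦs, smul_eq_mul, map_mul, smul_tmul', smul_eq_mul]
  have hΦgen : ∀ {V : D} (v : U ⟶ f.fn.obj V) (a : V₀ ⟶ V) (m : ModSite.sect M V),
      g ⟨V, v⟩ = some a → Φ (gen v m) = 1 ⊗ₜ[O_D.obj.obj (op V₀)] smap M a m := fun {V} v a m ha => by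
    show Φ (Finsupp.single _ _) = _
    rw [hΦs]
    refine (congrArg (fun t => t ⊗ₜ[O_D.obj.obj (op V₀)] mv _) (map_one (rmap O_C k))).trans (congrArg _ ?_)
    have hn : g (node (f := f) (M := M) (U := U) ⟨V, v, m⟩) = some a := ha
    simp only [mv, hn, Option.isSome_some, dite_true, Option.get_some]
    rfl
  have hrel : ∀ r ∈ c.support, Φ (relVal r) = 0 := by
    intro r hr
    have hN : ∀ x ∈ relNodes r, ∃ a, g x = some a := fun x hx =>
      Option.isSome_iff_exists.1 (hsome x (Finset.mem_union_right _ (Finset.mem_biUnion.2 ⟨r, hr, hx⟩)))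
    cases r with
    | add V v m m' =>
      obtain ⟨a, ha⟩ := hN ⟨V, v⟩ (by simp [relNodes])
      show Φ (gen v (m + m') - gen v m - gen v m') = 0
      erw [map_sub, map_sub, hΦgen v a _ ha, hΦgen v a _ ha, hΦgen v a _ ha, map_add, tmul_add]
      abel
    | smul V v b m =>
      obtain ⟨a, ha⟩ := hN ⟨V, v⟩ (by simp [relNodes])
      show Φ (gen v (b • m) - (rho f v b : (ringPre O_C).obj (op U)) • gen v m) = 0
      erw [map_sub, hΦgen v a _ ha]
      refine sub_eq_zero.2 (Eq.trans ?_ (hΦsmul (rho f v b) _).symm)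
      rw [hΦgen v a _ ha, smap_smul, TensorProduct.tmul_smul, smul_tmul', smul_tmul', Algebra.smul_def, smul_eq_mul]
      congr 2
      show rho f u₀ (rmap O_D a b) = _
      rw [rho_rmap, hg ⟨V, v⟩ a ha, rmap_rho]
    | res V V' h v m =>
      obtain ⟨a, ha⟩ := hN ⟨V', v⟩ (by simp [relNodes])
      obtain ⟨b, hb⟩ := hN ⟨V, v ≫ f.fn.map h⟩ (by simp [relNodes])
      show Φ (gen v (smap M h m) - gen (v ≫ f.fn.map h) m) = 0
      erw [map_sub, hΦgen v a _ ha, hΦgen _ b _ hb, ← smap_comp, hE _ hr a b ha hb, sub_self]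
  have h1 : Φ ((relMap f M).app (op U) c) = 0 := by
    rw [relMap_apply, Finsupp.sum]
    erw [map_sum]
    exact Finset.sum_eq_zero fun r hr => (hΦsmul (c r) _).trans (by rw [hrel r hr, smul_zero])
  rw [hc] at h1
  refine Eq.trans ?_ h1
  exact (Finsupp.liftAddHom_apply (fun s => AddMonoidHom.mk' (fun r => rmap O_C k r ⊗ₜ[O_D.obj.obj (op V₀)] mv s)
      fun r r' => by rw [map_add, add_tmul]) z).symm

theorem clsHom_eq_sum {M : ModSite.Mod O_D} {U : C} (z : (SymT f M).obj (op U) →₀ O_C.obj.obj (op U)) :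
    clsHom f M U (z : (preP f M).obj (op U)) =
      z.sum fun s r => (r • cls f M s.2.1 s.2.2 : ModSite.sect ((ModSite.shPre O_C).obj (preQ f M)) U) := by
  conv_lhs => rw [← Finsupp.sum_single z]
  rw [Finsupp.sum, Finsupp.sum]
  refine (map_sum (clsHom f M U) _ _).trans (Finset.sum_congr rfl fun s _ => ?_)
  refine (congrArg (clsHom f M U) (Finsupp.smul_single_one (R := (ringPre O_C).obj (op U)) s (z s)).symm).trans ?_
  exact (clsHom_smul _ _).trans (congrArg (z s • ·) (clsHom_gen s.2.1 s.2.2))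

/-- The action of a map on symbols. -/
def symMap {M N : ModSite.Mod O_D} (φ : M ⟶ N) {U : C} : (SymT f M).obj (op U) → (SymT f N).obj (op U) :=
  fun s => ⟨s.1, s.2.1, φ.val.app (op s.1) s.2.2⟩

theorem map_mapDomain_symMap {M N : ModSite.Mod O_D} (φ : M ⟶ N) {U W : C} (k : W ⟶ U)
    (z : (SymT f M).obj (op U) →₀ O_C.obj.obj (op U)) :
    (preP f N).map k.op (Finsupp.mapDomain (symMap φ) z : (preP f N).obj (op U)) =
      Finsupp.mapDomain (symMap φ) ((preP f M).map k.op z : (SymT f M).obj (op W) →₀ O_C.obj.obj (op W)) := by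
  induction z using Finsupp.induction_linear with
  | zero => rw [Finsupp.mapDomain_zero]; erw [map_zero, map_zero]; exact Finsupp.mapDomain_zero.symm
  | add a b ha hb =>
    rw [Finsupp.mapDomain_add]
    erw [map_add, map_add]
    exact (congrArg₂ (· + ·) ha hb).trans Finsupp.mapDomain_add.symm
  | single s r =>
    obtain ⟨V, v, m⟩ := s
    rw [Finsupp.mapDomain_single]
    have e₁ : ∀ {M : ModSite.Mod O_D} (m : ModSite.sect M V),
        (preP f M).map k.op (Finsupp.single (⟨V, v, m⟩ : (SymT f M).obj (op U)) r : (preP f M).obj (op U)) =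
          (Finsupp.single (⟨V, k ≫ v, m⟩ : (SymT f M).obj (op W)) (rmap O_C k r) : (preP f M).obj (op W)) := by
      intro M m
      refine (congrArg ((preP f M).map k.op) (Finsupp.smul_single_one (R := (ringPre O_C).obj (op U)) _ r).symm).trans ?_
      refine (PresheafOfModules.map_smul _ _ _ _).trans ?_
      refine (congrArg _ (map_gen k v m)).trans ?_
      exact Finsupp.smul_single_one (R := (ringPre O_C).obj (op W)) _ _
    refine (e₁ _).trans ?_
    erw [e₁ m, Finsupp.mapDomain_single]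
    rfl

/-- Inverse image keeps the monomorphism of a short exact sequence with flat cokernel. -/
theorem mono_pull_of_flat {S : ShortComplex (ModSite.Mod O_D)} (hS : S.ShortExact) (hH : ModSite.IsFlat S.X₃) :
    Mono (f.pull.map S.f) := by
  classical
  have hR := relTriv_of_isFlat hH
  suffices h : Mono (mapSh (f := f) S.f) by rw [pull_map_eq]; infer_instance
  haveI := hS.mono_f
  haveI := hS.epi_g
  let PF := (ModSite.shPre O_C).obj (preQ f S.X₁)
  suffices hinj : ∀ (U : C) (σ : ModSite.sect PF U), (mapSh (f := f) S.f).val.app (op U) σ = 0 → σ = 0 by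
    have hm : Mono ((ModSite.toPre O_C).map (mapSh (f := f) S.f)) := PresheafOfModules.mono_of_injective fun {A} =>
      (injective_iff_map_eq_zero ((mapSh (f := f) S.f).val.app A).hom).2 fun x hx => hinj A.unop x hx
    haveI := (toPreFF O_C).faithful
    exact (ModSite.toPre O_C).mono_of_mono_map hm
  intro U σ hσ
  have sep : ∀ {U : C} (σ : ModSite.sect PF U) (T : Sieve U), T ∈ J U →
      (∀ ⦃W : C⦄ (k : W ⟶ U), T k → smap PF k σ = 0) → σ = 0 := fun {U} σ T hT h =>
    (Presheaf.IsSheaf.isSeparated (ModSite.toAb PF).property) U T hT _ _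
      fun W k hk => (h k hk).trans (map_zero (smap PF k)).symm
  obtain ⟨S₀, hS₀, hz₀⟩ := exists_local_clsHom σ
  refine sep σ S₀ hS₀ fun W₀ k₀ hk₀ => ?_
  obtain ⟨z, hz⟩ := hz₀ k₀ hk₀
  rw [← hz]
  let φ : (SymT f S.X₁).obj (op W₀) → (SymT f S.X₂).obj (op W₀) := symMap S.f
  let z' : (SymT f S.X₁).obj (op W₀) →₀ O_C.obj.obj (op W₀) := z
  let zG : (SymT f S.X₂).obj (op W₀) →₀ O_C.obj.obj (op W₀) := Finsupp.mapDomain φ z'
  have hzG : clsHom f S.X₂ W₀ (zG : (preP f S.X₂).obj (op W₀)) = 0 := by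
    have h0 : (mapSh (f := f) S.f).val.app (op W₀) (clsHom f S.X₁ W₀ z) = 0 := by
      rw [hz]
      exact (PresheafOfModules.naturality_apply (mapSh (f := f) S.f).val k₀.op σ).trans
        ((congrArg _ hσ).trans (map_zero _))
    refine Eq.trans ?_ h0
    rw [clsHom_eq_sum, clsHom_eq_sum z', Finsupp.sum_mapDomain_index
      (h := fun (s : (SymT f S.X₂).obj (op W₀)) (r : O_C.obj.obj (op W₀)) =>
        (r • cls f S.X₂ s.2.1 s.2.2 : ModSite.sect ((ModSite.shPre O_C).obj (preQ f S.X₂)) W₀))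
      (fun s => zero_smul _ _) (fun s r r' => add_smul r r' _), Finsupp.sum, Finsupp.sum]
    refine Eq.trans (Finset.sum_congr rfl fun s _ => ?_) (map_sum _ _ _).symm
    exact ((congrArg _ (mapSh_cls S.f s.2.1 s.2.2).symm).trans ((map_smul _ _ _).symm))
  obtain ⟨S₁, hS₁, hc₁⟩ := exists_local_rel _ hzG
  refine sep _ S₁ hS₁ fun W₁ k₁ hk₁ => ?_
  obtain ⟨c, hc⟩ := hc₁ k₁ hk₁
  -- restrict the symbols
  let z₁ : (SymT f S.X₁).obj (op W₁) →₀ O_C.obj.obj (op W₁) := (preP f S.X₁).map k₁.op z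
  let φ₁ : (SymT f S.X₁).obj (op W₁) → (SymT f S.X₂).obj (op W₁) := symMap S.f
  have hc' : (relMap f S.X₂).app (op W₁) c = (Finsupp.mapDomain φ₁ z₁ : (preP f S.X₂).obj (op W₁)) := by
    exact hc.trans (map_mapDomain_symMap S.f k₁ z')
  let N₀ : Finset (Node f W₁) := z₁.support.image node
  obtain ⟨T, hT, hT'⟩ := exists_node (f := f) (M := S.X₂) N₀ (Finsupp.mapDomain φ₁ z₁) (fun s hs => by
    obtain ⟨t, ht, rfl⟩ := Finset.mem_image.1 (Finsupp.mapDomain_support hs)
    exact Finset.mem_image.2 ⟨t, ht, rfl⟩) c hc'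
  rw [clsHom_map k₁, show (preP f S.X₁).map k₁.op z = (z₁ : (preP f S.X₁).obj (op W₁)) from rfl]
  refine sep _ T hT fun W₂ k hk => ?_
  obtain ⟨V₀, u₀, g, hsome, hg, hsum⟩ := hT' k hk
  letI : Algebra (O_D.obj.obj (op V₀)) (O_C.obj.obj (op W₂)) := (rho f u₀).toAlgebra
  letI : Module (O_D.obj.obj (op V₀)) (ModSite.sect S.X₂ V₀) :=
    inferInstanceAs (Module ((ModSite.ringSh O_D).obj.obj (op V₀)) (S.X₂.val.obj (op V₀)))
  let e : Fin (Fintype.card z₁.support) ≃ z₁.support := (Fintype.equivFin z₁.support).symm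
  choose a ha using fun i => Option.isSome_iff_exists.1
    (hsome (node (e i).1) (Finset.mem_image_of_mem node (e i).2))
  let nv : Fin (Fintype.card z₁.support) → O_C.obj.obj (op W₂) := fun i => rmap O_C k (z₁ (e i).1)
  let mF : Fin (Fintype.card z₁.support) → ModSite.sect S.X₁ V₀ := fun i => smap S.X₁ (a i) (e i).1.2.2
  let mG : Fin (Fintype.card z₁.support) → ModSite.sect S.X₂ V₀ := fun i => S.f.val.app (op V₀) (mF i)
  have hvan : ∑ i, nv i ⊗ₜ[O_D.obj.obj (op V₀)] mG i = 0 := by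
    refine Eq.trans ?_ hsum
    rw [Finsupp.sum_mapDomain_index (fun s => by rw [map_zero, TensorProduct.zero_tmul])
      (fun s r r' => by rw [map_add, TensorProduct.add_tmul]), Finsupp.sum]
    refine Eq.trans ?_ (Finset.sum_coe_sort z₁.support _)
    refine Eq.trans ?_ (e.sum_comp _)
    refine Finset.sum_congr rfl fun i _ => congrArg (nv i ⊗ₜ[O_D.obj.obj (op V₀)] ·) ?_
    have hn : g (node (φ₁ (e i).1)) = some (a i) := ha i
    simp only [hn, Option.isSome_some, dite_true, Option.get_some]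
    exact PresheafOfModules.naturality_apply S.f.val (a i).op (e i).1.2.2
  obtain ⟨p, r, g', A, y, hn, hrels⟩ := vanish_data (R := O_D.obj.obj (op V₀)) (M := ModSite.sect S.X₂ V₀)
    (N := O_C.obj.obj (op W₂)) mG nv hvan
  -- the relations in the flat quotient
  let h' : Fin p → ModSite.sect S.X₃ V₀ := fun j => S.g.val.app (op V₀) (g' j)
  have hgf : ∀ (V : D) (x : ModSite.sect S.X₁ V), S.g.val.app (op V) (S.f.val.app (op V) x) = 0 := fun V x =>
    congrArg (fun q : S.X₁ ⟶ S.X₃ => q.val.app (op V) x) S.zero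
  have hH' : ∀ s, ∑ j, A (Sum.inr j) s • h' j = 0 := fun s => by
    have h0 := congrArg (S.g.val.app (op V₀)) (hrels s)
    rw [map_sum, map_zero, Fintype.sum_sum_type] at h0
    refine Eq.trans ?_ h0
    rw [show (∑ i, S.g.val.app (op V₀) (A (Sum.inl i) s • Sum.elim mG g' (Sum.inl i))) = 0 from
      Finset.sum_eq_zero fun i _ => by erw [map_smul]; rw [show Sum.elim mG g' (Sum.inl i) = mG i from rfl];
                                       exact (congrArg _ (hgf V₀ (mF i))).trans (smul_zero _), zero_add]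
    exact Finset.sum_congr rfl fun j _ => ((S.g.val.app (op V₀)).hom.map_smul _ _).symm
  obtain ⟨S₂, hS₂, hd⟩ := hR.many' h' (fun s j => A (Sum.inr j) s) hH'
  choose V₁ h₁ u₁ hh₁ hu₁ using (locally_lift f u₀ S₂ hS₂).choose_spec.2
  let T₁ := (locally_lift f u₀ S₂ hS₂).choose
  refine sep _ T₁ (locally_lift f u₀ S₂ hS₂).choose_spec.1 fun W₃ k₃ hk₃ => ?_
  obtain ⟨l, t, d, htd, hdr⟩ := hd (h₁ k₃ hk₃) (hh₁ k₃ hk₃)
  choose T₂ hT₂ hlift using fun q => locally_lift_epi S.g (t q)
  obtain ⟨T₃, hT₃, hT₃'⟩ := cov_iInter (J := K) T₂ hT₂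
  obtain ⟨T₄, hT₄, hT₄'⟩ := locally_lift f (u₁ k₃ hk₃) T₃ hT₃
  refine sep _ T₄ hT₄ fun W₄ k₄ hk₄ => ?_
  obtain ⟨V₂, h₂, u₂, hh₂, hu₂⟩ := hT₄' k₄ hk₄
  choose tt htt using fun q => hlift q h₂ (hT₃' q h₂ hh₂)
  let h := h₂ ≫ h₁ k₃ hk₃
  have hfg : ∀ j, ∃ x, S.f.val.app (op V₂) x =
      smap S.X₂ h (g' j) - ∑ q, rmap O_D h₂ (d j q) • tt q := fun j => by
    refine locally_exact_left hS _ ?_
    rw [map_sub, map_sum]
    refine sub_eq_zero.2 ?_
    refine (PresheafOfModules.naturality_apply S.g.val h.op (g' j)).trans ?_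
    refine Eq.trans ((smap_comp (h₁ k₃ hk₃) h₂ (h' j)).trans ?_) (Finset.sum_congr rfl fun q _ =>
      ((S.g.val.app (op V₂)).hom.map_smul _ _).symm)
    rw [htd j, map_sum]
    refine Finset.sum_congr rfl fun q _ => ?_
    rw [smap_smul]
    exact congrArg (_ • ·) (htt q).symm
  choose fg hfg' using hfg
  have hrelF : ∀ s, ∑ i, rmap O_D h (A (Sum.inl i) s) • smap S.X₁ h (mF i) +
      ∑ j, rmap O_D h (A (Sum.inr j) s) • fg j = 0 := fun s => by
    haveI : Mono ((SheafOfModules.evaluation (ModSite.ringSh O_D) (op V₂)).map S.f) := inferInstance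
    apply (ModuleCat.mono_iff_injective (S.f.val.app (op V₂))).1 (by assumption)
    rw [map_add, map_sum, map_sum, map_zero]
    have h0 := congrArg (smap S.X₂ h) (hrels s)
    rw [map_sum, map_zero, Fintype.sum_sum_type] at h0
    refine Eq.trans ?_ h0
    refine congrArg₂ (· + ·) (Finset.sum_congr rfl fun i _ => ?_) ?_
    · refine ((S.f.val.app (op V₂)).hom.map_smul _ _).trans ?_
      rw [smap_smul]
      exact congrArg (_ • ·) (PresheafOfModules.naturality_apply S.f.val h.op (mF i))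
    · refine Eq.trans (Finset.sum_congr rfl fun j _ => ((S.f.val.app (op V₂)).hom.map_smul _ _).trans
        (congrArg (rmap O_D h (A (Sum.inr j) s) • ·) (hfg' j))) ?_
      simp only [Sum.elim_inr, smap_smul, smul_sub, Finset.sum_sub_distrib, Finset.smul_sum, smul_smul]
      rw [Finset.sum_comm (f := fun j q => (rmap O_D h (A (Sum.inr j) s) * rmap O_D h₂ (d j q)) • tt q),
        sub_eq_self]
      refine Finset.sum_eq_zero fun q _ => ?_
      rw [← Finset.sum_smul]
      have h2 := congrArg (rmap O_D h₂) (hdr s q)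
      rw [map_sum, map_zero] at h2
      rw [show ∑ j, rmap O_D h (A (Sum.inr j) s) * rmap O_D h₂ (d j q) = 0 from
        Eq.trans (Finset.sum_congr rfl fun j _ => by
          rw [map_mul, mul_comm, rmap_comp (h₁ k₃ hk₃) h₂]) h2, zero_smul]
  -- conclusion
  let k' := k₄ ≫ k₃
  have hu : u₂ ≫ f.fn.map h = k' ≫ u₀ := by
    rw [Functor.map_comp, reassoc_of% hu₂, hu₁ k₃ hk₃, Category.assoc]
  rw [← smap_comp, ← smap_comp, clsHom_eq_sum, Finsupp.sum, map_sum, ← Finset.sum_coe_sort, ← e.sum_comp]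
  have hterm : ∀ i, smap PF (k' ≫ k) (z₁ (e i).1 • cls f S.X₁ (e i).1.2.1 (e i).1.2.2) =
      rmap O_C k' (nv i) • clsAdd u₂ (smap S.X₁ h (mF i)) := fun i => by
    rw [smap_smul, map_cls]
    refine congrArg₂ (· • ·) (rmap_comp _ _ _) ?_
    show _ = cls f S.X₁ u₂ (smap S.X₁ h (mF i))
    rw [← smap_comp, cls_res]
    refine congrArg (fun w => cls f S.X₁ w (e i).1.2.2) ?_
    rw [Functor.map_comp, reassoc_of% hu, hg _ _ (ha i)]
    exact Category.assoc _ _ _
  refine (Finset.sum_congr rfl fun i _ => hterm i).trans ?_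
  have hall : ∑ i : Fin (Fintype.card z₁.support) ⊕ Fin p,
      rmap O_C k' (Sum.elim nv (fun _ => 0) i) • clsAdd u₂ (Sum.elim (fun i => smap S.X₁ h (mF i)) fg i) = 0 := by
    calc _ = ∑ s, rmap O_C k' (y s) • ∑ i : Fin (Fintype.card z₁.support) ⊕ Fin p,
          clsAdd u₂ (rmap O_D h (A i s) • Sum.elim (fun i => smap S.X₁ h (mF i)) fg i) := by
          simp only [Finset.smul_sum]
          rw [Finset.sum_comm]
          refine Finset.sum_congr rfl fun i _ => ?_
          rw [hn i, map_sum, Finset.sum_smul]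
          refine Finset.sum_congr rfl fun s _ => ?_
          rw [show clsAdd u₂ (rmap O_D h (A i s) • Sum.elim (fun i => smap S.X₁ h (mF i)) fg i) = _ from
            cls_smul u₂ _ _, smul_smul, Algebra.smul_def, map_mul, mul_comm]
          refine congrArg₂ (· • ·) (congrArg₂ (· * ·) rfl ?_) rfl
          show rmap O_C k' (rho f u₀ (A i s)) = _
          rw [rmap_rho, rho_rmap, hu]
      _ = 0 := Finset.sum_eq_zero fun s _ => by
          rw [← map_sum, Fintype.sum_sum_type]
          simp only [Sum.elim_inl, Sum.elim_inr]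
          rw [hrelF s, map_zero, smul_zero]
  rw [Fintype.sum_sum_type] at hall
  simpa using hall

theorem shortExact_pull_of_flat {S : ShortComplex (ModSite.Mod O_D)} (hS : S.ShortExact) (hH : ModSite.IsFlat S.X₃) :
    (S.map f.pull).ShortExact := by
  haveI : f.pull.IsLeftAdjoint := f.adj.isLeftAdjoint
  haveI : PreservesColimitsOfSize.{0, 0} f.pull := f.adj.leftAdjoint_preservesColimits
  haveI : PreservesFiniteColimits f.pull := PreservesColimitsOfSize.preservesFiniteColimits _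
  haveI := preservesBinaryBiproducts_of_preservesBinaryCoproducts f.pull
  haveI : f.pull.Additive := Functor.additive_of_preservesBinaryBiproducts _
  obtain ⟨h1, h2⟩ := (f.pull.preservesFiniteColimits_iff_forall_exact_map_and_epi).1 inferInstance S hS
  exact { exact := h1, mono_f := mono_pull_of_flat hS hH, epi_g := h2 }

end Groth.Agent.ModFlat16
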