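import Groth.Agent.Lib.ModFlat16.BasisTop
import Groth.Agent.Lib.CohFound.Colim

/-! Modules of finite type as directed colimits. -/

set_option autoImplicit false
set_option linter.style.haveILetI false
set_option linter.unusedSectionVars false
set_option backward.isDefEq.respectTransparency false
set_option backward.isDefEq.respectTransparency.types false

universe u

open CategoryTheory CategoryTheory.Limits Opposite TopologicalSpace

noncomputable section

namespace Groth.Agent.ModFlat16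

theorem app_injective {C : Type u} [SmallCategory C] {J : GrothendieckTopology C} {O : Sheaf J CommRingCat.{u}}
    {M N : ModSite.Mod O} (φ : M ⟶ N) [Mono φ] (V : C) : Function.Injective (φ.val.app (op V)) := by
  intro a b h
  apply (freeOnHom O V M).symm.injective
  rw [← cancel_mono φ]
  apply (freeOnHom O V N).injective
  rw [freeOnHom_comp, freeOnHom_comp, Equiv.apply_symm_apply, Equiv.apply_symm_apply, h]

variable {X : TopCat.{u}} {O : TopCat.Sheaf CommRingCat.{u} X} {I : Type u} [Preorder I] [Nonempty I]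
  [IsDirected I (· ≤ ·)] (D : I ⥤ ModSite.Mod O) (c : Cocone D) (hc : IsColimit c)

/-- The colimit of the underlying abelian sheaves. -/
def abCocone : Cocone (D ⋙ SheafOfModules.toSheaf (ModSite.ringSh O)) :=
  (SheafOfModules.toSheaf (ModSite.ringSh O)).mapCocone c

include hc in
theorem exists_local_rep' {U : Opens X} (s : ModSite.sect c.pt U) {x : X} (hx : x ∈ U) :
    ∃ (j : I) (V : Opens X) (hV : V ≤ U), x ∈ V ∧
      ∃ t : ModSite.sect (D.obj j) V, (c.ι.app j).val.app (op V) t = smap c.pt (homOfLE hV) s :=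
  haveI : PreservesColimitsOfSize.{u, u} (SheafOfModules.toSheaf (ModSite.ringSh O)) := ⟨inferInstance⟩
  CohFound.exists_local_rep (D := D ⋙ SheafOfModules.toSheaf (ModSite.ringSh O))
    (c := (SheafOfModules.toSheaf (ModSite.ringSh O)).mapCocone c)
    (isColimitOfPreserves (SheafOfModules.toSheaf (ModSite.ringSh O)) hc) (U := U) s hx

include hc in
theorem exists_local_zero' {j : I} {U : Opens X} (t : ModSite.sect (D.obj j) U)
    (ht : (c.ι.app j).val.app (op U) t = 0) {x : X} (hx : x ∈ U) :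
    ∃ (k : I) (f : j ⟶ k) (V : Opens X) (hV : V ≤ U), x ∈ V ∧
      smap (D.obj k) (homOfLE hV) ((D.map f).val.app (op U) t) = 0 :=
  haveI : PreservesColimitsOfSize.{u, u} (SheafOfModules.toSheaf (ModSite.ringSh O)) := ⟨inferInstance⟩
  CohFound.exists_local_zero (D := D ⋙ SheafOfModules.toSheaf (ModSite.ringSh O))
    (c := (SheafOfModules.toSheaf (ModSite.ringSh O)).mapCocone c)
    (isColimitOfPreserves (SheafOfModules.toSheaf (ModSite.ringSh O)) hc) (U := U) t ht hx

include hc in
theorem exists_epi_stage [CompactSpace X] [SheafOfModules.IsFiniteType (R := ModSite.ringSh O) c.pt] :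
    ∃ i : I, Epi (c.ι.app i) := by
  classical
  have key : ∀ x : X, ∃ (i : I) (U : Opens X) (ι : Type u) (_ : Fintype ι) (s : ι → ModSite.sect c.pt U)
      (g : ι → ModSite.sect (D.obj i) U), x ∈ U ∧ Gens c.pt U s ∧ ∀ a, (c.ι.app i).val.app (op U) (g a) = s a := by
    intro x
    obtain ⟨S, hS, h⟩ := covd_hasGens (M := c.pt) ⊤
    obtain ⟨U, f, hf, hxU⟩ := hS x trivial
    obtain ⟨ι, hι, s, hs⟩ := h f hf
    choose j V hV hxV t ht using fun a => exists_local_rep' D c hc (s a) hxU
    obtain ⟨i, hi⟩ := Finite.exists_le j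
    let W : Opens X := U ⊓ ⟨⋂ a, (V a : Set X), isOpen_iInter_of_finite fun a => (V a).2⟩
    have hWV : ∀ a, W ≤ V a := fun a y hy => Set.mem_iInter.1 hy.2 a
    refine ⟨i, W, ι, hι, fun a => smap c.pt (homOfLE inf_le_left) (s a),
      fun a => (D.map (homOfLE (hi a))).val.app (op W) (smap (D.obj (j a)) (homOfLE (hWV a)) (t a)),
      ⟨hxU, Set.mem_iInter.2 fun a => hxV a⟩, gens_smap _ hs, fun a => ?_⟩
    refine (congrArg (fun q : D.obj (j a) ⟶ c.pt => q.val.app (op W) (smap (D.obj (j a)) (homOfLE (hWV a)) (t a)))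
      (c.w (homOfLE (hi a)))).trans ?_
    rw [app_smap]
    refine (congrArg (smap c.pt (homOfLE (hWV a))) (ht a)).trans ?_
    exact (smap_comp (homOfLE (hV a)) (homOfLE (hWV a)) (s a)).symm
  choose i U ι hι s g hxU hs hg using key
  obtain ⟨T, hT⟩ := isCompact_univ.elim_finite_subcover (fun x => (U x : Set X)) (fun x => (U x).2)
    fun x _ => Set.mem_iUnion.2 ⟨x, hxU x⟩
  obtain ⟨i₀, hi₀⟩ := Finite.exists_le fun x : T => i x
  refine ⟨i₀, epi_of_local_preimages _ fun V y => ?_⟩
  obtain ⟨S, hS, hS'⟩ := exists_cover_le (V := V) (fun W => ∃ x ∈ T, W = U x) fun z _ => by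
    obtain ⟨x, hx⟩ := Set.mem_iUnion.1 (hT (Set.mem_univ z))
    obtain ⟨hxT, hz⟩ := Set.mem_iUnion.1 hx
    exact ⟨U x, hz, x, hxT, rfl⟩
  refine bind_cover S hS fun W m hm => ?_
  obtain ⟨_, hWU, x, hxT, rfl⟩ := hS' m hm
  obtain ⟨R, hR, hR'⟩ := local_preimages_of_gens (c.ι.app i₀) (hs x)
    (fun a => (D.map (homOfLE (hi₀ ⟨x, hxT⟩))).val.app (op (U x)) (g x a))
    (fun a => (congrArg (fun q : D.obj (i x) ⟶ c.pt => q.val.app (op (U x)) (g x a))
      (c.w (homOfLE (hi₀ ⟨x, hxT⟩)))).trans (hg x a)) (homOfLE hWU) (smap c.pt m y)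
  refine ⟨R, hR, fun W' m' hm' => ?_⟩
  obtain ⟨z, hz⟩ := hR' m' hm'
  exact ⟨z, hz.trans (smap_comp m m' y).symm⟩

include hc in
theorem mono_stage (h : ∀ (i j : I) (f : i ⟶ j), Mono (D.map f)) (i : I) : Mono (c.ι.app i) := by
  refine mono_of_injective _ fun V a b hab => sub_eq_zero.1 ?_
  choose k f W hW hxW hz using fun x : V =>
    exists_local_zero' D c hc (a - b) (by rw [map_sub]; exact sub_eq_zero.2 hab) x.2
  obtain ⟨S, hS, hS'⟩ := exists_cover_le (V := V) (fun U => ∃ x : V, U = W x)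
    fun x hx => ⟨W ⟨x, hx⟩, hxW ⟨x, hx⟩, ⟨x, hx⟩, rfl⟩
  refine eq_of_locally _ 0 S hS fun U l hl => ?_
  obtain ⟨_, hU, x, rfl⟩ := hS' l hl
  rw [map_zero]
  haveI := h i (k x) (f x)
  refine app_injective (D.map (f x)) U ?_
  rw [map_zero, app_smap, show l = homOfLE hU ≫ homOfLE (hW x) from Subsingleton.elim _ _, smap_comp, hz x, map_zero]

end Groth.Agent.ModFlat16
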