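import Groth.Agent.Lib.ModFlat16.Basis
import Mathlib.CategoryTheory.Sites.Spaces

/-! Bases of modules on ringed spaces. -/

set_option autoImplicit false
set_option linter.style.haveILetI false
set_option linter.unusedSectionVars false
set_option backward.isDefEq.respectTransparency false
set_option backward.isDefEq.respectTransparency.types false

universe u

open CategoryTheory CategoryTheory.Limits Opposite TopologicalSpace

noncomputable section

namespace Groth.Agent.ModFlat16

variable {X : TopCat.{u}} {O : TopCat.Sheaf CommRingCat.{u} X} {M N : ModSite.Mod O}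

/-- The sieve of small opens. -/
theorem exists_cover_le {V : Opens X} (P : Opens X → Prop)
    (h : ∀ x ∈ V, ∃ U : Opens X, x ∈ U ∧ P U) :
    ∃ S ∈ Opens.grothendieckTopology X V, ∀ ⦃W : Opens X⦄ (l : W ⟶ V), S l → ∃ U, W ≤ U ∧ P U := by
  refine ⟨⟨fun W => {_l | ∃ U, W ≤ U ∧ P U}, ?_⟩, ?_, fun W l hl => hl⟩
  · rintro W W' l ⟨U, hU, hP⟩ g
    exact ⟨U, (leOfHom g).trans hU, hP⟩
  · intro x hx
    obtain ⟨U, hxU, hP⟩ := h x hx
    exact ⟨U ⊓ V, homOfLE inf_le_right, ⟨U, inf_le_left, hP⟩, hxU, hx⟩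

theorem isIso_of_epi_of_local_bases {ι : Type u} [Fintype ι] (φ : M ⟶ N) [Epi φ]
    (h : ∀ x : X, ∃ U : Opens X, x ∈ U ∧ ∃ (e : ι → ModSite.sect M U) (e' : ι → ModSite.sect N U),
      IsBasis M U e ∧ IsBasis N U e') : IsIso φ := by
  haveI : Mono φ := mono_of_injective φ fun V x y hxy => by
    rw [← sub_eq_zero]
    obtain ⟨S, hS, hS'⟩ := exists_cover_le (V := V) _ fun x _ => h x
    refine eq_of_locally _ 0 S hS fun W l hl => ?_
    obtain ⟨U, hWU, e, e', he, he'⟩ := hS' l hl
    rw [map_zero]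
    refine injective_of_epi_basis φ he he' (homOfLE hWU) _ ?_
    rw [app_smap, map_sub, hxy, sub_self, map_zero]
  exact isIso_of_mono_of_epi φ

end Groth.Agent.ModFlat16
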