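import Groth.Agent.Lib.ModFlat16.PullRestr
import Mathlib.Algebra.Category.ModuleCat.Sheaf.Quasicoherent
import Mathlib.Algebra.Category.ModuleCat.Sheaf.LocallyFree

/-! Inverse images preserve local properties of sheaves of modules. -/

set_option autoImplicit false
set_option linter.style.haveILetI false
set_option backward.isDefEq.respectTransparency false
set_option backward.isDefEq.respectTransparency.types false

universe u

open CategoryTheory CategoryTheory.Limits Opposite

noncomputable section

namespace Groth.Agent.ModFlat16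

variable {C D : Type u} [SmallCategory C] [SmallCategory D] {J : GrothendieckTopology C}
  {K : GrothendieckTopology D} {O_C : Sheaf J CommRingCat.{u}} {O_D : Sheaf K CommRingCat.{u}}
  (f : ModSite.RMor O_C O_D)

theorem coversTop_fn {I : Type*} (X : I → D) (hX : K.CoversTop X) : J.CoversTop fun i => f.fn.obj (X i) := by
  intro W
  obtain ⟨S, hS, hov⟩ := locally_over f W
  refine J.transitive hS _ fun W' k hk => ?_
  obtain ⟨V, ⟨u⟩⟩ := hov k hk
  obtain ⟨T, hT, hl⟩ := locally_lift f u (Sieve.ofObjects X V) (hX V)
  refine J.superset_covering (fun W'' l hl' => ?_) hT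
  obtain ⟨V', g, u', ⟨i, ⟨v⟩⟩, -⟩ := hl l hl'
  exact ⟨i, ⟨u' ≫ f.fn.map v⟩⟩

variable (V₀ : D)

instance isLeftAdjoint_pullV : (pullV f V₀).IsLeftAdjoint := (adjV f V₀).isLeftAdjoint

/-- The unit of the slice. -/
def etaV : SheafOfModules.unit (ModSite.ringSh (O_C.over (f.fn.obj V₀))) ≅
    (pullV f V₀).obj (SheafOfModules.unit (ModSite.ringSh (O_D.over V₀))) :=
  haveI := isIso_pullVUnit f V₀
  (asIso (SheafOfModules.pullbackObjUnitToUnit (sharpV f V₀))).symm

variable {f} (F : ModSite.Mod O_D)

/-- Generators move to the inverse image. -/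
abbrev genPull (V₀ : D) (G : (F.over V₀).GeneratingSections) :
    ((f.pull.obj F).over (f.fn.obj V₀)).GeneratingSections :=
  (G.map (pullV f V₀) (etaV f V₀)).ofEpi (pullRestrIso f V₀ F).hom

instance isIso_genPull (V₀ : D) (G : (F.over V₀).GeneratingSections) [IsIso G.π] :
    IsIso (genPull (f := f) F V₀ G).π := by
  have h : (genPull (f := f) F V₀ G).π = (G.map (pullV f V₀) (etaV f V₀)).π ≫ (pullRestrIso f V₀ F).hom :=
    (SheafOfModules.freeHomEquiv_symm_comp _ _).symm
  rw [h]
  infer_instance

/-- Local generators of the inverse image. -/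
abbrev lgdPull (q : F.LocalGeneratorsData) : (f.pull.obj F).LocalGeneratorsData where
  I := q.I
  X i := f.fn.obj (q.X i)
  coversTop := coversTop_fn f q.X q.coversTop
  generators i := genPull F (q.X i) (q.generators i)

theorem isFiniteType_pull [SheafOfModules.IsFiniteType (R := ModSite.ringSh O_D) F] :
    SheafOfModules.IsFiniteType (R := ModSite.ringSh O_C) (f.pull.obj F) := by
  obtain ⟨q, hq⟩ := SheafOfModules.IsFiniteType.exists_localGeneratorsData F
  constructor
  refine ⟨lgdPull (f := f) F q, ?_⟩
  constructor
  intro i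
  constructor
  exact (hq.isFiniteType i).finite

theorem isLocallyFree_pull [SheafOfModules.IsLocallyFree (R := ModSite.ringSh O_D) F] :
    SheafOfModules.IsLocallyFree (R := ModSite.ringSh O_C) (f.pull.obj F) := by
  obtain ⟨q, hq⟩ := SheafOfModules.IsLocallyFree.exists_isLocallyFreeData (M := F)
  constructor
  refine ⟨lgdPull (f := f) F q, ?_⟩
  constructor
  intro i
  haveI := hq.isIso i
  exact isIso_genPull (f := f) F (q.X i) (q.generators i)

/-- Quasi-coherence data of the inverse image. -/
abbrev qcdPull (q : F.QuasicoherentData) : (f.pull.obj F).QuasicoherentData where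
  I := q.I
  X i := f.fn.obj (q.X i)
  coversTop := coversTop_fn f q.X q.coversTop
  presentation i := ((q.presentation i).map (pullV f (q.X i)) (etaV f (q.X i))).ofIsIso (pullRestrIso f (q.X i) F).hom

theorem isQuasicoherent_pull [SheafOfModules.IsQuasicoherent (R := ModSite.ringSh O_D) F] :
    SheafOfModules.IsQuasicoherent (R := ModSite.ringSh O_C) (f.pull.obj F) :=
  (qcdPull (f := f) F (Nonempty.some (SheafOfModules.IsQuasicoherent.nonempty_quasicoherentData (M := F)))).isQuasicoherent

theorem isFinitePresentation_pull [SheafOfModules.IsFinitePresentation (R := ModSite.ringSh O_D) F] :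
    SheafOfModules.IsFinitePresentation (R := ModSite.ringSh O_C) (f.pull.obj F) := by
  obtain ⟨q, hq⟩ := SheafOfModules.IsFinitePresentation.exists_quasicoherentData (M := F)
  constructor
  refine ⟨qcdPull (f := f) F q, ?_⟩
  constructor
  intro i
  constructor
  · constructor
    exact (hq.isFinite_presentation i).isFiniteType_generators.finite
  · constructor
    exact (hq.isFinite_presentation i).isFiniteType_relations.finite

theorem nonempty_localGeneratorsData_pull (h : Nonempty (SheafOfModules.LocalGeneratorsData.{u} (R := ModSite.ringSh O_D) F)) :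
    Nonempty (SheafOfModules.LocalGeneratorsData.{u} (R := ModSite.ringSh O_C) (f.pull.obj F)) :=
  h.map fun q => lgdPull F q

end Groth.Agent.ModFlat16
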