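import Groth.Agent.Lib.ModFlat16.GlobalFree
import Mathlib.Algebra.Category.ModuleCat.Descent
import Mathlib.Algebra.Category.ModuleCat.Sheaf.Quasicoherent
import Mathlib.CategoryTheory.Limits.Preserves.Basic
import Mathlib.CategoryTheory.Sites.Over
import Mathlib.Algebra.Homology.ShortComplex.ShortExact
import Mathlib.Algebra.Homology.ShortComplex.ModuleCat

/-! Quasi-coherent modules on a site where every presheaf is a sheaf. -/

set_option autoImplicit false
set_option linter.style.haveILetI false
set_option linter.unusedSectionVars false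
set_option backward.isDefEq.respectTransparency false
set_option backward.isDefEq.respectTransparency.types false

universe u

open CategoryTheory CategoryTheory.Limits Opposite

noncomputable section

namespace Groth.Agent.ModFlat16.Chaotic

variable {C : Type u} [SmallCategory C] {J : GrothendieckTopology C} (O : Sheaf J CommRingCat.{u})

/-- Sections over an object, over the commutative ring. -/
def ev (V : C) : ModSite.Mod O ⥤ ModuleCat.{u} (O.obj.obj (op V)) :=
  secAt (ModSite.ringSh O) V

/-- The base change map. -/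
def bc {U V : C} (g : U ⟶ V) :
    ev O V ⋙ ModuleCat.extendScalars (O.obj.map g.op).hom ⟶ ev O U where
  app F := ((ModuleCat.extendRestrictScalarsAdj (O.obj.map g.op).hom).homEquiv
    ((ev O V).obj F) ((ev O U).obj F)).symm (F.val.map g.op)
  naturality F G φ := by
    refine ((ModuleCat.extendRestrictScalarsAdj (O.obj.map g.op).hom).homEquiv_naturality_left_symm _ _).symm.trans ?_
    refine Eq.trans (congrArg _ ?_) ((ModuleCat.extendRestrictScalarsAdj (O.obj.map g.op).hom).homEquiv_naturality_right_symm _ _)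
    exact (φ.val.naturality g.op).symm

/-- All base change maps of the module are isomorphisms. -/
def BC (F : ModSite.Mod O) : Prop := ∀ (U V : C) (g : U ⟶ V), IsIso ((bc O g).app F)

variable {O}

theorem forget_isEquivalence (hJ : ∀ P : Cᵒᵖ ⥤ AddCommGrpCat.{u}, Presheaf.IsSheaf J P) :
    (SheafOfModules.forget.{u} (ModSite.ringSh O)).IsEquivalence where
  faithful := inferInstance
  full := inferInstance
  essSurj := ⟨fun P => ⟨⟨P, hJ _⟩, ⟨Iso.refl _⟩⟩⟩

theorem isRightAdjoint_forget (hJ : ∀ P : Cᵒᵖ ⥤ AddCommGrpCat.{u}, Presheaf.IsSheaf J P) :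
    PreservesColimitsOfSize.{u, u} (SheafOfModules.forget.{u} (ModSite.ringSh O)) := by
  haveI := forget_isEquivalence (O := O) hJ
  infer_instance

theorem preservesColimits_ev (hJ : ∀ P : Cᵒᵖ ⥤ AddCommGrpCat.{u}, Presheaf.IsSheaf J P) (V : C) :
    PreservesColimitsOfSize.{u, u} (ev O V) := by
  haveI := isRightAdjoint_forget (O := O) hJ
  exact comp_preservesColimits (SheafOfModules.forget.{u} (ModSite.ringSh O)) (PresheafOfModules.evaluation _ (op V))

theorem preservesFiniteLimits_ev (V : C) : PreservesFiniteLimits (ev O V) :=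
  comp_preservesFiniteLimits (SheafOfModules.forget _) (PresheafOfModules.evaluation _ (op V))

theorem BC.of_iso {F G : ModSite.Mod O} (e : F ≅ G) (h : BC O F) : BC O G := fun U V g =>
  haveI := h U V g
  (NatTrans.isIso_app_iff_of_iso (bc O g) e).1 inferInstance

theorem BC.of_isColimit (hJ : ∀ P : Cᵒᵖ ⥤ AddCommGrpCat.{u}, Presheaf.IsSheaf J P) {K : Type u} [SmallCategory K]
    {D : K ⥤ ModSite.Mod O} {c : Cocone D} (hc : IsColimit c) (h : ∀ k, BC O (D.obj k)) : BC O c.pt := by
  intro U V g
  haveI := preservesColimits_ev (O := O) hJ U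
  haveI := preservesColimits_ev (O := O) hJ V
  haveI : PreservesColimitsOfSize.{u, u} (ModuleCat.extendScalars.{u, u, u} (O.obj.map g.op).hom) :=
    (ModuleCat.extendRestrictScalarsAdj _).leftAdjoint_preservesColimits
  haveI := comp_preservesColimits (ev O V) (ModuleCat.extendScalars.{u, u, u} (O.obj.map g.op).hom)
  haveI : ∀ k, IsIso ((Functor.whiskerLeft D (bc O g)).app k) := fun k => h k U V g
  haveI := NatIso.isIso_of_isIso_app (Functor.whiskerLeft D (bc O g))
  exact isIso_app_coconePt_of_preservesColimit D (bc O g) c hc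

theorem bc_app_tmul {U V : C} (g : U ⟶ V) (F : ModSite.Mod O) (s : O.obj.obj (op U)) (m : (ev O V).obj F) :
    (bc O g).app F
        (@TensorProduct.tmul (O.obj.obj (op V)) _ _ _ _ _ (Module.compHom (O.obj.obj (op U)) (O.obj.map g.op).hom) _ s m) =
      s • (show (ev O U).obj F from F.val.map g.op m) := by
  rfl

theorem bc_unit (F : ModSite.Mod O) (hF : F = SheafOfModules.unit (ModSite.ringSh O)) : BC O F := by
  subst hF
  intro U V g
  let φ := (O.obj.map g.op).hom
  let M : ModuleCat.{u} (O.obj.obj (op V)) := (ev O V).obj (SheafOfModules.unit (ModSite.ringSh O))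
  let one : (ModuleCat.extendScalars φ).obj M :=
    @TensorProduct.tmul (O.obj.obj (op V)) _ _ _ _ _ (Module.compHom (O.obj.obj (op U)) φ) _
      (1 : O.obj.obj (op U)) (show M from (1 : O.obj.obj (op V)))
  let inv : (ev O U).obj (SheafOfModules.unit (ModSite.ringSh O)) ⟶ (ModuleCat.extendScalars φ).obj M :=
    ModuleCat.ofHom (LinearMap.toSpanSingleton (O.obj.obj (op U)) ((ModuleCat.extendScalars φ).obj M) one)
  have h1 : ∀ x : (ev O U).obj (SheafOfModules.unit (ModSite.ringSh O)), (bc O g).app _ (inv x) = x := fun x => by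
    refine ((bc O g).app _).hom.map_smul (show O.obj.obj (op U) from x) one |>.trans ?_
    refine (congrArg ((show O.obj.obj (op U) from x) • ·) (bc_app_tmul g _ 1 _)).trans ?_
    show (show O.obj.obj (op U) from x) * (1 * φ 1) = x
    rw [map_one, mul_one, mul_one]
  refine ⟨inv, ?_, ModuleCat.hom_ext (LinearMap.ext h1)⟩
  refine ((ModuleCat.extendRestrictScalarsAdj φ).homEquiv _ _).injective (ModuleCat.hom_ext (LinearMap.ext_ring ?_))
  show inv ((bc O g).app _ one) = one
  rw [show (bc O g).app _ one = (show O.obj.obj (op U) from 1) from ?_]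
  · exact one_smul _ _
  · refine (bc_app_tmul g _ 1 _).trans ?_
    show (1 : O.obj.obj (op U)) * φ 1 = 1
    rw [map_one, mul_one]

theorem bc_free (hJ : ∀ P : Cᵒᵖ ⥤ AddCommGrpCat.{u}, Presheaf.IsSheaf J P) (I : Type u) :
    BC O (SheafOfModules.free (R := ModSite.ringSh O) I) :=
  BC.of_isColimit hJ (SheafOfModules.isColimitFreeCofan I) fun _ => bc_unit _ rfl

theorem BC.cokernel (hJ : ∀ P : Cᵒᵖ ⥤ AddCommGrpCat.{u}, Presheaf.IsSheaf J P) {F G : ModSite.Mod O} (α : F ⟶ G)
    (hF : BC O F) (hG : BC O G) : BC O (Limits.cokernel α) := by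
  intro U V g
  haveI := preservesColimits_ev (O := O) hJ U
  haveI := preservesColimits_ev (O := O) hJ V
  haveI : PreservesColimitsOfSize.{u, u} (ModuleCat.extendScalars.{u, u, u} (O.obj.map g.op).hom) :=
    (ModuleCat.extendRestrictScalarsAdj _).leftAdjoint_preservesColimits
  haveI := comp_preservesColimits (ev O V) (ModuleCat.extendScalars.{u, u, u} (O.obj.map g.op).hom)
  haveI := preservesColimitsOfSize_shrink.{0, u, 0, u} (ev O U)
  haveI := preservesColimitsOfSize_shrink.{0, u, 0, u} (ev O V ⋙ ModuleCat.extendScalars.{u, u, u} (O.obj.map g.op).hom)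
  haveI : ∀ k, IsIso ((Functor.whiskerLeft (parallelPair α 0) (bc O g)).app k) := fun k => by
    rcases k with _ | _
    · exact hF U V g
    · exact hG U V g
  haveI := NatIso.isIso_of_isIso_app (Functor.whiskerLeft (parallelPair α 0) (bc O g))
  exact isIso_app_coconePt_of_preservesColimit (parallelPair α 0) (bc O g) _ (colimit.isColimit _)

theorem BC.of_presentation (hJ : ∀ P : Cᵒᵖ ⥤ AddCommGrpCat.{u}, Presheaf.IsSheaf J P) {F : ModSite.Mod O}
    (P : SheafOfModules.Presentation (R := ModSite.ringSh O) F) : BC O F :=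
  .of_iso ((cokernelIsCokernel _).coconePointUniqueUpToIso P.isColimit)
    (BC.cokernel hJ _ (bc_free hJ _) (bc_free hJ _))

theorem isIso_of_isIso_ev {F G : ModSite.Mod O} (φ : F ⟶ G) (h : ∀ U, IsIso ((ev O U).map φ)) : IsIso φ := by
  haveI : IsIso ((PresheafOfModules.toPresheaf _).map ((SheafOfModules.forget _).map φ)) := by
    haveI : ∀ X, IsIso (((PresheafOfModules.toPresheaf _).map ((SheafOfModules.forget _).map φ)).app X) := fun X =>
      haveI := h X.unop
      Functor.map_isIso (forget₂ (ModuleCat.{u} (O.obj.obj X)) AddCommGrpCat.{u}) ((ev O X.unop).map φ)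
    exact NatIso.isIso_of_isIso_app _
  haveI := isIso_of_reflects_iso ((SheafOfModules.forget _).map φ) (PresheafOfModules.toPresheaf _)
  exact isIso_of_reflects_iso φ (SheafOfModules.forget _)

/-- The tautological map from the free module on the global sections. -/
def genMap {T : C} (hT : IsTerminal T) (F : ModSite.Mod O) :
    SheafOfModules.free (R := ModSite.ringSh O) (F.val.obj (op T)) ⟶ F :=
  (SheafOfModules.freeHomEquiv F).symm fun m => (secEquiv hT F).symm m

theorem genMap_surjective {T : C} (hT : IsTerminal T) (F : ModSite.Mod O) :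
    Function.Surjective ((ev O T).map (genMap hT F)) := fun m => by
  refine ⟨(SheafOfModules.ιFree (R := ModSite.ringSh O) (show F.val.obj (op T) from m)).val.app (op T)
    (1 : O.obj.obj (op T)), ?_⟩
  refine Eq.trans (congrArg (secEquiv hT F) (congrFun ((SheafOfModules.freeHomEquiv F).apply_symm_apply
    fun m => (secEquiv hT F).symm m) (show F.val.obj (op T) from m))) ?_
  exact (secEquiv hT F).apply_symm_apply _

theorem exists_presentation (hJ : ∀ P : Cᵒᵖ ⥤ AddCommGrpCat.{u}, Presheaf.IsSheaf J P) {T : C} (hT : IsTerminal T)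
    {F : ModSite.Mod O} (hF : BC O F) : Nonempty (SheafOfModules.Presentation (R := ModSite.ringSh O) F) := by
  let π := genMap hT F
  let f := genMap hT (kernel π) ≫ kernel.ι π
  have hf : f ≫ π = 0 := by rw [Category.assoc, kernel.condition, comp_zero]
  let φ : cokernel f ⟶ F := cokernel.desc f π hf
  haveI := preservesColimits_ev (O := O) hJ T
  haveI := preservesFiniteLimits_ev (O := O) T
  haveI := preservesColimitsOfSize_shrink.{0, u, 0, u} (ev O T)
  haveI : PreservesFiniteColimits (ev O T) := PreservesColimitsOfSize.preservesFiniteColimits _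
  haveI : IsIso ((ev O T).map φ) := by
    refine (ConcreteCategory.isIso_iff_bijective _).2 ⟨?_, fun m => ?_⟩
    · rw [injective_iff_map_eq_zero]
      intro q hq
      obtain ⟨z, rfl⟩ := (ModuleCat.epi_iff_surjective ((ev O T).map (cokernel.π f))).1 inferInstance q
      have hz : (ev O T).map π z = 0 := by
        refine Eq.trans ?_ hq
        exact (congrArg (fun q : _ ⟶ F => (ev O T).map q z) (cokernel.π_desc f π hf)).symm
      have hex := ((ShortComplex.exact_of_f_is_kernel (ShortComplex.mk (kernel.ι π) π (kernel.condition π))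
        (kernelIsKernel π)).map (ev O T))
      obtain ⟨k, rfl⟩ := (ShortComplex.moduleCat_exact_iff _).1 hex z hz
      obtain ⟨a, rfl⟩ := genMap_surjective hT (kernel π) k
      exact (congrArg (fun q : _ ⟶ cokernel f => (ev O T).map q a) (cokernel.condition f)).trans rfl
    · obtain ⟨a, rfl⟩ := genMap_surjective hT F m
      exact ⟨(ev O T).map (cokernel.π f) a,
        congrArg (fun q : _ ⟶ F => (ev O T).map q a) (cokernel.π_desc f π hf)⟩
  haveI : IsIso φ := isIso_of_isIso_ev φ fun U => by
    haveI := BC.cokernel hJ f (bc_free hJ _) (bc_free hJ _) U T (hT.from U)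
    haveI := hF U T (hT.from U)
    haveI : IsIso ((ev O T ⋙ ModuleCat.extendScalars.{u, u, u} (O.obj.map (hT.from U).op).hom).map φ) :=
      Functor.map_isIso (ModuleCat.extendScalars.{u, u, u} (O.obj.map (hT.from U).op).hom) ((ev O T).map φ)
    exact IsIso.of_isIso_fac_left ((bc O (hT.from U)).naturality φ).symm
  exact ⟨(SheafOfModules.presentationOfIsCokernelFree f (cokernel.π f) (cokernel.condition f)
    (cokernelIsCokernel f)).ofIsIso φ⟩

end Groth.Agent.ModFlat16.Chaotic

namespace Groth.Agent.ModFlat16.Chaotic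

variable {C : Type u} [SmallCategory C] {O : Sheaf (⊥ : GrothendieckTopology C) CommRingCat.{u}}

theorem isSheaf_over_bot (X : C) (P : (Over X)ᵒᵖ ⥤ AddCommGrpCat.{u}) :
    Presheaf.IsSheaf ((⊥ : GrothendieckTopology C).over X) P := by
  have h : (⊥ : GrothendieckTopology C).over X = ⊥ := by
    ext Y S
    rw [GrothendieckTopology.mem_over_iff]
    show Sieve.overEquiv Y S = ⊤ ↔ S = ⊤
    constructor
    · intro e
      apply (Sieve.overEquiv Y).injective
      rw [e]
      ext Z g; simp [Sieve.overEquiv_iff]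
    · rintro rfl
      ext Z g; simp [Sieve.overEquiv_iff]
  rw [h]
  exact Presheaf.isSheaf_bot P

theorem isQuasicoherent_iff {F : ModSite.Mod O} :
    SheafOfModules.IsQuasicoherent (R := ModSite.ringSh O) F ↔ BC O F := by
  constructor
  · rintro ⟨⟨q⟩⟩ U V g
    obtain ⟨W, a, _, ⟨i, rfl⟩, -⟩ :
        ∃ (W : C) (a : V ⟶ W) (b : V ⟶ W), (∃ i, W = q.X i) ∧ a = b := by
      have h : Sieve.ofObjects q.X V = ⊤ := q.coversTop V
      obtain ⟨i, ⟨a⟩⟩ : Sieve.ofObjects q.X V (𝟙 V) := by rw [h]; trivial
      exact ⟨q.X i, a, a, ⟨i, rfl⟩, rfl⟩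
    exact BC.of_presentation (O := O.over (q.X i)) (isSheaf_over_bot _) (q.presentation i)
      (Over.mk (g ≫ a)) (Over.mk a) (Over.homMk g)
  · intro h
    let q : SheafOfModules.QuasicoherentData.{u} (R := ModSite.ringSh O) F := {
      I := C
      X := id
      coversTop := fun X => by
        show Sieve.ofObjects id X = ⊤
        exact Sieve.id_mem_iff_eq_top.1 ⟨X, ⟨𝟙 X⟩⟩
      presentation := fun X => (exists_presentation (O := O.over X) (isSheaf_over_bot X) (Over.mkIdTerminal (X := X))
        (F := (F.over X : _)) fun U V g => h U.left V.left g.left).some }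
    exact q.isQuasicoherent

theorem isIso_app_conePt {C D K : Type*} [Category* C] [Category* D] [Category* K] (G : K ⥤ C) {L L' : C ⥤ D}
    (α : L ⟶ L') [IsIso (Functor.whiskerLeft G α)] (c : Cone G) (hc : IsLimit c)
    [PreservesLimit G L] [PreservesLimit G L'] : IsIso (α.app c.pt) := by
  let e := IsLimit.conePointsIsoOfNatIso
    (isLimitOfPreserves L hc) (isLimitOfPreserves L' hc) (asIso (Functor.whiskerLeft G α))
  have h : e.hom = α.app c.pt := (isLimitOfPreserves L' hc).hom_ext fun j =>
    (IsLimit.conePointsIsoOfNatIso_hom_comp _ _ _ j).trans (α.naturality (c.π.app j))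
  rw [← h]
  infer_instance

theorem BC.kernel (hO : ∀ (U V : C) (g : U ⟶ V), (O.obj.map g.op).hom.Flat) {F G : ModSite.Mod O} (α : F ⟶ G)
    (hF : BC O F) (hG : BC O G) : BC O (Limits.kernel α) := by
  intro U V g
  haveI := ModuleCat.preservesFiniteLimits_extendScalars_of_flat (hO U V g)
  haveI := preservesFiniteLimits_ev (O := O) V
  haveI := preservesFiniteLimits_ev (O := O) U
  haveI := comp_preservesFiniteLimits (ev O V) (ModuleCat.extendScalars.{u, u, u} (O.obj.map g.op).hom)
  haveI : ∀ k, IsIso ((Functor.whiskerLeft (parallelPair α 0) (bc O g)).app k) := fun k => by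
    rcases k with _ | _
    · exact hF U V g
    · exact hG U V g
  haveI := NatIso.isIso_of_isIso_app (Functor.whiskerLeft (parallelPair α 0) (bc O g))
  exact isIso_app_conePt (parallelPair α 0) (bc O g) _ (limit.isLimit _)

theorem BC.ext₂ (hO : ∀ (U V : C) (g : U ⟶ V), (O.obj.map g.op).hom.Flat)
    {S : ShortComplex (ModSite.Mod O)} (hS : S.ShortExact) (h₁ : BC O S.X₁) (h₃ : BC O S.X₃) : BC O S.X₂ := by
  intro U V g
  have hJ : ∀ P : Cᵒᵖ ⥤ AddCommGrpCat.{u}, Presheaf.IsSheaf (⊥ : GrothendieckTopology C) P := Presheaf.isSheaf_bot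
  haveI := ModuleCat.preservesFiniteLimits_extendScalars_of_flat (hO U V g)
  haveI := preservesColimits_ev (O := O) hJ U
  haveI := preservesColimits_ev (O := O) hJ V
  haveI := preservesFiniteLimits_ev (O := O) V
  haveI := preservesFiniteLimits_ev (O := O) U
  haveI := comp_preservesFiniteLimits (ev O V) (ModuleCat.extendScalars.{u, u, u} (O.obj.map g.op).hom)
  haveI : PreservesColimitsOfSize.{u, u} (ModuleCat.extendScalars.{u, u, u} (O.obj.map g.op).hom) :=
    (ModuleCat.extendRestrictScalarsAdj _).leftAdjoint_preservesColimits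
  haveI := comp_preservesColimits (ev O V) (ModuleCat.extendScalars.{u, u, u} (O.obj.map g.op).hom)
  haveI : PreservesFiniteColimits (ev O U) := PreservesColimitsOfSize.preservesFiniteColimits _
  haveI : PreservesFiniteColimits (ev O V ⋙ ModuleCat.extendScalars.{u, u, u} (O.obj.map g.op).hom) :=
    PreservesColimitsOfSize.preservesFiniteColimits _
  haveI : (ev O V ⋙ ModuleCat.extendScalars.{u, u, u} (O.obj.map g.op).hom).Additive := Functor.additive_of_preserves_binary_products _
  haveI : (ev O U).Additive := Functor.additive_of_preserves_binary_products _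
  exact ShortComplex.isIso₂_of_shortExact_of_isIso₁₃' (S.mapNatTrans (bc O g))
    (hS.map_of_exact _) (hS.map_of_exact _) (h₁ U V g) (h₃ U V g)

end Groth.Agent.ModFlat16.Chaotic
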