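import Groth.Prelude.Def_ModSite
import Groth.Prelude.Def_AlgSpPerf
import Mathlib.CategoryTheory.Idempotents.Basic
import Mathlib.Algebra.Category.ModuleCat.Sheaf.Free
import Mathlib.RingTheory.Finiteness.Basic
import Mathlib.Algebra.Module.Projective

/-! Global sections of summands of finite free modules on a site with a final object. -/

set_option autoImplicit false
set_option linter.style.haveILetI false
set_option linter.unusedSectionVars false
set_option backward.isDefEq.respectTransparency false
set_option backward.isDefEq.respectTransparency.types false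

universe u

open CategoryTheory CategoryTheory.Limits Opposite

noncomputable section

namespace Groth.Agent.ModFlat16

variable {C : Type u} [SmallCategory C] {J : GrothendieckTopology C} (R : Sheaf J RingCat.{u})
  [HasSheafify J AddCommGrpCat.{u}] [J.WEqualsLocallyBijective AddCommGrpCat.{u}]
  {X : C} (hX : IsTerminal X)

/-- Sections over an object. -/
abbrev secAt (X : C) : SheafOfModules.{u} R ⥤ ModuleCat.{u} (R.obj.obj (op X)) :=
  SheafOfModules.forget R ⋙ PresheafOfModules.evaluation R.obj (op X)

variable {R}

/-- Sections of a module on a site with a final object. -/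
def secEquiv (M : SheafOfModules.{u} R) : M.sections ≃ M.val.obj (op X) where
  toFun s := s.eval (op X)
  invFun m := PresheafOfModules.sectionsMk (fun Y => M.val.map (hX.from Y.unop).op m) fun Y Z f => by
    have e : (hX.from Z.unop).op = (hX.from Y.unop).op ≫ f := Quiver.Hom.unop_inj (hX.hom_ext _ _)
    rw [e, PresheafOfModules.map_comp_apply]
  left_inv s := PresheafOfModules.sections_ext _ _ fun Y => PresheafOfModules.sections_property s _
  right_inv m := by
    show M.val.presheaf.map (hX.from X).op m = m
    rw [hX.hom_ext (hX.from X) (𝟙 X), op_id, M.val.presheaf.map_id]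
    rfl

theorem unit_app_eq_smul (M : SheafOfModules.{u} R) (f : SheafOfModules.unit R ⟶ M) (Y : Cᵒᵖ)
    (r : R.obj.obj Y) : f.val.app Y r = r • f.val.app Y (1 : R.obj.obj Y) := by
  rw [← map_smul]
  exact congrArg (f.val.app Y) (mul_one r).symm

section free

variable (R) (n : ℕ)

/-- The free module of rank `n`. -/
abbrev freeN : SheafOfModules.{u} R := SheafOfModules.free (R := R) (ULift.{u} (Fin n))

variable {n}

/-- The `k`-th generator at `X`. -/
def genAt (X : C) (k : ULift.{u} (Fin n)) : (freeN R n).val.obj (op X) :=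
  (SheafOfModules.ιFree (R := R) k).val.app (op X) (1 : R.obj.obj (op X))

/-- The `k`-th projection. -/
def projFree (k : ULift.{u} (Fin n)) : freeN R n ⟶ SheafOfModules.unit R :=
  Sigma.desc fun j => if j = k then 𝟙 _ else 0

variable {R}

/-- The `k`-th coordinate at `X`. -/
def coord (X : C) (k : ULift.{u} (Fin n)) : (freeN R n).val.obj (op X) →ₗ[R.obj.obj (op X)] R.obj.obj (op X) :=
  ((projFree R k).val.app (op X)).hom

theorem genAt_span (X : C) (z : (freeN R n).val.obj (op X)) :
    z = ∑ k, coord X k z • genAt R X k := by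
  have e : (∑ k, projFree R k ≫ SheafOfModules.ιFree k) = 𝟙 (freeN R n) := by
    refine Sigma.hom_ext _ _ fun j => ?_
    refine ((Preadditive.comp_sum _ _ _).trans (Finset.sum_eq_single j ?_ ?_)).trans ?_
    · intro k _ hk
      refine ((Category.assoc _ _ _).symm.trans (congrArg (· ≫ SheafOfModules.ιFree k) ?_)).trans zero_comp
      exact (Sigma.ι_desc _ j).trans (if_neg (Ne.symm hk))
    · exact fun h => absurd (Finset.mem_univ j) h
    · refine ((Category.assoc _ _ _).symm.trans (congrArg (· ≫ SheafOfModules.ιFree j) ((Sigma.ι_desc _ j).trans (if_pos rfl)))).trans ?_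
      exact (Category.id_comp _).trans (Category.comp_id _).symm
  let φ : (freeN R n ⟶ freeN R n) →+ (freeN R n).val.obj (op X) :=
    AddMonoidHom.mk' (fun q => q.val.app (op X) z) fun _ _ => rfl
  refine (congrArg φ e).symm.trans ((map_sum φ _ _).trans ?_)
  exact Finset.sum_congr rfl fun k _ => unit_app_eq_smul _ (SheafOfModules.ιFree k) (op X) _

theorem eq_of_genAt {X : C} {N : Type u} [AddCommGroup N] [Module (R.obj.obj (op X)) N]
    (a b : (freeN R n).val.obj (op X) →ₗ[R.obj.obj (op X)] N)
    (h : ∀ k, a (genAt R X k) = b (genAt R X k)) : a = b := by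
  ext z
  rw [genAt_span X z, map_sum, map_sum]
  exact Finset.sum_congr rfl fun k _ => by rw [map_smul, map_smul, h]

theorem projFree_genAt (X : C) (j k : ULift.{u} (Fin n)) :
    (projFree R k).val.app (op X) (genAt R X j) = if j = k then (1 : R.obj.obj (op X)) else 0 := by
  have h := congrArg (fun q : SheafOfModules.unit R ⟶ SheafOfModules.unit R => q.val.app (op X) (1 : R.obj.obj (op X)))
    (Sigma.ι_desc (fun j => if j = k then 𝟙 (SheafOfModules.unit R) else 0) j)
  refine Eq.trans h ?_
  by_cases hj : j = k
  · simp only [if_pos hj]; rfl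
  · simp only [if_neg hj]; rfl

/-- Sections of a finite free module. -/
def freeSecEquiv (X : C) : (freeN R n).val.obj (op X) ≃ₗ[R.obj.obj (op X)] (ULift.{u} (Fin n) → R.obj.obj (op X)) :=
  LinearEquiv.ofLinear
    (LinearMap.pi fun k => ((projFree R k).val.app (op X)).hom)
    (Fintype.linearCombination (R.obj.obj (op X)) (genAt R X))
    (LinearMap.pi_ext' fun k => LinearMap.ext_ring (funext fun j => by
      refine (congrArg ((projFree R j).val.app (op X)) ?_).trans
        ((projFree_genAt X k j).trans ?_)
      · exact (Fintype.linearCombination_apply_single (R.obj.obj (op X)) (genAt R X) k (1 : R.obj.obj (op X))).trans (one_smul _ _)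
      · simp [Pi.single_apply, eq_comm]))
    (LinearMap.ext fun z => ((genAt_span X z).trans rfl).symm)

include hX in
theorem free_hom_ext {M : SheafOfModules.{u} R} (a b : freeN R n ⟶ M)
    (h : ∀ k, a.val.app (op X) (genAt R X k) = b.val.app (op X) (genAt R X k)) : a = b :=
  M.freeHomEquiv.injective (funext fun k => (secEquiv hX M).injective (h k))

/-- The map out of a finite free module with given values on the generators. -/
def freeDesc {M : SheafOfModules.{u} R} (v : ULift.{u} (Fin n) → M.val.obj (op X)) : freeN R n ⟶ M :=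
  M.freeHomEquiv.symm fun k => (secEquiv hX M).symm (v k)

theorem freeDesc_genAt {M : SheafOfModules.{u} R} (v : ULift.{u} (Fin n) → M.val.obj (op X)) (k : ULift.{u} (Fin n)) :
    (freeDesc hX v).val.app (op X) (genAt R X k) = v k := by
  refine Eq.trans (congrArg (secEquiv hX M) (congrFun (M.freeHomEquiv.apply_symm_apply fun k => (secEquiv hX M).symm (v k)) k)) ?_
  exact (secEquiv hX M).apply_symm_apply _

theorem freeDesc_app {M : SheafOfModules.{u} R} (g : (freeN R n).val.obj (op X) →ₗ[R.obj.obj (op X)] M.val.obj (op X)) :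
    ((freeDesc hX fun k => g (genAt R X k)).val.app (op X)).hom = g :=
  eq_of_genAt _ _ fun k => freeDesc_genAt hX _ k

end free

section summand

variable {E E' : SheafOfModules.{u} R}

include hX in
theorem bijective_app_of_summand (hE : DCoh.IsFinFreeSummandMod R E) :
    Function.Bijective (fun φ : E ⟶ E' => φ.val.app (op X)) := by
  obtain ⟨n, i, p, hip⟩ := hE
  constructor
  · intro a b h
    have h2 : p ≫ a = p ≫ b := free_hom_ext hX _ _ fun k => congrArg (fun q : E.val.obj (op X) ⟶ E'.val.obj (op X) => q (p.val.app (op X) (genAt R X k))) h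
    calc a = i ≫ p ≫ a := by rw [← Category.assoc, hip, Category.id_comp]
      _ = i ≫ p ≫ b := by rw [h2]
      _ = b := by rw [← Category.assoc, hip, Category.id_comp]
  · intro g
    refine ⟨i ≫ freeDesc hX fun k => g (p.val.app (op X) (genAt R X k)), ModuleCat.hom_ext (LinearMap.ext fun x => ?_)⟩
    refine (congrArg (fun l : (freeN R n).val.obj (op X) →ₗ[R.obj.obj (op X)] E'.val.obj (op X) => l (i.val.app (op X) x))
      (freeDesc_app hX (g.hom.comp (p.val.app (op X)).hom))).trans ?_
    exact congrArg g (congrArg (fun q : E ⟶ E => q.val.app (op X) x) hip)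

theorem finite_projective_of_summand (X : C) (hE : DCoh.IsFinFreeSummandMod R E) :
    Module.Finite (R.obj.obj (op X)) (E.val.obj (op X)) ∧ Module.Projective (R.obj.obj (op X)) (E.val.obj (op X)) := by
  obtain ⟨n, i, p, hip⟩ := hE
  let i' : E.val.obj (op X) →ₗ[R.obj.obj (op X)] (ULift.{u} (Fin n) → R.obj.obj (op X)) :=
    (freeSecEquiv X).toLinearMap.comp (i.val.app (op X)).hom
  let p' : (ULift.{u} (Fin n) → R.obj.obj (op X)) →ₗ[R.obj.obj (op X)] E.val.obj (op X) :=
    (p.val.app (op X)).hom.comp (freeSecEquiv X).symm.toLinearMap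
  have h : p'.comp i' = LinearMap.id := LinearMap.ext fun x => by
    show p.val.app (op X) ((freeSecEquiv X).symm ((freeSecEquiv X) (i.val.app (op X) x))) = x
    rw [LinearEquiv.symm_apply_apply]
    exact congrArg (fun q : E ⟶ E => q.val.app (op X) x) hip
  exact ⟨Module.Finite.of_surjective p' fun x => ⟨i' x, LinearMap.congr_fun h x⟩, Module.Projective.of_split i' p' h⟩

include hX in
theorem exists_summand (M : ModuleCat.{u} (R.obj.obj (op X))) [Module.Finite (R.obj.obj (op X)) M]
    [Module.Projective (R.obj.obj (op X)) M] :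
    ∃ E : SheafOfModules.{u} R, DCoh.IsFinFreeSummandMod R E ∧ Nonempty (E.val.obj (op X) ≅ M) := by
  obtain ⟨n, f, g, hf, hg, hfg⟩ := Module.Finite.exists_comp_eq_id_of_projective (R.obj.obj (op X)) M
  let s : (Fin n → R.obj.obj (op X)) ≃ₗ[R.obj.obj (op X)] (freeN R n).val.obj (op X) :=
    (LinearEquiv.funCongrLeft _ _ Equiv.ulift).trans (freeSecEquiv X).symm
  let b : (freeN R n).val.obj (op X) →ₗ[R.obj.obj (op X)] M := f.comp s.symm.toLinearMap
  let a : M →ₗ[R.obj.obj (op X)] (freeN R n).val.obj (op X) := s.toLinearMap.comp g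
  have hba : ∀ x, b (a x) = x := fun x => by
    show f (s.symm (s (g x))) = x
    rw [LinearEquiv.symm_apply_apply]
    exact LinearMap.congr_fun hfg x
  let ε : freeN R n ⟶ freeN R n := freeDesc hX fun k => a (b (genAt R X k))
  have hεX : ∀ z, ε.val.app (op X) z = a (b z) := fun z => LinearMap.congr_fun (freeDesc_app hX (a.comp b)) z
  have hεε : ε ≫ ε = ε := free_hom_ext hX _ _ fun k => by
    exact (hεX _).trans ((congrArg (fun z => a (b z)) (hεX _)).trans
      ((congrArg a (hba _)).trans (hεX _).symm))
  obtain ⟨E, i, p, hip, hpi⟩ := IsIdempotentComplete.idempotents_split (freeN R n) ε hεε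
  have hpiX : ∀ z, i.val.app (op X) (p.val.app (op X) z) = a (b z) := fun z =>
    (congrArg (fun q : freeN R n ⟶ freeN R n => q.val.app (op X) z) hpi).trans (hεX z)
  have hipX : ∀ x, p.val.app (op X) (i.val.app (op X) x) = x := fun x =>
    congrArg (fun q : E ⟶ E => q.val.app (op X) x) hip
  refine ⟨E, ⟨n, i, p, hip⟩, ⟨LinearEquiv.toModuleIso (LinearEquiv.ofLinear (b.comp (i.val.app (op X)).hom)
    ((p.val.app (op X)).hom.comp a) (LinearMap.ext fun x => ?_) (LinearMap.ext fun x => ?_))⟩⟩
  · show b (i.val.app (op X) (p.val.app (op X) (a x))) = x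
    rw [hpiX, hba, hba]
  · show p.val.app (op X) (a (b (i.val.app (op X) x))) = x
    rw [← hpiX, hipX, hipX]

end summand

end Groth.Agent.ModFlat16
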