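import Groth.Agent.Lib.ModFlat16.Basis
import Groth.Agent.Lib.ExtSupp8.Restr

/-! Local lifting out of summands of finite free modules. -/

set_option autoImplicit false
set_option linter.style.haveILetI false
set_option linter.unusedSectionVars false
set_option backward.isDefEq.respectTransparency false
set_option backward.isDefEq.respectTransparency.types false

universe u

open CategoryTheory CategoryTheory.Limits Opposite

noncomputable section

namespace Groth.Agent.ModFlat16

variable {C : Type u} [SmallCategory C] {J : GrothendieckTopology C} {O : Sheaf J CommRingCat.{u}}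

theorem exists_basis_free (ι : Type u) [Fintype ι] (U : C) :
    ∃ e : ι → ModSite.sect (SheafOfModules.free (R := ModSite.ringSh O) ι) U,
      IsBasis (SheafOfModules.free (R := ModSite.ringSh O) ι) U e :=
  isBasis_of_iso (SheafOfModules.mapFreeIso (R := ModSite.ringSh O) (ModSite.restr O U) ι (Iso.refl _)).symm

theorem exists_local_lift_of_retract {E F G L : ModSite.Mod O} {ι : Type u} [Fintype ι] {V : C}
    {e : ι → ModSite.sect L V} (he : IsBasis L V e) (i : E ⟶ L) (π : L ⟶ E) (hi : i ≫ π = 𝟙 E)
    (p : G ⟶ F) [Epi p] (φ : E ⟶ F) :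
    ∃ R ∈ J V, ∀ ⦃W : C⦄ (g : W ⟶ V), R g →
      ∃ l : (ModSite.restr O W).obj E ⟶ (ModSite.restr O W).obj G,
        l ≫ (ModSite.restr O W).map p = (ModSite.restr O W).map φ := by
  obtain ⟨T, hT, hpre⟩ := cov_iInter' (J := J)
    (fun a => ExtSupp8.exists_local_preimage p ((π ≫ φ).val.app (op V) (e a)))
  refine ⟨T, hT, fun W g hg => ?_⟩
  choose y hy using fun a => hpre a g hg
  have heW := he.smap g
  haveI := isIso_freeTo heW.gens (fun k c => heW.eq_zero k c)
  let f := freeTo (N := (ModSite.restr O W).obj L) fun a => smap L g (e a)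
  refine ⟨(ModSite.restr O W).map i ≫ inv f ≫ freeTo (N := (ModSite.restr O W).obj G) y, ?_⟩
  have key : freeTo (N := (ModSite.restr O W).obj G) y ≫ (ModSite.restr O W).map p =
      f ≫ (ModSite.restr O W).map (π ≫ φ) := by
    refine Cofan.IsColimit.hom_ext (SheafOfModules.isColimitFreeCofan ι) _ _ fun a => topVal_inj ?_
    show topVal (fι a ≫ _ ≫ _) = topVal (fι a ≫ _ ≫ _)
    dsimp only [f]
    rw [← Category.assoc, ← Category.assoc, topVal_comp (fι a ≫ _), topVal_comp (fι a ≫ _), topVal_ιFree_freeTo,
      topVal_ιFree_freeTo]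
    exact (hy a).trans (PresheafOfModules.naturality_apply (π ≫ φ).val g.op (e a)).symm
  rw [Category.assoc, Category.assoc, key, IsIso.inv_hom_id_assoc, ← Functor.map_comp, ← Category.assoc, hi,
    Category.id_comp]

end Groth.Agent.ModFlat16
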