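import Groth.Prelude.Def_ModSite
import Mathlib.CategoryTheory.Sites.LocallyBijective
import Mathlib.CategoryTheory.Functor.KanExtension.Adjunction
import Mathlib.CategoryTheory.Limits.Shapes.FunctorToTypes
import Mathlib.CategoryTheory.Limits.Preserves.Shapes.Terminal

/-! Morphisms of ringed sites are locally cofiltered: consequences of exactness of the inverse image. -/

set_option autoImplicit false
set_option linter.style.haveILetI false
set_option backward.isDefEq.respectTransparency false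
set_option backward.isDefEq.respectTransparency.types false

universe u

open CategoryTheory CategoryTheory.Limits Opposite

noncomputable section

namespace Groth.Agent.ModFlat16

variable {C D : Type u} [SmallCategory C] [SmallCategory D] {J : GrothendieckTopology C}
  {K : GrothendieckTopology D} {O_C : Sheaf J CommRingCat.{u}} {O_D : Sheaf K CommRingCat.{u}}
  (f : ModSite.RMor O_C O_D)

/-- Sheafified left Kan extension. -/
abbrev lanSh : (Dᵒᵖ ⥤ Type u) ⥤ Sheaf J (Type u) := f.fn.op.lan ⋙ presheafToSheaf J (Type u)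

/-- It is sheafification followed by inverse image. -/
def lanShIso : lanSh f ≅ presheafToSheaf K (Type u) ⋙ f.fn.sheafPullback (Type u) K J :=
  ((f.fn.op.lanAdjunction (Type u)).comp (sheafificationAdjunction J (Type u))).leftAdjointUniq
    (((sheafificationAdjunction K (Type u)).comp (f.fn.sheafAdjunctionContinuous (Type u) K J)).ofNatIsoRight
      (Iso.refl _))

instance preservesFiniteLimits_lanSh : PreservesFiniteLimits (lanSh f) :=
  haveI : PreservesFiniteLimits (presheafToSheaf K (Type u) ⋙ f.fn.sheafPullback (Type u) K J) :=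
    comp_preservesFiniteLimits _ _
  preservesFiniteLimits_of_natIso (lanShIso f).symm

variable {f}

/-- The element of a left Kan extension given by a section and an arrow. -/
def lel {P : Dᵒᵖ ⥤ Type u} {V : D} {U : C} (z : P.obj (op V)) (u : U ⟶ f.fn.obj V) :
    (f.fn.op.lan.obj P).obj (op U) :=
  (f.fn.op.lan.obj P).map u.op ((f.fn.op.lanUnit.app P).app (op V) z)

theorem exists_lel {P : Dᵒᵖ ⥤ Type u} {U : C} (q : (f.fn.op.lan.obj P).obj (op U)) :
    ∃ (V : D) (z : P.obj (op V)) (u : U ⟶ f.fn.obj V), lel z u = q := by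
  obtain ⟨j, z, hz⟩ := Types.jointly_surjective_of_isColimit
    (Functor.isPointwiseLeftKanExtensionOfIsLeftKanExtension (f.fn.op.lan.obj P) (f.fn.op.lanUnit.app P) (op U)) q
  exact ⟨j.left.unop, z, j.hom.unop, hz⟩

theorem map_lel {P Q : Dᵒᵖ ⥤ Type u} (φ : P ⟶ Q) {V : D} {U : C} (z : P.obj (op V)) (u : U ⟶ f.fn.obj V) :
    (f.fn.op.lan.map φ).app (op U) (lel z u) = lel (φ.app (op V) z) u := by
  show (f.fn.op.lan.map φ).app (op U) ((f.fn.op.lan.obj P).map u.op _) = _
  rw [NatTrans.naturality_apply]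
  exact congrArg ((f.fn.op.lan.obj Q).map u.op)
    (ConcreteCategory.congr_hom (congr_app (f.fn.op.lanUnit.naturality φ) (op V)) z).symm

theorem map_arrow_lel {P : Dᵒᵖ ⥤ Type u} {V : D} {U W : C} (k : W ⟶ U) (z : P.obj (op V)) (u : U ⟶ f.fn.obj V) :
    (f.fn.op.lan.obj P).map k.op (lel z u) = lel z (k ≫ u) := by
  show _ = (f.fn.op.lan.obj P).map (k ≫ u).op _
  rw [op_comp, Functor.map_comp_apply]
  rfl

/-- From the extension of a representable to the representable. -/
def lanYonTo (V : D) : f.fn.op.lan.obj (yoneda.obj V) ⟶ yoneda.obj (f.fn.obj V) :=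
  Functor.descOfIsLeftKanExtension _ (f.fn.op.lanUnit.app (yoneda.obj V)) _
    { app := fun W => ↾fun g => f.fn.map g
      naturality := fun W W' h => by ext g; exact f.fn.map_comp _ _ }

theorem lanYonTo_lel {V V' : D} {U : C} (g : V' ⟶ V) (u : U ⟶ f.fn.obj V') :
    (lanYonTo (f := f) V).app (op U) (lel (P := yoneda.obj V) g u) = u ≫ f.fn.map g := by
  show (lanYonTo (f := f) V).app (op U) ((f.fn.op.lan.obj (yoneda.obj V)).map u.op _) = _
  rw [NatTrans.naturality_apply]
  refine congrArg (fun t => u ≫ t) ?_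
  exact ConcreteCategory.congr_hom
    (Functor.descOfIsLeftKanExtension_fac_app (f.fn.op.lan.obj (yoneda.obj V)) (f.fn.op.lanUnit.app (yoneda.obj V)) _
      _ (op V')) g

theorem lanYonTo_injective {V : D} {U : C} :
    Function.Injective ((lanYonTo (f := f) V).app (op U)) := by
  let σ : yoneda.obj (f.fn.obj V) ⟶ f.fn.op.lan.obj (yoneda.obj V) :=
    yonedaEquiv.symm (lel (P := yoneda.obj V) (𝟙 V) (𝟙 _))
  have h : lanYonTo (f := f) V ≫ σ = 𝟙 _ := by
    refine Functor.hom_ext_of_isLeftKanExtension _ (f.fn.op.lanUnit.app (yoneda.obj V)) _ _ ?_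
    ext W g
    show σ.app (op (f.fn.obj W.unop)) ((lanYonTo (f := f) V).app (op (f.fn.obj W.unop))
      ((f.fn.op.lanUnit.app (yoneda.obj V)).app W g)) = _
    rw [show (lanYonTo (f := f) V).app (op (f.fn.obj W.unop)) ((f.fn.op.lanUnit.app (yoneda.obj V)).app W g) = f.fn.map g from
      ConcreteCategory.congr_hom (Functor.descOfIsLeftKanExtension_fac_app (f.fn.op.lan.obj (yoneda.obj V))
        (f.fn.op.lanUnit.app (yoneda.obj V)) _ _ W) g]
    show (f.fn.op.lan.obj (yoneda.obj V)).map (f.fn.map g).op (lel (P := yoneda.obj V) (𝟙 V) (𝟙 _)) = _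
    rw [map_arrow_lel, Category.comp_id]
    refine (ConcreteCategory.congr_hom ((f.fn.op.lanUnit.app (yoneda.obj V)).naturality g.op) (𝟙 V)).symm.trans ?_
    exact congrArg ((f.fn.op.lanUnit.app (yoneda.obj V)).app W) (Category.comp_id g)
  intro a b hab
  have ha := ConcreteCategory.congr_hom (congr_app h (op U)) a
  have hb := ConcreteCategory.congr_hom (congr_app h (op U)) b
  exact ha.symm.trans ((congrArg (σ.app (op U)) hab).trans hb)

/-- The image of the unit as a map from a representable. -/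
abbrev yonEl {V : D} {U : C} (u : U ⟶ f.fn.obj V) : yoneda.obj U ⟶ f.fn.op.lan.obj (yoneda.obj V) :=
  yonedaEquiv.symm (lel (P := yoneda.obj V) (𝟙 V) u)

theorem lanYonTo_yonEl {V : D} {U W : C} (u : U ⟶ f.fn.obj V) (k : W ⟶ U) :
    (lanYonTo (f := f) V).app (op W) ((yonEl u).app (op W) k) = k ≫ u := by
  show (lanYonTo (f := f) V).app (op W) ((f.fn.op.lan.obj (yoneda.obj V)).map k.op (lel (P := yoneda.obj V) (𝟙 V) u)) = _
  rw [map_arrow_lel, lanYonTo_lel, CategoryTheory.Functor.map_id, Category.comp_id]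

theorem isLocallySurjective_of_isIso {P Q : Cᵒᵖ ⥤ Type u} (c : P ⟶ Q)
    (h : IsIso ((presheafToSheaf J (Type u)).map c)) : Presheaf.IsLocallySurjective J c :=
  ((J.W_iff_isLocallyBijective c).1 ((J.W_iff c).2 h)).2

variable (f)

/-- Every object is locally over the image of the functor. -/
theorem locally_over (U : C) :
    ∃ S ∈ J U, ∀ ⦃W : C⦄ (k : W ⟶ U), S k → ∃ V : D, Nonempty (W ⟶ f.fn.obj V) := by
  let c := terminal.from (f.fn.op.lan.obj (⊤_ (Dᵒᵖ ⥤ Type u)))
  haveI := isLocallySurjective_of_isIso (J := J) c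
    (isIso_of_isTerminal (IsTerminal.isTerminalObj (lanSh f) _ terminalIsTerminal)
      (IsTerminal.isTerminalObj (presheafToSheaf J (Type u)) _ terminalIsTerminal) _)
  let p := (terminal.from (yoneda.obj U)).app (op U) (𝟙 U)
  refine ⟨Presheaf.imageSieve c p, Presheaf.imageSieve_mem J c p, ?_⟩
  rintro W k ⟨q, -⟩
  obtain ⟨V, z, u, -⟩ := exists_lel q
  exact ⟨V, ⟨u⟩⟩

/-- Two arrows to the image locally factor through a single one. -/
theorem locally_span {U : C} {V₁ V₂ : D} (u₁ : U ⟶ f.fn.obj V₁) (u₂ : U ⟶ f.fn.obj V₂) :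
    ∃ S ∈ J U, ∀ ⦃W : C⦄ (k : W ⟶ U), S k → ∃ (V : D) (g₁ : V ⟶ V₁) (g₂ : V ⟶ V₂) (u : W ⟶ f.fn.obj V),
      u ≫ f.fn.map g₁ = k ≫ u₁ ∧ u ≫ f.fn.map g₂ = k ≫ u₂ := by
  let L := f.fn.op.lan (H := Type u)
  let c := prodComparison L (yoneda.obj V₁) (yoneda.obj V₂)
  have hiso : IsIso ((presheafToSheaf J (Type u)).map c) := by
    have h : IsIso (prodComparison (lanSh f) (yoneda.obj V₁) (yoneda.obj V₂)) := inferInstance
    rw [prodComparison_comp] at h
    exact IsIso.of_isIso_comp_right _ (prodComparison (presheafToSheaf J (Type u)) (L.obj (yoneda.obj V₁)) (L.obj (yoneda.obj V₂)))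
  haveI := isLocallySurjective_of_isIso (J := J) c hiso
  let l := prod.lift (yonEl u₁) (yonEl u₂)
  let p := l.app (op U) (𝟙 U)
  refine ⟨Presheaf.imageSieve c p, Presheaf.imageSieve_mem J c p, ?_⟩
  rintro W k ⟨q, hq⟩
  obtain ⟨V, z, u, rfl⟩ := exists_lel q
  have hk : c.app (op W) (lel z u) = l.app (op W) k := hq.trans (by
    rw [← NatTrans.naturality_apply]
    exact congrArg (l.app (op W)) (Category.comp_id k))
  refine ⟨V, (prod.fst : yoneda.obj V₁ ⨯ yoneda.obj V₂ ⟶ _).app (op V) z,
    (prod.snd : yoneda.obj V₁ ⨯ yoneda.obj V₂ ⟶ _).app (op V) z, u, ?_, ?_⟩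
  · have h := congrArg (fun t => (lanYonTo (f := f) V₁).app (op W)
      ((prod.fst : L.obj (yoneda.obj V₁) ⨯ L.obj (yoneda.obj V₂) ⟶ _).app (op W) t)) hk
    have e1 := ConcreteCategory.congr_hom (congr_app (prodComparison_fst L (A := yoneda.obj V₁) (B := yoneda.obj V₂)) (op W)) (lel z u)
    have e2 := ConcreteCategory.congr_hom (congr_app (prod.lift_fst (yonEl u₁) (yonEl u₂)) (op W)) k
    refine ((congrArg _ (e1.trans (map_lel _ z u))).trans (lanYonTo_lel _ u)).symm.trans (h.trans ?_)
    exact (congrArg _ e2).trans (lanYonTo_yonEl u₁ k)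
  · have h := congrArg (fun t => (lanYonTo (f := f) V₂).app (op W)
      ((prod.snd : L.obj (yoneda.obj V₁) ⨯ L.obj (yoneda.obj V₂) ⟶ _).app (op W) t)) hk
    have e1 := ConcreteCategory.congr_hom (congr_app (prodComparison_snd L (A := yoneda.obj V₁) (B := yoneda.obj V₂)) (op W)) (lel z u)
    have e2 := ConcreteCategory.congr_hom (congr_app (prod.lift_snd (yonEl u₁) (yonEl u₂)) (op W)) k
    refine ((congrArg _ (e1.trans (map_lel _ z u))).trans (lanYonTo_lel _ u)).symm.trans (h.trans ?_)
    exact (congrArg _ e2).trans (lanYonTo_yonEl u₂ k)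

/-- Arrows agreeing after composition are locally equalised. -/
theorem locally_equalize {U : C} {V₁ V₂ : D} (g g' : V₁ ⟶ V₂) (u : U ⟶ f.fn.obj V₁)
    (h : u ≫ f.fn.map g = u ≫ f.fn.map g') :
    ∃ S ∈ J U, ∀ ⦃W : C⦄ (k : W ⟶ U), S k → ∃ (V : D) (e : V ⟶ V₁) (u' : W ⟶ f.fn.obj V),
      e ≫ g = e ≫ g' ∧ u' ≫ f.fn.map e = k ≫ u := by
  let L := f.fn.op.lan (H := Type u)
  let G := yoneda.map g
  let G' := yoneda.map g'
  let c := equalizerComparison G G' L
  have hiso : IsIso ((presheafToSheaf J (Type u)).map c) := by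
    have h1 : IsIso (equalizerComparison G G' (lanSh f)) := inferInstance
    have h2 : equalizerComparison G G' (lanSh f) = (presheafToSheaf J (Type u)).map c ≫
        equalizerComparison (L.map G) (L.map G') (presheafToSheaf J (Type u)) := by
      apply equalizer.hom_ext
      erw [equalizerComparison_comp_π, Category.assoc, equalizerComparison_comp_π, ← Functor.map_comp,
        equalizerComparison_comp_π]
      rfl
    rw [h2] at h1
    exact IsIso.of_isIso_comp_right _ (equalizerComparison (L.map G) (L.map G') (presheafToSheaf J (Type u)))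
  haveI := isLocallySurjective_of_isIso (J := J) c hiso
  have heq : yonEl u ≫ L.map G = yonEl u ≫ L.map G' := by
    ext W k
    apply lanYonTo_injective
    show (lanYonTo (f := f) V₂).app _ ((L.map G).app W ((L.obj _).map k.op (lel (P := yoneda.obj V₁) (𝟙 V₁) u))) =
      (lanYonTo (f := f) V₂).app _ ((L.map G').app W ((L.obj _).map k.op (lel (P := yoneda.obj V₁) (𝟙 V₁) u)))
    rw [map_arrow_lel, map_lel, map_lel]
    refine (lanYonTo_lel _ _).trans (Eq.trans ?_ (lanYonTo_lel _ _).symm)
    show (k ≫ u) ≫ f.fn.map (𝟙 _ ≫ g) = (k ≫ u) ≫ f.fn.map (𝟙 _ ≫ g')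
    rw [Category.id_comp, Category.id_comp, Category.assoc, Category.assoc, h]
  let l := equalizer.lift (yonEl u) heq
  let p := l.app (op U) (𝟙 U)
  refine ⟨Presheaf.imageSieve c p, Presheaf.imageSieve_mem J c p, ?_⟩
  rintro W k ⟨q, hq⟩
  obtain ⟨V, z, u', rfl⟩ := exists_lel q
  have hk : c.app (op W) (lel z u') = l.app (op W) k := hq.trans (by
    rw [← NatTrans.naturality_apply]
    exact congrArg (l.app (op W)) (Category.comp_id k))
  refine ⟨V, (equalizer.ι G G').app (op V) z, u',
    ConcreteCategory.congr_hom (congr_app (equalizer.condition G G') (op V)) z, ?_⟩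
  have h' := congrArg (fun t => (lanYonTo (f := f) V₁).app (op W) ((equalizer.ι (L.map G) (L.map G')).app (op W) t)) hk
  have e1 := ConcreteCategory.congr_hom (congr_app (equalizerComparison_comp_π G G' L) (op W)) (lel z u')
  have e2 := ConcreteCategory.congr_hom (congr_app (equalizer.lift_ι (yonEl u) heq) (op W)) k
  refine ((congrArg _ (e1.trans (map_lel _ z u'))).trans (lanYonTo_lel _ u')).symm.trans (h'.trans ?_)
  exact (congrArg _ e2).trans (lanYonTo_yonEl u k)

/-- Coverings pull back to coverings. -/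
theorem locally_lift {U : C} {V₀ : D} (u : U ⟶ f.fn.obj V₀) (S : Sieve V₀) (hS : S ∈ K V₀) :
    ∃ T ∈ J U, ∀ ⦃W : C⦄ (k : W ⟶ U), T k → ∃ (V : D) (g : V ⟶ V₀) (u' : W ⟶ f.fn.obj V),
      S g ∧ u' ≫ f.fn.map g = k ≫ u := by
  have hW : IsIso ((presheafToSheaf K (Type u)).map S.functorInclusion) := by
    rw [← K.W_iff, K.W_iff_isLocallyBijective]
    refine ⟨Presheaf.isLocallyInjective_of_injective K _ fun X => fun a b e => Subtype.ext e, ⟨fun {X} s => ?_⟩⟩
    refine K.superset_covering ?_ (K.pullback_stable s hS)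
    intro Y g hg
    exact ⟨⟨g ≫ s, hg⟩, rfl⟩
  let L := f.fn.op.lan (H := Type u)
  have hiso : IsIso ((presheafToSheaf J (Type u)).map (L.map S.functorInclusion)) :=
    (NatIso.isIso_map_iff (lanShIso f) S.functorInclusion).2
      (Functor.map_isIso (f.fn.sheafPullback (Type u) K J) _)
  haveI := isLocallySurjective_of_isIso (J := J) _ hiso
  let p : (L.obj (yoneda.obj V₀)).obj (op U) := lel (P := yoneda.obj V₀) (𝟙 V₀) u
  refine ⟨Presheaf.imageSieve (L.map S.functorInclusion) p, Presheaf.imageSieve_mem J (L.map S.functorInclusion) p, ?_⟩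
  rintro W k ⟨q, hq⟩
  obtain ⟨V, z, u', rfl⟩ := exists_lel q
  have h' := congrArg ((lanYonTo (f := f) V₀).app (op W)) hq
  rw [map_lel] at h'
  refine ⟨V, z.1, u', z.2, (lanYonTo_lel _ u').symm.trans (h'.trans ?_)⟩
  exact lanYonTo_yonEl u k

end Groth.Agent.ModFlat16
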