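import Groth.Agent.Lib.ModFlat16.Factor
import Groth.Agent.Lib.ModFlat16.Generators
import Mathlib.Algebra.Category.ModuleCat.Sheaf.Quasicoherent

/-! Local generators and relations of sheaves of modules, on elements. -/

set_option autoImplicit false
set_option linter.style.haveILetI false
set_option linter.unusedSectionVars false
set_option backward.isDefEq.respectTransparency false
set_option backward.isDefEq.respectTransparency.types false

universe u

open CategoryTheory CategoryTheory.Limits Opposite

noncomputable section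

namespace Groth.Agent.ModFlat16

variable {C : Type u} [SmallCategory C] {J : GrothendieckTopology C} {O : Sheaf J CommRingCat.{u}}

section Slice

variable {U : C} {N P : ModSite.Mod (O.over U)}

/-- Restriction of a section at the top. -/
abbrev top (N : ModSite.Mod (O.over U)) (A : Over U) : ModSite.sect N (Over.mk (𝟙 U)) →+ ModSite.sect N A :=
  smap N (fromTop (op A)).unop

theorem smap_top (A A' : Over U) (a : A' ⟶ A) (x : ModSite.sect N (Over.mk (𝟙 U))) :
    smap N a (top N A x) = top N A' x := by
  rw [← smap_comp]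
  exact congrArg (fun z => smap N z x) (congrArg Quiver.Hom.unop (fromTop_unique ((fromTop (op A)) ≫ a.op)))

theorem top_self (x : ModSite.sect N (Over.mk (𝟙 U))) : top N (Over.mk (𝟙 U)) x = x := by
  show smap N _ x = x
  rw [show (fromTop (op (Over.mk (𝟙 U)))).unop = 𝟙 (Over.mk (𝟙 U)) from Over.OverMorphism.ext rfl]
  exact smap_id (F := N) _

/-- Locally a combination of the given sections. -/
def TLoc {ι : Type*} [Fintype ι] (s : ι → ModSite.sect N (Over.mk (𝟙 U))) {A : Over U} (x : ModSite.sect N A) : Prop :=
  ∃ S ∈ J A.left, ∀ ⦃A' : Over U⦄ (a : A' ⟶ A), S a.left →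
    ∃ c : ι → (O.over U).obj.obj (op A'), smap N a x = ∑ i, c i • top N A' (s i)

/-- The given sections generate. -/
def TGens {ι : Type*} [Fintype ι] (s : ι → ModSite.sect N (Over.mk (𝟙 U))) : Prop :=
  ∀ (A : Over U) (x : ModSite.sect N A), TLoc s x

variable {ι : Type*} [Fintype ι] {s : ι → ModSite.sect N (Over.mk (𝟙 U))}

theorem TLoc.comb {A : Over U} (c : ι → (O.over U).obj.obj (op A)) : TLoc s (∑ i, c i • top N A (s i)) :=
  ⟨⊤, J.top_mem _, fun A' a _ => ⟨fun i => rmap (O.over U) a (c i), by
    rw [map_sum]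
    exact Finset.sum_congr rfl fun i _ => (smap_smul a _ _).trans (congrArg (_ • ·) (smap_top A A' a (s i)))⟩⟩

theorem TLoc.of_locally {A : Over U} {x : ModSite.sect N A} (S : Sieve A.left) (hS : S ∈ J A.left)
    (h : ∀ ⦃A' : Over U⦄ (a : A' ⟶ A), S a.left → TLoc s (smap N a x)) : TLoc s x := by
  have hk : ∀ ⦃W : C⦄ (k : W ⟶ A.left), S k →
      TLoc s (smap N (Over.homMk k : Over.mk (k ≫ A.hom) ⟶ A) x) := fun W k hk => h _ hk
  choose T hT hT' using hk
  refine ⟨Sieve.bind S.arrows T, J.bind_covering hS fun W k hk => hT k hk, fun A' a ha => ?_⟩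
  obtain ⟨W, l, k, hk, hl, hlk⟩ := ha
  let l' : A' ⟶ Over.mk (k ≫ A.hom) := Over.homMk l (by
    show l ≫ k ≫ A.hom = A'.hom
    rw [reassoc_of% hlk]
    exact Over.w a)
  obtain ⟨c, hc⟩ := hT' k hk l' hl
  refine ⟨c, ?_⟩
  rw [← smap_comp] at hc
  rwa [show l' ≫ (Over.homMk k : Over.mk (k ≫ A.hom) ⟶ A) = a from Over.OverMorphism.ext hlk] at hc

theorem TLoc.add {A : Over U} {x y : ModSite.sect N A} (hx : TLoc s x) (hy : TLoc s y) : TLoc s (x + y) := by
  obtain ⟨S, hS, hx⟩ := hx
  obtain ⟨T, hT, hy⟩ := hy
  refine ⟨S ⊓ T, J.intersection_covering hS hT, fun A' a ha => ?_⟩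
  obtain ⟨c, hc⟩ := hx a ha.1
  obtain ⟨d, hd⟩ := hy a ha.2
  exact ⟨fun i => c i + d i, by simp only [map_add, hc, hd, add_smul, Finset.sum_add_distrib]⟩

/-- Maps out of the structure sheaf on sections. -/
theorem app_unit (h : SheafOfModules.unit (ModSite.ringSh (O.over U)) ⟶ N) (A : Over U)
    (c : (O.over U).obj.obj (op A)) :
    h.val.app (op A) c = c • top N A (topVal h) := by
  refine Eq.trans ?_ (((h.val.app (op A)).hom.map_smul c (1 : (ModSite.ringSh (O.over U)).obj.obj (op A))).trans
    (congrArg (c • ·) ?_))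
  · exact congrArg _ (_root_.mul_one c).symm
  · refine Eq.trans ?_ (PresheafOfModules.naturality_apply h.val (fromTop (op A))
      (1 : (ModSite.ringSh (O.over U)).obj.obj (topOver U)))
    exact congrArg _ (map_one ((ModSite.ringSh (O.over U)).obj.map (fromTop (op A))).hom).symm

theorem exists_local_preimage_over (f : P ⟶ N) [Epi f] {A : Over U} (x : ModSite.sect N A) :
    ∃ S ∈ J A.left, ∀ ⦃A' : Over U⦄ (a : A' ⟶ A), S a.left → ∃ z, f.val.app (op A') z = smap N a x := by
  obtain ⟨R, hR, h⟩ := ExtSupp8.exists_local_preimage f (V := A) x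
  refine ⟨Sieve.overEquiv A R, (J.mem_over_iff R).1 hR, fun A' a ha => h a ?_⟩
  rw [Sieve.overEquiv_iff] at ha
  have := R.downward_closed ha (Over.homMk (𝟙 A'.left) (by
    show 𝟙 _ ≫ a.left ≫ A.hom = A'.hom
    rw [Category.id_comp]; exact Over.w a) : A' ⟶ Over.mk (a.left ≫ A.hom))
  rwa [show (Over.homMk (𝟙 A'.left) _ : A' ⟶ Over.mk (a.left ≫ A.hom)) ≫ Over.homMk a.left = a from
    Over.OverMorphism.ext (Category.id_comp _)] at this

theorem sections_injective (f : P ⟶ N) [Mono f] (A : Over U) : Function.Injective (f.val.app (op A)) := by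
  intro x y h
  apply (freeOnHom (O.over U) A P).symm.injective
  rw [← cancel_mono f]
  apply (freeOnHom (O.over U) A N).injective
  rw [freeOnHom_comp, freeOnHom_comp, Equiv.apply_symm_apply, Equiv.apply_symm_apply, h]

theorem exists_kernel_section (f : N ⟶ P) {A : Over U} (x : ModSite.sect N A) (hx : f.val.app (op A) x = 0) :
    ∃ y, (kernel.ι f).val.app (op A) y = x := by
  let h : ModSite.freeOn (O.over U) A ⟶ N := (freeOnHom (O.over U) A N).symm x
  have hh : h ≫ f = 0 := by
    apply (freeOnHom (O.over U) A P).injective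
    rw [freeOnHom_comp, Equiv.apply_symm_apply, hx]
    have h0 := freeOnHom_comp (O.over U) (0 : ModSite.freeOn (O.over U) A ⟶ N) (0 : N ⟶ P)
    rw [comp_zero] at h0
    exact h0.symm
  refine ⟨freeOnHom (O.over U) A (kernel f) (kernel.lift f h hh), ?_⟩
  rw [← freeOnHom_comp, kernel.lift_ι]
  exact (freeOnHom (O.over U) A N).apply_symm_apply x

end Slice

section Free

variable {U : C} {N : ModSite.Mod (O.over U)} {ι : Type u} [Fintype ι]

/-- The basis maps of a free module on a slice. -/
abbrev fι (i : ι) : SheafOfModules.unit (ModSite.ringSh (O.over U)) ⟶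
    SheafOfModules.free (R := ModSite.ringSh (O.over U)) ι :=
  SheafOfModules.ιFree i

/-- The element with given coordinates. -/
def freeElt {A : Over U} (c : ι → (O.over U).obj.obj (op A)) :
    ModSite.sect (SheafOfModules.free (R := ModSite.ringSh (O.over U)) ι) A :=
  ∑ i, (fι i).val.app (op A) (c i)

theorem app_freeElt (π : SheafOfModules.free (R := ModSite.ringSh (O.over U)) ι ⟶ N) {A : Over U}
    (c : ι → (O.over U).obj.obj (op A)) :
    π.val.app (op A) (freeElt c) = ∑ i, c i • top N A (topVal (fι i ≫ π)) := by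
  rw [freeElt, map_sum]
  exact Finset.sum_congr rfl fun i _ => app_unit (fι i ≫ π) A (c i)

/-- The coordinates of a section of a finite free module. -/
def coord [DecidableEq ι] {A : Over U} (z : ModSite.sect (SheafOfModules.free (R := ModSite.ringSh (O.over U)) ι) A)
    (j : ι) : (O.over U).obj.obj (op A) :=
  (proj (O := O) (U := U) j).val.app (op A) z

theorem freeElt_coord [DecidableEq ι] {A : Over U}
    (z : ModSite.sect (SheafOfModules.free (R := ModSite.ringSh (O.over U)) ι) A) : freeElt (coord z) = z := by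
  have h := congrArg (fun q : SheafOfModules.free (R := ModSite.ringSh (O.over U)) ι ⟶ SheafOfModules.free ι =>
    q.val.app (op A) z) (free_total (O := O) (U := U) (ι := ι))
  refine Eq.trans ?_ h
  show freeElt (coord z) = _
  rw [freeElt]
  have : ∀ (S : Finset ι), ((∑ j ∈ S, proj (O := O) (U := U) j ≫ fι j).val.app (op A)) z =
      ∑ j ∈ S, (fι j).val.app (op A) (coord z j) := fun S => by
    induction S using Finset.induction_on with
    | empty => rfl
    | @insert i S hi ih =>
      rw [Finset.sum_insert hi, Finset.sum_insert hi, ← ih]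
      rfl
  exact (this Finset.univ).symm

theorem coord_ext [DecidableEq ι] {A : Over U}
    {z z' : ModSite.sect (SheafOfModules.free (R := ModSite.ringSh (O.over U)) ι) A}
    (h : ∀ j, coord z j = coord z' j) : z = z' := by
  rw [← freeElt_coord z, ← freeElt_coord z', funext h]

theorem coord_freeElt [DecidableEq ι] {A : Over U} (c : ι → (O.over U).obj.obj (op A)) (j : ι) :
    coord (freeElt c) j = c j := by
  have e : ∀ i, (proj (O := O) (U := U) j).val.app (op A) ((fι i).val.app (op A) (c i)) =
      if i = j then c i else (0 : (O.over U).obj.obj (op A)) := fun i => by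
    show (fι i ≫ proj (O := O) (U := U) j).val.app (op A) (c i) = _
    rw [ιFree_proj]
    split_ifs <;> rfl
  rw [coord, freeElt, map_sum]
  exact (Finset.sum_congr rfl fun i _ => e i).trans (by simp)

theorem tgens_of_epi (π : SheafOfModules.free (R := ModSite.ringSh (O.over U)) ι ⟶ N) [Epi π] :
    TGens fun i => topVal (fι i ≫ π) := by
  classical
  intro A x
  obtain ⟨S, hS, h⟩ := exists_local_preimage_over π x
  refine ⟨S, hS, fun A' a ha => ?_⟩
  obtain ⟨z, hz⟩ := h a ha
  exact ⟨coord z, by rw [← app_freeElt, freeElt_coord, hz]⟩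

/-- The map out of a free module given by sections at the top. -/
def freeTo (s : ι → ModSite.sect N (Over.mk (𝟙 U))) :
    SheafOfModules.free (R := ModSite.ringSh (O.over U)) ι ⟶ N :=
  Cofan.IsColimit.desc (SheafOfModules.isColimitFreeCofan ι) fun i => secHom (s i)

theorem topVal_ιFree_freeTo (s : ι → ModSite.sect N (Over.mk (𝟙 U))) (i : ι) :
    topVal (fι i ≫ freeTo s) = s i := by
  rw [show fι i ≫ freeTo s = secHom (s i) from
    Cofan.IsColimit.fac (SheafOfModules.isColimitFreeCofan ι) _ i]
  exact topVal_secHom _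

theorem epi_freeTo {s : ι → ModSite.sect N (Over.mk (𝟙 U))} (hs : TGens s) : Epi (freeTo s) := by
  refine (SheafOfModules.toSheaf (ModSite.ringSh (O.over U))).epi_of_epi_map ?_
  refine (Sheaf.isLocallySurjective_iff_epi' _ _).1 ⟨fun {A} x => ?_⟩
  obtain ⟨S, hS, h⟩ := hs A x
  rw [GrothendieckTopology.mem_over_iff]
  refine J.superset_covering ?_ hS
  intro W k hk
  rw [Sieve.overEquiv_iff]
  obtain ⟨c, hc⟩ := h (Over.homMk k : Over.mk (k ≫ A.hom) ⟶ A) hk
  refine ⟨freeElt c, ?_⟩
  refine Eq.trans ?_ hc.symm
  refine (app_freeElt (freeTo s) c).trans ?_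
  simp only [topVal_ιFree_freeTo]

/-- Generating sections from elements. -/
abbrev genSections (s : ι → ModSite.sect N (Over.mk (𝟙 U))) (hs : TGens s) : N.GeneratingSections where
  I := ι
  s := SheafOfModules.freeHomEquiv N (freeTo s)
  epi := by rw [Equiv.symm_apply_apply]; exact epi_freeTo hs

theorem genSections_π (s : ι → ModSite.sect N (Over.mk (𝟙 U))) (hs : TGens s) :
    (genSections s hs).π = freeTo s := Equiv.symm_apply_apply _ _

/-- The relations between sections are generated by the given ones. -/
def TRels {κ : Type*} [Fintype κ] {ι : Type*} [Fintype ι] (s : ι → ModSite.sect N (Over.mk (𝟙 U)))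
    (R : κ → ι → (O.over U).obj.obj (op (Over.mk (𝟙 U)))) : Prop :=
  (∀ r, ∑ i, R r i • s i = 0) ∧
    ∀ (A : Over U) (c : ι → (O.over U).obj.obj (op A)), ∑ i, c i • top N A (s i) = 0 →
      ∃ S ∈ J A.left, ∀ ⦃A' : Over U⦄ (a : A' ⟶ A), S a.left →
        ∃ d : κ → (O.over U).obj.obj (op A'), ∀ i, rmap (O.over U) a (c i) =
          ∑ r, d r * rmap (O.over U) (fromTop (op A')).unop (R r i)

theorem coord_sum_smul [DecidableEq ι] {κ : Type*} [Fintype κ] {A : Over U} (d : κ → (O.over U).obj.obj (op A))
    (z : κ → ModSite.sect (SheafOfModules.free (R := ModSite.ringSh (O.over U)) ι) A) (j : ι) :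
    coord (∑ r, d r • z r) j = ∑ r, d r * coord (z r) j := by
  rw [coord, map_sum]
  exact Finset.sum_congr rfl fun r _ => ((proj (O := O) (U := U) j).val.app (op A)).hom.map_smul (d r) (z r)

theorem trels_of_presentation [DecidableEq ι] {κ : Type u} [Fintype κ]
    (π : SheafOfModules.free (R := ModSite.ringSh (O.over U)) ι ⟶ N)
    (ρ : SheafOfModules.free (R := ModSite.ringSh (O.over U)) κ ⟶ kernel π) [Epi ρ] :
    TRels (fun i => topVal (fι i ≫ π))
      (fun r => coord (ι := ι) (A := Over.mk (𝟙 U)) ((kernel.ι π).val.app (topOver U) (topVal (fι r ≫ ρ)))) := by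
  refine ⟨fun r => ?_, fun A c hc => ?_⟩
  · have h := app_freeElt π (coord ((kernel.ι π).val.app (topOver U) (topVal (fι r ≫ ρ))))
    rw [freeElt_coord] at h
    simp only [top_self] at h
    refine h.symm.trans ?_
    exact congrArg (fun q : kernel π ⟶ N => q.val.app (topOver U) _) (kernel.condition π)
  · obtain ⟨y, hy⟩ := exists_kernel_section π (freeElt c) ((app_freeElt π c).trans hc)
    obtain ⟨S, hS, h⟩ := tgens_of_epi ρ A y
    refine ⟨S, hS, fun A' a ha => ?_⟩
    obtain ⟨d, hd⟩ := h a ha
    refine ⟨d, fun i => ?_⟩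
    have h' := congrArg ((kernel.ι π).val.app (op A')) hd
    rw [map_sum] at h'
    have h'' : smap (SheafOfModules.free (R := ModSite.ringSh (O.over U)) ι) a (freeElt c) = ∑ r, d r • top (SheafOfModules.free (R := ModSite.ringSh (O.over U)) ι) A'
        ((kernel.ι π).val.app (topOver U) (topVal (fι r ≫ ρ))) := by
      rw [← hy]
      refine ((PresheafOfModules.naturality_apply (kernel.ι π).val a.op y).symm.trans h').trans ?_
      exact Finset.sum_congr rfl fun r _ => (((kernel.ι π).val.app (op A')).hom.map_smul _ _).trans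
        (congrArg (d r • ·) (PresheafOfModules.naturality_apply (kernel.ι π).val (fromTop (op A')) _))
    have hn : ∀ {A A' : Over U} (a : A' ⟶ A) (z : ModSite.sect (SheafOfModules.free (R := ModSite.ringSh (O.over U)) ι) A),
        coord (smap _ a z) i = rmap (O.over U) a (coord z i) := fun a z =>
      PresheafOfModules.naturality_apply (proj (O := O) (U := U) i).val a.op z
    have h3 := congrArg (fun z => coord z i) h''
    simp only [hn, coord_freeElt, coord_sum_smul] at h3
    exact h3

theorem nonempty_presentation {κ : Type u} [Fintype κ] (s : ι → ModSite.sect N (Over.mk (𝟙 U)))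
    (hs : TGens s) (R : κ → ι → (O.over U).obj.obj (op (Over.mk (𝟙 U)))) (hR : TRels s R) :
    ∃ P : N.Presentation, P.IsFinite := by
  classical
  have htop : ∀ r, (genSections s hs).π.val.app (topOver U) (freeElt (R r)) = 0 := fun r => by
    rw [genSections_π]
    refine (app_freeElt (freeTo s) (R r)).trans (Eq.trans ?_ (hR.1 r))
    refine Finset.sum_congr rfl fun i _ => congrArg (R r i • ·) ?_
    rw [topVal_ιFree_freeTo]
    exact top_self _
  choose y hy using fun r => exists_kernel_section (genSections s hs).π (A := Over.mk (𝟙 U)) (freeElt (R r)) (htop r)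
  have hy' : TGens y := by
    intro A x
    let z := (kernel.ι (genSections s hs).π).val.app (op A) x
    have hz : (freeTo s).val.app (op A) z = 0 := by
      rw [← genSections_π s hs]
      exact congrArg (fun q : kernel (genSections s hs).π ⟶ N => q.val.app (op A) x) (kernel.condition (genSections s hs).π)
    obtain ⟨S, hS, h⟩ := hR.2 A (coord (ι := ι) z) (by
      refine Eq.trans ?_ hz
      refine Eq.trans ?_ ((app_freeElt (freeTo s) (coord (ι := ι) z)).symm.trans
        (congrArg _ (freeElt_coord (ι := ι) z)))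
      simp only [topVal_ιFree_freeTo])
    refine ⟨S, hS, fun A' a ha => ?_⟩
    obtain ⟨d, hd⟩ := h a ha
    refine ⟨d, sections_injective (kernel.ι (genSections s hs).π) A' ?_⟩
    rw [map_sum]
    refine (PresheafOfModules.naturality_apply (kernel.ι (genSections s hs).π).val a.op x).trans ?_
    refine Eq.trans ?_ (Finset.sum_congr rfl fun r _ =>
      ((((kernel.ι (genSections s hs).π).val.app (op A')).hom.map_smul (d r) _).trans (congrArg (d r • ·)
        ((PresheafOfModules.naturality_apply (kernel.ι (genSections s hs).π).val (fromTop (op A')) (y r)).trans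
          (congrArg _ (hy r))))).symm)
    refine coord_ext (O := O) (U := U) (ι := ι) (A := A') fun i => ?_
    have hn : ∀ {A A' : Over U} (a : A' ⟶ A) (w : ModSite.sect (SheafOfModules.free (R := ModSite.ringSh (O.over U)) ι) A),
        coord (smap _ a w) i = rmap (O.over U) a (coord w i) := fun a w =>
      PresheafOfModules.naturality_apply (proj (O := O) (U := U) i).val a.op w
    refine (hn a z).trans ((hd i).trans ?_)
    refine Eq.trans ?_ (coord_sum_smul _ _ i).symm
    refine Finset.sum_congr rfl fun r _ => congrArg (d r * ·) ?_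
    refine Eq.trans ?_ (hn _ _).symm
    exact congrArg _ (coord_freeElt _ _).symm
  refine ⟨{ generators := (genSections s hs), relations := genSections y hy' }, ?_⟩
  constructor
  · constructor
    exact Finite.of_fintype ι
  · constructor
    exact Finite.of_fintype κ

end Free

end Groth.Agent.ModFlat16
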