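import Groth.Agent.Lib.KFlat.SiteW
import Mathlib.Algebra.Category.ModuleCat.Presheaf.PushforwardZeroMonoidal
import Mathlib.Algebra.Category.ModuleCat.Presheaf.EpiMono
import Mathlib.Algebra.DirectSum.Module
import Mathlib.CategoryTheory.Comma.Over.Basic

/-! Extension by zero of presheaves of modules from a slice category: `V ↦ ⊕_{φ : V ⟶ U} M(φ)`. -/

universe u

open CategoryTheory Opposite DirectSum

set_option linter.style.haveILetI false
set_option backward.isDefEq.respectTransparency false
set_option backward.isDefEq.respectTransparency.types false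

namespace Groth.Agent.ModFlat16

open Groth.Agent.KFlat.SiteW (PM)

variable {C : Type u} [SmallCategory C] (R : Cᵒᵖ ⥤ CommRingCat.{u}) (U : C)

/-- Presheaves of rings on the slice. -/
abbrev overR : (Over U)ᵒᵖ ⥤ CommRingCat.{u} := (Over.forget U).op ⋙ R

/-- Restriction to the slice. -/
noncomputable abbrev preRestr : PM R ⥤ PM (overR R U) :=
  PresheafOfModules.pushforward₀OfCommRingCat (Over.forget U) R

variable {R U}

/-- The summands. -/
noncomputable abbrev Fib (M : PM (overR R U)) (V : Cᵒᵖ) (φ : V.unop ⟶ U) : ModuleCat.{u} (R.obj V) :=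
  M.obj (op (Over.mk φ))

/-- Sections of the extension. -/
abbrev Ext0 (M : PM (overR R U)) (V : Cᵒᵖ) : Type u := ⨁ φ : V.unop ⟶ U, (Fib M V φ : Type u)

open scoped Classical in
/-- A section in one summand. -/
noncomputable def sg (M : PM (overR R U)) {V : Cᵒᵖ} (φ : V.unop ⟶ U) :
    Fib M V φ →ₗ[R.obj V] Ext0 M V :=
  DirectSum.lof (R.obj V) (V.unop ⟶ U) (fun φ => (Fib M V φ : Type u)) φ

theorem ext0_induction (M : PM (overR R U)) {V : Cᵒᵖ} {p : Ext0 M V → Prop} (z : Ext0 M V)
    (h0 : p 0) (hs : ∀ φ x, p (sg M φ x)) (ha : ∀ a b, p a → p b → p (a + b)) : p z := by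
  classical
  exact DirectSum.induction_on z h0 hs ha

/-- Transport between summands along arrows with the same underlying map. -/
theorem sg_map_eq (M : PM (overR R U)) {V : Cᵒᵖ} {φ ψ : V.unop ⟶ U} {A : (Over U)ᵒᵖ}
    (a : A ⟶ op (Over.mk φ)) (b : A ⟶ op (Over.mk ψ)) (h : a.unop.left = b.unop.left) (x : M.obj A) :
    sg M φ (M.map a x) = sg M ψ (M.map b x) := by
  obtain rfl : φ = ψ := by
    have ha := Over.w a.unop
    have hb := Over.w b.unop
    exact ha.symm.trans ((congrArg (· ≫ A.unop.hom) h).trans hb)
  obtain rfl : a = b := Quiver.Hom.unop_inj (Over.OverMorphism.ext h)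
  rfl

theorem map_id_apply' (M : PM (overR R U)) {A : (Over U)ᵒᵖ} (x : M.obj A) :
    M.map (𝟙 A) x = x := by
  rw [M.map_id]
  rfl

/-- The arrow along which the summand `φ` restricts. -/
def resHom {V W : Cᵒᵖ} (f : V ⟶ W) (φ : V.unop ⟶ U) :
    op (Over.mk φ) ⟶ op (Over.mk (f.unop ≫ φ)) :=
  (Over.homMk f.unop : Over.mk (f.unop ≫ φ) ⟶ Over.mk φ).op

open scoped Classical in
/-- Restriction maps of the extension. -/
noncomputable def extRes (M : PM (overR R U)) {V W : Cᵒᵖ} (f : V ⟶ W) : Ext0 M V →+ Ext0 M W :=
  DirectSum.toAddMonoid fun φ =>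
    (sg M (f.unop ≫ φ)).toAddMonoidHom.comp (M.map (resHom f φ)).hom.toAddMonoidHom

theorem extRes_sg (M : PM (overR R U)) {V W : Cᵒᵖ} (f : V ⟶ W) (φ : V.unop ⟶ U) (x : Fib M V φ) :
    extRes M f (sg M φ x) = sg M (f.unop ≫ φ) (M.map (resHom f φ) x) := by
  classical
  exact DirectSum.toAddMonoid_of (β := fun φ => (Fib M V φ : Type u)) _ φ x

/-- The underlying presheaf of abelian groups. -/
noncomputable def preExtAb (M : PM (overR R U)) : Cᵒᵖ ⥤ AddCommGrpCat.{u} where
  obj V := AddCommGrpCat.of (Ext0 M V)
  map f := AddCommGrpCat.ofHom (extRes M f)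
  map_id V := by
    refine AddCommGrpCat.ext fun z => ?_
    change extRes M (𝟙 V) z = z
    induction z using ext0_induction with
    | h0 => simp
    | hs φ x =>
      rw [extRes_sg]
      exact (sg_map_eq M (resHom (𝟙 V) φ) (𝟙 _) rfl x).trans (congrArg _ (map_id_apply' M x))
    | ha a b ha hb => rw [map_add, ha, hb]
  map_comp {V W X} f g := by
    refine AddCommGrpCat.ext fun z => ?_
    change extRes M (f ≫ g) z = extRes M g (extRes M f z)
    induction z using ext0_induction with
    | h0 => simp
    | hs φ x =>
      rw [extRes_sg, extRes_sg, extRes_sg, ← M.map_comp_apply]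
      exact sg_map_eq M (resHom (f ≫ g) φ) (resHom f φ ≫ resHom g (f.unop ≫ φ)) rfl x
    | ha a b ha hb => rw [map_add, ha, hb, map_add, map_add]

theorem extRes_smul (M : PM (overR R U)) {V W : Cᵒᵖ} (f : V ⟶ W) (r : R.obj V) (z : Ext0 M V) :
    extRes M f (r • z) = (R.map f).hom r • extRes M f z := by
  induction z using ext0_induction with
  | h0 => simp
  | hs φ x =>
    rw [← map_smul, extRes_sg, extRes_sg, ← map_smul]
    exact congrArg (sg M (f.unop ≫ φ)) (M.map_smul (resHom f φ) r x)
  | ha a b ha hb => rw [smul_add, map_add, ha, hb, map_add, smul_add]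

noncomputable instance (M : PM (overR R U)) (V : Cᵒᵖ) :
    Module ((R ⋙ forget₂ CommRingCat.{u} RingCat.{u}).obj V) ((preExtAb M).obj V) :=
  inferInstanceAs (Module (R.obj V) (Ext0 M V))

variable (R U) in
/-- The extension, on objects. -/
noncomputable def preExtObj (M : PM (overR R U)) : PM R :=
  PresheafOfModules.ofPresheaf (preExtAb M) fun _ _ f r z => extRes_smul M f r z

open scoped Classical in
/-- The extension of a morphism, sectionwise. -/
noncomputable def extMap {M N : PM (overR R U)} (g : M ⟶ N) (V : Cᵒᵖ) : Ext0 M V →ₗ[R.obj V] Ext0 N V :=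
  DirectSum.lmap fun φ : V.unop ⟶ U =>
    ((g.app (op (Over.mk φ))).hom : Fib M V φ →ₗ[R.obj V] Fib N V φ)

theorem extMap_sg {M N : PM (overR R U)} (g : M ⟶ N) (V : Cᵒᵖ) (φ : V.unop ⟶ U) (x : Fib M V φ) :
    extMap g V (sg M φ x) = sg N φ (g.app (op (Over.mk φ)) x) := by
  classical
  exact DirectSum.lmap_lof _ _ _

variable (R U) in
/-- The extension. -/
noncomputable def preExt : PM (overR R U) ⥤ PM R where
  obj := preExtObj R U
  map {M N} g :=
    { app := fun V => ModuleCat.ofHom (X := Ext0 M V) (Y := Ext0 N V) (extMap g V)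
      naturality := fun {V W} f => by
        ext z
        change extMap g W (extRes M f z) = extRes N f (extMap g V z)
        induction z using ext0_induction with
        | h0 => simp
        | hs φ x =>
          rw [extRes_sg, extMap_sg, extMap_sg, extRes_sg]
          exact congrArg (sg N _) (PresheafOfModules.naturality_apply g _ x)
        | ha a b ha hb => simp only [map_add, ha, hb] }
  map_id M := by
    ext V z
    change extMap (𝟙 M) V z = z
    induction z using ext0_induction with
    | h0 => simp
    | hs φ x => rw [extMap_sg]; rfl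
    | ha a b ha hb => simp only [map_add, ha, hb]
  map_comp {M N P} g h := by
    ext V z
    change extMap (g ≫ h) V z = extMap h V (extMap g V z)
    induction z using ext0_induction with
    | h0 => simp
    | hs φ x => rw [extMap_sg, extMap_sg, extMap_sg]; rfl
    | ha a b ha hb => simp only [map_add, ha, hb]

/-- Transpose towards the slice, sectionwise. -/
noncomputable def adjToApp {M : PM (overR R U)} {N : PM R} (g : (preExt R U).obj M ⟶ N) (A : (Over U)ᵒᵖ) :
    (M.obj A : ModuleCat.{u} (R.obj (op A.unop.left))) →ₗ[R.obj (op A.unop.left)] (N.obj (op A.unop.left)) :=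
  ((g.app (op A.unop.left)).hom : Ext0 M (op A.unop.left) →ₗ[R.obj (op A.unop.left)] N.obj (op A.unop.left)).comp
    (sg M (V := op A.unop.left) A.unop.hom)

/-- Transpose towards the base, sectionwise. -/
noncomputable def adjInvApp {M : PM (overR R U)} {N : PM R} (h : M ⟶ (preRestr R U).obj N) (V : Cᵒᵖ) :
    Ext0 M V →ₗ[R.obj V] (N.obj V) := by
  classical
  exact DirectSum.toModule (R.obj V) (V.unop ⟶ U) _ fun φ =>
    ((h.app (op (Over.mk φ))).hom : Fib M V φ →ₗ[R.obj V] N.obj V)

theorem adjInvApp_sg {M : PM (overR R U)} {N : PM R} (h : M ⟶ (preRestr R U).obj N) {V : Cᵒᵖ}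
    (φ : V.unop ⟶ U) (x : Fib M V φ) :
    adjInvApp h V (sg M φ x) = h.app (op (Over.mk φ)) x := by
  classical
  exact DirectSum.toModule_lof _ _ _

/-- The transposition. -/
noncomputable def preExtHomEquiv (M : PM (overR R U)) (N : PM R) :
    ((preExt R U).obj M ⟶ N) ≃ (M ⟶ (preRestr R U).obj N) where
  toFun g :=
    { app := fun A => ModuleCat.ofHom (adjToApp g A)
      naturality := fun {A B} f => by
        ext x
        change adjToApp g B (M.map f x) = N.map f.unop.left.op (adjToApp g A x)
        refine Eq.trans ?_ (PresheafOfModules.naturality_apply g f.unop.left.op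
          (sg M (V := op A.unop.left) A.unop.hom x))
        refine congrArg (g.app (op B.unop.left)) ?_
        exact (sg_map_eq M (φ := B.unop.hom) (ψ := f.unop.left ≫ A.unop.hom) (V := op B.unop.left) f
          (resHom f.unop.left.op A.unop.hom) rfl x).trans
            (extRes_sg M (V := op A.unop.left) (W := op B.unop.left) f.unop.left.op A.unop.hom x).symm }
  invFun h :=
    { app := fun V => ModuleCat.ofHom (X := Ext0 M V) (adjInvApp h V)
      naturality := fun {V W} f => by
        ext z
        change adjInvApp h W (extRes M f z) = N.map f (adjInvApp h V z)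
        induction z using ext0_induction with
        | h0 => simp only [map_zero]
        | hs φ x =>
          rw [extRes_sg, adjInvApp_sg, adjInvApp_sg]
          exact PresheafOfModules.naturality_apply h (resHom f φ) x
        | ha a b ha hb => simp only [map_add, ha, hb] }
  left_inv g := by
    ext V z
    change adjInvApp _ V z = g.app V z
    induction z using ext0_induction with
    | h0 => simp
    | hs φ x => exact adjInvApp_sg _ φ x
    | ha a b ha hb => rw [map_add, ha, hb]; exact (map_add (g.app V).hom a b).symm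
  right_inv h := by
    ext A x
    exact adjInvApp_sg h (V := op A.unop.left) A.unop.hom x

variable (R U) in
/-- Extension is left adjoint to restriction. -/
noncomputable def preExtAdj : preExt R U ⊣ preRestr R U :=
  Adjunction.mkOfHomEquiv
    { homEquiv := preExtHomEquiv
      homEquiv_naturality_left_symm := fun {M M' N} a b => by
        ext V z
        change adjInvApp (a ≫ b) V z = adjInvApp b V (extMap a V z)
        induction z using ext0_induction with
        | h0 => simp
        | hs φ x => rw [adjInvApp_sg, extMap_sg, adjInvApp_sg]; rfl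
        | ha a b ha hb => simp only [map_add, ha, hb]
      homEquiv_naturality_right := fun _ _ => by ext; rfl }

theorem preExtAdj_unit_app (M : PM (overR R U)) (A : (Over U)ᵒᵖ) (x : M.obj A) :
    ((preExtAdj R U).unit.app M).app A x = sg M (V := op A.unop.left) A.unop.hom x := rfl

instance preExt_preservesMono : (preExt R U).PreservesMonomorphisms where
  preserves {M N} g _ := PresheafOfModules.mono_of_injective fun {V} => by
    classical
    change Function.Injective (extMap g V)
    exact (DirectSum.lmap_injective _).2 fun φ => PresheafOfModules.injective_of_mono g _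

theorem sg_injective (M : PM (overR R U)) {V : Cᵒᵖ} (φ : V.unop ⟶ U) : Function.Injective (sg M φ) := by
  classical
  exact DirectSum.of_injective (β := fun φ => (Fib M V φ : Type u)) φ

end Groth.Agent.ModFlat16
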