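import Groth.Agent.Lib.ModFlat16.PreExt
import Mathlib.LinearAlgebra.DirectSum.TensorProduct

/-! The projection formula for extension by zero of presheaves of modules. -/

universe u

open CategoryTheory Opposite DirectSum MonoidalCategory
open scoped TensorProduct

set_option linter.style.haveILetI false
set_option backward.isDefEq.respectTransparency false
set_option backward.isDefEq.respectTransparency.types false

namespace Groth.Agent.ModFlat16

open Groth.Agent.KFlat.SiteW (PM)

variable {C : Type u} [SmallCategory C] {R : Cᵒᵖ ⥤ CommRingCat.{u}} {U : C}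

open scoped Classical in
/-- The sectionwise comparison. -/
noncomputable def projEquiv (P : PM (overR R U)) (N : PM R) (V : Cᵒᵖ) :
    Ext0 (P ⊗ (preRestr R U).obj N) V ≃ₗ[R.obj V] Ext0 P V ⊗[R.obj V] (N.obj V : Type u) :=
  (TensorProduct.directSumLeft (R.obj V) (R.obj V) (fun φ : V.unop ⟶ U => (Fib P V φ : Type u)) (N.obj V)).symm

theorem projEquiv_sg_tmul (P : PM (overR R U)) (N : PM R) {V : Cᵒᵖ} (φ : V.unop ⟶ U)
    (p : Fib P V φ) (n : N.obj V) :
    projEquiv P N V (sg (P ⊗ (preRestr R U).obj N) φ (p ⊗ₜ[R.obj V] n)) = sg P φ p ⊗ₜ[R.obj V] n := by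
  classical
  exact TensorProduct.directSumLeft_symm_lof_tmul (R := R.obj V) (S := R.obj V)
    (M₁ := fun φ : V.unop ⟶ U => (Fib P V φ : Type u)) (M₂' := (N.obj V : Type u)) φ p n

/-- The projection formula. -/
noncomputable def preProj (P : PM (overR R U)) (N : PM R) :
    (preExt R U).obj (P ⊗ (preRestr R U).obj N) ≅ (preExt R U).obj P ⊗ N :=
  PresheafOfModules.isoMk (fun V => LinearEquiv.toModuleIso (X₁ := Ext0 (P ⊗ (preRestr R U).obj N) V)
      (X₂ := Ext0 P V ⊗[R.obj V] (N.obj V : Type u)) (projEquiv P N V))
    fun V W f => by
      ext z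
      change projEquiv P N W (extRes (P ⊗ (preRestr R U).obj N) f z) =
        ((preExt R U).obj P ⊗ N).map f (projEquiv P N V z)
      induction z using ext0_induction with
      | h0 => simp only [map_zero]
      | hs φ x =>
        change (Fib P V φ : Type u) ⊗[R.obj V] (N.obj V : Type u) at x
        induction x using TensorProduct.induction_on with
        | zero => simp only [map_zero]
        | tmul p n =>
          rw [projEquiv_sg_tmul, extRes_sg]
          refine (projEquiv_sg_tmul P N (f.unop ≫ φ) (P.map (resHom f φ) p) (N.map f n)).trans ?_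
          exact (congrArg (· ⊗ₜ[R.obj W] (N.map f n : N.obj W)) (extRes_sg P f φ p).symm).trans
            (PresheafOfModules.Monoidal.tensorObj_map_tmul (M₁ := (preExt R U).obj P) (M₂ := N) f
              (sg P φ p) n).symm
        | add a b ha hb =>
          simp only [map_add, ha, hb]
      | ha a b ha hb =>
        simp only [map_add, ha, hb]

theorem preProj_natural_right (P : PM (overR R U)) {N N' : PM R} (g : N ⟶ N') :
    (preExt R U).map (P ◁ (preRestr R U).map g) ≫ (preProj P N').hom =
      (preProj P N).hom ≫ (preExt R U).obj P ◁ g := by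
  ext V z
  change projEquiv P N' V (extMap (P ◁ (preRestr R U).map g) V z) =
    LinearMap.lTensor (Ext0 P V) (g.app V).hom (projEquiv P N V z)
  induction z using ext0_induction with
  | h0 => simp only [map_zero]
  | hs φ x =>
    change (Fib P V φ : Type u) ⊗[R.obj V] (_ : Type u) at x
    induction x using TensorProduct.induction_on with
    | zero => simp only [map_zero]
    | tmul p n =>
      rw [extMap_sg, projEquiv_sg_tmul]
      exact projEquiv_sg_tmul P N' φ p (g.app V n)
    | add a b ha hb => simp only [map_add, ha, hb]
  | ha a b ha hb => simp only [map_add, ha, hb]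

theorem preProj_natural_left {P P' : PM (overR R U)} (g : P ⟶ P') (N : PM R) :
    (preExt R U).map (g ▷ (preRestr R U).obj N) ≫ (preProj P' N).hom =
      (preProj P N).hom ≫ (preExt R U).map g ▷ N := by
  ext V z
  change projEquiv P' N V (extMap (g ▷ (preRestr R U).obj N) V z) =
    LinearMap.rTensor (N.obj V) (extMap g V) (projEquiv P N V z)
  induction z using ext0_induction with
  | h0 => simp only [map_zero]
  | hs φ x =>
    change (Fib P V φ : Type u) ⊗[R.obj V] (_ : Type u) at x
    induction x using TensorProduct.induction_on with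
    | zero => simp only [map_zero]
    | tmul p n =>
      rw [extMap_sg, projEquiv_sg_tmul]
      refine (projEquiv_sg_tmul P' N φ (g.app _ p) n).trans ?_
      exact congrArg (fun w => w ⊗ₜ[R.obj V] n) (extMap_sg g V φ p).symm
    | add a b ha hb => simp only [map_add, ha, hb]
  | ha a b ha hb => simp only [map_add, ha, hb]

end Groth.Agent.ModFlat16
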