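import Groth.Agent.Lib.ModFlat16.Criterion
import Groth.Agent.Lib.ModFlat16.LocCofil
import Mathlib.Algebra.Category.ModuleCat.Presheaf.Free
import Mathlib.Algebra.Category.ModuleCat.Presheaf.Colimits

/-! An explicit presentation of the inverse image of a sheaf of modules. -/

set_option autoImplicit false
set_option linter.style.haveILetI false
set_option backward.isDefEq.respectTransparency false
set_option backward.isDefEq.respectTransparency.types false

universe u

open CategoryTheory CategoryTheory.Limits Opposite

noncomputable section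

namespace Groth.Agent.ModFlat16

open Groth.Agent.KFlat.Site

variable {C D : Type u} [SmallCategory C] [SmallCategory D] {J : GrothendieckTopology C}
  {K : GrothendieckTopology D} {O_C : Sheaf J CommRingCat.{u}} {O_D : Sheaf K CommRingCat.{u}}
  (f : ModSite.RMor O_C O_D) (M : ModSite.Mod O_D)

/-- The action of the structure map on sections. -/
abbrev shp (V : D) : O_D.obj.obj (op V) →+* O_C.obj.obj (op (f.fn.obj V)) := (f.sharp.hom.app (op V)).hom

/-- The combined ring map along an arrow. -/
abbrev rho {U : C} {V : D} (u : U ⟶ f.fn.obj V) : O_D.obj.obj (op V) →+* O_C.obj.obj (op U) :=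
  (rmap O_C u).comp (shp f V)

theorem shp_rmap {V V' : D} (g : V' ⟶ V) (a : O_D.obj.obj (op V)) :
    shp f V' (rmap O_D g a) = rmap O_C (f.fn.map g) (shp f V a) :=
  ConcreteCategory.congr_hom (f.sharp.hom.naturality g.op) a

theorem rho_rmap {U : C} {V V' : D} (g : V' ⟶ V) (u : U ⟶ f.fn.obj V') (a : O_D.obj.obj (op V)) :
    rho f u (rmap O_D g a) = rho f (u ≫ f.fn.map g) a := by
  show rmap O_C u (shp f V' (rmap O_D g a)) = rmap O_C (u ≫ f.fn.map g) (shp f V a)
  rw [shp_rmap, rmap_comp]

theorem rmap_rho {U W : C} {V : D} (k : W ⟶ U) (u : U ⟶ f.fn.obj V) (a : O_D.obj.obj (op V)) :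
    rmap O_C k (rho f u a) = rho f (k ≫ u) a :=
  (rmap_comp u k _).symm

/-- Symbols. -/
def SymT : Cᵒᵖ ⥤ Type u where
  obj U := Σ V : D, (U.unop ⟶ f.fn.obj V) × ModSite.sect M V
  map k := ↾fun s => ⟨s.1, k.unop ≫ s.2.1, s.2.2⟩
  map_id U := by
    refine ConcreteCategory.hom_ext _ _ fun s => ?_
    obtain ⟨V, v, m⟩ := s
    simp
  map_comp k k' := by
    refine ConcreteCategory.hom_ext _ _ fun s => ?_
    obtain ⟨V, v, m⟩ := s
    simp

/-- Relations. -/
inductive Rel (U : C) : Type u
  | add (V : D) (u : U ⟶ f.fn.obj V) (m m' : ModSite.sect M V)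
  | smul (V : D) (u : U ⟶ f.fn.obj V) (a : O_D.obj.obj (op V)) (m : ModSite.sect M V)
  | res (V V' : D) (g : V' ⟶ V) (u : U ⟶ f.fn.obj V') (m : ModSite.sect M V)

/-- Relations as a presheaf. -/
def RelT : Cᵒᵖ ⥤ Type u where
  obj U := Rel f M U.unop
  map k := ↾fun
    | .add V u m m' => .add V (k.unop ≫ u) m m'
    | .smul V u a m => .smul V (k.unop ≫ u) a m
    | .res V V' g u m => .res V V' g (k.unop ≫ u) m
  map_id U := by
    refine ConcreteCategory.hom_ext _ _ fun r => ?_
    cases r <;> simp
  map_comp k k' := by
    refine ConcreteCategory.hom_ext _ _ fun r => ?_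
    cases r <;> simp

/-- The ring presheaf of the source. -/
abbrev ringPre (O : Sheaf J CommRingCat.{u}) := O.obj ⋙ forget₂ CommRingCat.{u} RingCat.{u}

/-- The free presheaf on the symbols. -/
abbrev preP : ModSite.preMod O_C := PresheafOfModules.freeObj (SymT f M)

variable {f M}

/-- The generator of a symbol. -/
def gen {U : C} {V : D} (u : U ⟶ f.fn.obj V) (m : ModSite.sect M V) : (preP f M).obj (op U) :=
  Finsupp.single (⟨V, u, m⟩ : (SymT f M).obj (op U)) 1

theorem map_gen {U W : C} {V : D} (k : W ⟶ U) (u : U ⟶ f.fn.obj V) (m : ModSite.sect M V) :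
    (preP f M).map k.op (gen u m) = gen (k ≫ u) m :=
  ModuleCat.freeDesc_apply (R := (ringPre O_C).obj (op U))
    (M := (ModuleCat.restrictScalars ((ringPre O_C).map k.op).hom).obj ((preP f M).obj (op W))) _ _

/-- The value of a relation. -/
def relVal {U : C} : Rel f M U → (preP f M).obj (op U)
  | .add V u m m' => gen u (m + m') - gen u m - gen u m'
  | .smul V u a m => gen u (a • m) - (rho f u a : (ringPre O_C).obj (op U)) • gen u m
  | .res V V' g u m => gen u (smap M g m) - gen (u ≫ f.fn.map g) m

theorem map_relVal {U W : C} (k : W ⟶ U) (r : Rel f M U) :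
    (preP f M).map k.op (relVal r) = relVal ((RelT f M).map k.op r) := by
  cases r with
  | add V u m m' =>
    show _ = gen (k ≫ u) (m + m') - gen (k ≫ u) m - gen (k ≫ u) m'
    simp only [relVal, map_sub, map_gen]
  | smul V u a m =>
    show _ = gen (k ≫ u) (a • m) - (rho f (k ≫ u) a : (ringPre O_C).obj (op W)) • gen (k ≫ u) m
    simp only [relVal, map_sub, map_gen]
    rw [PresheafOfModules.map_smul, map_gen, ← rmap_rho]
    rfl
  | res V V' g u m =>
    show _ = gen (k ≫ u) (smap M g m) - gen ((k ≫ u) ≫ f.fn.map g) m
    simp only [relVal, map_sub, map_gen, Category.assoc]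

variable (f M)

/-- The relations map. -/
def relMap : PresheafOfModules.freeObj (R := ringPre O_C) (RelT f M) ⟶ preP f M :=
  PresheafOfModules.freeObjDesc
    { app := fun U => ↾fun r => relVal r
      naturality := fun U W k => by ext r; exact (map_relVal k.unop r).symm }

/-- The inverse image presheaf. -/
def preQ : ModSite.preMod O_C := cokernel (relMap f M)

/-- The projection. -/
def preQπ : preP f M ⟶ preQ f M := cokernel.π (relMap f M)

theorem preQπ_relVal {U : C} (r : Rel f M U) : (preQπ f M).app (op U) (relVal r) = 0 := by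
  have h : (relMap f M ≫ preQπ f M).app (op U) (Finsupp.single r 1) = 0 := by
    rw [preQπ, cokernel.condition]; rfl
  refine Eq.trans ?_ h
  show _ = (preQπ f M).app (op U) ((relMap f M).app (op U) (ModuleCat.freeMk r))
  refine congrArg ((preQπ f M).app (op U)) ?_
  symm
  exact ModuleCat.freeDesc_apply _ _

theorem preQπ_surjective (U : Cᵒᵖ) : Function.Surjective ((preQπ f M).app U) := by
  haveI : Epi ((PresheafOfModules.evaluation _ U).map (cokernel.π (relMap f M))) := inferInstance
  exact (ModuleCat.epi_iff_surjective _).1 this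

theorem exists_rel_of_preQπ_eq_zero {U : C} (z : (preP f M).obj (op U)) (hz : (preQπ f M).app (op U) z = 0) :
    ∃ c, (relMap f M).app (op U) c = z := by
  let ev := PresheafOfModules.evaluation.{u} (ringPre O_C) (op U)
  have h : IsColimit (CokernelCofork.ofπ ((preQπ f M).app (op U)) (by
      show (relMap f M ≫ cokernel.π (relMap f M)).app (op U) = 0
      rw [cokernel.condition]; rfl) : CokernelCofork ((relMap f M).app (op U))) :=
    CokernelCofork.mapIsColimit _ (cokernelIsCokernel (relMap f M)) ev
  let S := ShortComplex.mk ((relMap f M).app (op U)) ((preQπ f M).app (op U)) (by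
      show (relMap f M ≫ cokernel.π (relMap f M)).app (op U) = 0
      rw [cokernel.condition]; rfl)
  have hS : S.Exact := S.exact_of_g_is_cokernel h
  rw [ShortComplex.moduleCat_exact_iff] at hS
  exact hS z hz

/-- The class of a symbol in the sheafification. -/
def cls {U : C} {V : D} (u : U ⟶ f.fn.obj V) (m : ModSite.sect M V) :
    ModSite.sect ((ModSite.shPre O_C).obj (preQ f M)) U :=
  ((adj O_C).unit.app (preQ f M)).app (op U) ((preQπ f M).app (op U) (gen u m))

/-- The universal map. -/
def toPush : M ⟶ f.push.obj ((ModSite.shPre O_C).obj (preQ f M)) where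
  val := PresheafOfModules.homMk
    { app := fun V => AddCommGrpCat.ofHom (AddMonoidHom.mk' (fun m => cls f M (𝟙 _) m) fun m m' => by
        refine sub_eq_zero.1 ?_
        have h := congrArg (((adj O_C).unit.app (preQ f M)).app (op (f.fn.obj V.unop)))
          (preQπ_relVal f M (Rel.add V.unop (𝟙 _) m m'))
        simp only [relVal, map_sub, map_zero] at h
        rw [sub_sub] at h
        exact h)
      naturality := fun V V' g => by
        ext m
        show cls f M (𝟙 _) (smap M g.unop m) = ((ModSite.shPre O_C).obj (preQ f M)).val.map (f.fn.map g.unop).op (cls f M (𝟙 _) m)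
        have h := congrArg (((adj O_C).unit.app (preQ f M)).app (op (f.fn.obj V'.unop)))
          (preQπ_relVal f M (Rel.res V.unop V'.unop g.unop (𝟙 _) m))
        simp only [relVal, map_sub, map_zero, sub_eq_zero, Category.id_comp] at h
        refine h.trans ?_
        refine (congrArg (((adj O_C).unit.app (preQ f M)).app (op (f.fn.obj V'.unop))) ?_).trans
          (PresheafOfModules.naturality_apply ((adj O_C).unit.app (preQ f M)) (f.fn.map g.unop).op _)
        refine Eq.trans ?_ (PresheafOfModules.naturality_apply (preQπ f M) (f.fn.map g.unop).op _)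
        exact congrArg ((preQπ f M).app (op (f.fn.obj V'.unop))) (by rw [map_gen, Category.comp_id]) }
    fun V a m => by
      have h := congrArg (((adj O_C).unit.app (preQ f M)).app (op (f.fn.obj V.unop)))
        (preQπ_relVal f M (Rel.smul V.unop (𝟙 _) a m))
      simp only [relVal, map_sub, map_zero, sub_eq_zero, map_smul] at h
      refine h.trans ?_
      rw [show rho f (𝟙 _) a = shp f V.unop a from by
        show rmap O_C (𝟙 _) (shp f V.unop a) = _
        simp [rmap]]
      rfl

variable {f M}

/-- A map to a direct image, on symbols. -/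
def symVal {N : ModSite.Mod O_C} (φ : M ⟶ f.push.obj N) {U : C} {V : D} (u : U ⟶ f.fn.obj V)
    (m : ModSite.sect M V) : ModSite.sect N U :=
  smap N u (show ModSite.sect N (f.fn.obj V) from φ.val.app (op V) m)

/-- The induced map out of the free presheaf. -/
def descP {N : ModSite.Mod O_C} (φ : M ⟶ f.push.obj N) : preP f M ⟶ (ModSite.toPre O_C).obj N :=
  PresheafOfModules.freeObjDesc
    { app := fun U => ↾fun s => symVal φ s.2.1 s.2.2
      naturality := fun U W k => by ext s; exact smap_comp s.2.1 k.unop _ }

theorem descP_gen {N : ModSite.Mod O_C} (φ : M ⟶ f.push.obj N) {U : C} {V : D} (u : U ⟶ f.fn.obj V)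
    (m : ModSite.sect M V) : (descP φ).app (op U) (gen u m) = symVal φ u m :=
  ModuleCat.freeDesc_apply _ _

theorem descP_rel {N : ModSite.Mod O_C} (φ : M ⟶ f.push.obj N) : relMap f M ≫ descP φ = 0 := by
  refine PresheafOfModules.free_hom_ext (R := ringPre O_C) ?_
  ext U r
  show (descP φ).app U ((relMap f M).app U (ModuleCat.freeMk r)) = 0
  rw [show (relMap f M).app U (ModuleCat.freeMk r) = relVal r from ModuleCat.freeDesc_apply _ _]
  cases r with
  | add V u m m' =>
    simp only [relVal, map_sub]
    erw [descP_gen, descP_gen, descP_gen]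
    simp only [symVal]
    erw [map_add, map_add]
    abel_nf
    exact sub_self _
  | smul V u a m =>
    simp only [relVal, map_sub, map_smul]
    erw [descP_gen, descP_gen]
    refine sub_eq_zero.2 ?_
    simp only [symVal]
    refine (congrArg (smap N u) ((φ.val.app (op V)).hom.map_smul a m)).trans ?_
    exact smap_smul u (shp f V a) _
  | res V V' g u m =>
    simp only [relVal, map_sub]
    erw [descP_gen, descP_gen]
    refine sub_eq_zero.2 ?_
    simp only [symVal]
    rw [smap_comp]
    exact congrArg (smap N u) (PresheafOfModules.naturality_apply φ.val g.op m)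

/-- The induced map out of the sheafified presentation. -/
def descSh {N : ModSite.Mod O_C} (φ : M ⟶ f.push.obj N) : (ModSite.shPre O_C).obj (preQ f M) ⟶ N :=
  ((adj O_C).homEquiv _ _).symm (cokernel.desc (relMap f M) (descP φ) (descP_rel φ))

theorem descSh_cls {N : ModSite.Mod O_C} (φ : M ⟶ f.push.obj N) {U : C} {V : D} (u : U ⟶ f.fn.obj V)
    (m : ModSite.sect M V) : (descSh φ).val.app (op U) (cls f M u m) = symVal φ u m := by
  have h1 : preQπ f M ≫ (adj O_C).unit.app (preQ f M) ≫ (ModSite.toPre O_C).map (descSh φ) = descP φ := by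
    rw [← Adjunction.homEquiv_unit, descSh, Equiv.apply_symm_apply]
    exact cokernel.π_desc _ _ _
  exact (ConcreteCategory.congr_hom (congrArg (fun q : preP f M ⟶ (ModSite.toPre O_C).obj N => q.app (op U)) h1) (gen u m)).trans
    (descP_gen φ u m)

theorem toPush_descSh {N : ModSite.Mod O_C} (φ : M ⟶ f.push.obj N) : toPush f M ≫ f.push.map (descSh φ) = φ := by
  apply SheafOfModules.hom_ext
  ext V m
  show (descSh φ).val.app (op (f.fn.obj V.unop)) (cls f M (𝟙 _) m) = _
  rw [descSh_cls]
  exact smap_id (F := N) _

theorem hom_ext_cls {N : ModSite.Mod O_C} {α β : (ModSite.shPre O_C).obj (preQ f M) ⟶ N}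
    (h : toPush f M ≫ f.push.map α = toPush f M ≫ f.push.map β) : α = β := by
  apply ((adj O_C).homEquiv _ _).injective
  apply (cancel_epi (cokernel.π (relMap f M))).1
  refine PresheafOfModules.free_hom_ext (R := ringPre O_C) ?_
  ext U s
  obtain ⟨V, u, m⟩ := s
  show α.val.app U (cls f M u m) = β.val.app U (cls f M u m)
  have hm := congrArg (fun q : M ⟶ f.push.obj N => q.val.app (op V) m) h
  have hc : cls f M u m = smap ((ModSite.shPre O_C).obj (preQ f M)) u (cls f M (𝟙 _) m) := by
    refine Eq.trans ?_ (PresheafOfModules.naturality_apply ((adj O_C).unit.app (preQ f M)) u.op _)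
    refine congrArg (((adj O_C).unit.app (preQ f M)).app (op U.unop)) ?_
    refine Eq.trans ?_ (PresheafOfModules.naturality_apply (preQπ f M) u.op _)
    exact congrArg ((preQπ f M).app (op U.unop)) (by rw [map_gen, Category.comp_id])
  rw [hc]
  exact (PresheafOfModules.naturality_apply α.val u.op _).trans
    ((congrArg (N.val.map u.op) hm).trans (PresheafOfModules.naturality_apply β.val u.op _).symm)

variable (f M)

/-- The inverse image is presented by symbols. -/
def pullPresIso : f.pull.obj M ≅ (ModSite.shPre O_C).obj (preQ f M) where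
  hom := (f.adj.homEquiv _ _).symm (toPush f M)
  inv := descSh (f.adj.unit.app M)
  hom_inv_id := by
    apply (f.adj.homEquiv _ _).injective
    rw [Adjunction.homEquiv_naturality_right, Equiv.apply_symm_apply, toPush_descSh]
    exact (f.adj.homEquiv_id _).symm
  inv_hom_id := by
    apply hom_ext_cls
    rw [Functor.map_comp, ← Category.assoc, toPush_descSh, CategoryTheory.Functor.map_id, Category.comp_id]
    exact (f.adj.homEquiv_unit _ _ _).symm.trans (Equiv.apply_symm_apply _ _)

end Groth.Agent.ModFlat16
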