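import Groth.Agent.Lib.ModFlat16.StalkFree
import Mathlib.LinearAlgebra.InvariantBasisNumber
import Mathlib.SetTheory.Cardinal.Finite
import Mathlib.Algebra.Category.ModuleCat.Sheaf.LocallyFree
import Mathlib.LinearAlgebra.Dimension.StrongRankCondition

/-! The rank of a locally free module on a ringed space. -/

set_option autoImplicit false
set_option linter.style.haveILetI false
set_option linter.unusedSectionVars false
set_option backward.isDefEq.respectTransparency false
set_option backward.isDefEq.respectTransparency.types false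

universe u

open CategoryTheory CategoryTheory.Limits Opposite TopologicalSpace

noncomputable section

namespace Groth.Agent.ModFlat16

theorem indep_of_iso {C : Type u} [SmallCategory C] {J : GrothendieckTopology C} {O : Sheaf J CommRingCat.{u}}
    {M : ModSite.Mod O} {U : C} {I : Type u} (θ : (ModSite.restr O U).obj M ≅ SheafOfModules.free I)
    (t : Finset I) {V : C} (k : V ⟶ U) (c : I → O.obj.obj (op V))
    (hc : ∑ i ∈ t, c i • smap M k (topVal (fι i ≫ θ.inv)) = 0) (j : I) (hj : j ∈ t) : c j = 0 := by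
  classical
  let A : Over U := Over.mk k
  let g := θ.hom ≫ proj (O := O) (U := U) j
  have hg : ∀ i, g.val.app (op A) (smap M k (topVal (fι i ≫ θ.inv))) =
      if i = j then (1 : O.obj.obj (op V)) else 0 := fun i => by
    refine (app_smap g (fromTop (op A)).unop (topVal (fι i ≫ θ.inv))).trans ?_
    rw [← topVal_comp]
    simp only [g, Category.assoc, Iso.inv_hom_id_assoc, fι, ιFree_proj]
    split_ifs
    · exact map_one ((ModSite.ringSh (O.over U)).obj.map (fromTop (op A))).hom
    · exact (congrArg _ (show topVal (0 : SheafOfModules.unit (ModSite.ringSh (O.over U)) ⟶ _) = 0 from rfl)).trans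
        (map_zero _)
  have h := congrArg (fun z => g.val.app (op A) z) hc
  have h' : ∑ i ∈ t, c i * (if i = j then (1 : O.obj.obj (op V)) else 0) = 0 := by
    refine Eq.trans ?_ (h.trans (map_zero _))
    refine Eq.trans (Finset.sum_congr rfl fun i _ => ?_) (map_sum (g.val.app (op A)).hom _ _).symm
    rw [← hg i]
    exact ((g.val.app (op A)).hom.map_smul (c i) (smap M k (topVal (fι i ≫ θ.inv)))).symm
  simpa [Finset.sum_ite_eq', hj] using h'

variable {X : TopCat.{u}} {O : TopCat.Sheaf CommRingCat.{u} X} {M : ModSite.Mod O}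

theorem germRing_nontrivial {x : X} (h : Nontrivial (O.presheaf.stalk x)) : Nontrivial (ModSite.stalkRing (pt x) O) := by
  by_contra hn
  rw [not_nontrivial_iff_subsingleton] at hn
  obtain ⟨Y, g, y, -, he⟩ := exists_nbhd_eqRing (O := O) (ι := PUnit.{1}) (pt x) ⊤ (mk trivial) (fun _ => 1) (fun _ => 0)
    (fun _ => @Subsingleton.elim _ hn _ _)
  have h10 := he PUnit.unit
  rw [map_one, map_zero] at h10
  refine one_ne_zero (α := O.presheaf.stalk x) ?_
  have := congrArg (O.presheaf.germ Y x y.down.down) h10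
  rwa [map_one, map_zero] at this

theorem linearIndependent_germs {U : Opens X} {I : Type u} (θ : (ModSite.restr O U).obj M ≅ SheafOfModules.free I)
    {x : X} (hx : x ∈ U) :
    LinearIndependent (ModSite.stalkRing (pt x) O)
      (fun i => (ModSite.germ (pt x) M U (mk hx) (topVal (fι i ≫ θ.inv)) : ModSite.stalkMod (pt x) M)) := by
  classical
  rw [linearIndependent_iff']
  intro t γ hγ j hj
  obtain ⟨V, f, v, hv, hc⟩ := exists_nbhd_forall (pt x)
    (fun (i : t) Y y => ∃ r : O.obj.obj (op Y), ModSite.germRing (pt x) (O := O) Y y r = γ i)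
    (fun q Y Z h z ⟨r, hr⟩ => ⟨rmap O h r, by rw [germRing_rmap]; exact hr⟩)
    (fun q => by
      obtain ⟨Y, y, r, hr⟩ := (pt x).toPresheafFiber_jointly_surjective (P := O.obj) (γ q)
      exact ⟨Y, y, r, hr⟩) U (mk hx)
  choose c hc using hc
  let c' : I → O.obj.obj (op V) := fun i => if h : i ∈ t then c ⟨i, h⟩ else 0
  have hc' : ∀ i ∈ t, ModSite.germRing (pt x) (O := O) V v (c' i) = γ i := fun i hi => by
    simp only [c', dif_pos hi]; exact hc ⟨i, hi⟩
  obtain ⟨W, l, w, hw, he⟩ := exists_nbhd_eq (ι := PUnit.{1}) (pt x) V v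
    (fun _ => ∑ i ∈ t, c' i • smap M f (topVal (fι i ≫ θ.inv))) (fun _ => 0) (fun _ => by
      refine ((map_sum ((pt x).toPresheafFiber V v (ModSite.toAb M).obj).hom _ t).trans ?_).trans (map_zero _).symm
      refine Eq.trans (Finset.sum_congr rfl fun i hi => ?_) hγ
      refine (ModSite.germ_smul (pt x) M V v _ _).trans ?_
      rw [hc' i hi, germ_smap, hv])
  have h0 : rmap O l (c' j) = 0 := by
    refine indep_of_iso θ t (l ≫ f) (fun i => rmap O l (c' i)) ?_ j hj
    refine Eq.trans ?_ ((he PUnit.unit).trans (map_zero _))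
    rw [map_sum]
    refine Finset.sum_congr rfl fun i _ => ?_
    rw [smap_smul, ← smap_comp]
  rw [← hc' j hj, ← hw, ← germRing_rmap, h0]
  exact map_zero _

theorem span_germs {U : Opens X} {ι : Type u} [Fintype ι] {e : ι → ModSite.sect M U} (he : IsBasis M U e)
    {x : X} (hx : x ∈ U) :
    Submodule.span (ModSite.stalkRing (pt x) O)
      (Set.range fun i => (ModSite.germ (pt x) M U (mk hx) (e i) : ModSite.stalkMod (pt x) M)) = ⊤ := by
  rw [eq_top_iff]
  rintro z -
  obtain ⟨Y, y, s, rfl⟩ := (pt x).toPresheafFiber_jointly_surjective (P := (ModSite.toAb M).obj) z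
  let W : Opens X := U ⊓ Y
  have hW : x ∈ W := ⟨hx, y.down.down⟩
  obtain ⟨c, hc, -⟩ := he (V := W) (homOfLE inf_le_left) (smap M (homOfLE inf_le_right) s)
  have h : ModSite.germ (pt x) M Y y s =
      ModSite.germ (pt x) M W (mk hW) (smap M (homOfLE inf_le_right) s) := (germ_smap (pt x) _ _ _).symm
  show ModSite.germ (pt x) M Y y s ∈ _
  rw [h, hc, germ_sum]
  refine Submodule.sum_mem _ fun i _ => ?_
  rw [ModSite.germ_smul]
  exact Submodule.smul_mem _ _ (Submodule.subset_span ⟨i, (germ_smap (pt x) _ _ _).symm⟩)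

theorem card_le (hO : ∀ x : X, Nontrivial (O.presheaf.stalk x)) {x : X} {U U' : Opens X} (hx : x ∈ U) (hx' : x ∈ U')
    {I I' : Type u} (θ : (ModSite.restr O U).obj M ≅ SheafOfModules.free I)
    (θ' : (ModSite.restr O U').obj M ≅ SheafOfModules.free I') : ENat.card I' ≤ ENat.card I := by
  rcases finite_or_infinite I with hI | hI
  · cases nonempty_fintype I
    haveI := germRing_nontrivial (hO x)
    have hli := linearIndependent_germs θ' hx'
    have hsp := span_germs (isBasis_topVal θ) hx
    exact Cardinal.toENat.monotone' ((linearIndependent_le_span'' hli _ hsp).trans Cardinal.mk_range_le)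
  · exact le_top.trans (ENat.card_eq_top_of_infinite (α := I)).ge

theorem exists_rank (hO : ∀ x : X, Nontrivial (O.presheaf.stalk x))
    [SheafOfModules.IsLocallyFree (R := ModSite.ringSh O) M] :
    ∃ rk : X → ℕ∞, IsLocallyConstant rk ∧
      ∀ (x : X) (U : Opens X) (I : Type u), x ∈ U →
        Nonempty ((ModSite.restr O U).obj M ≅ SheafOfModules.free I) → ENat.card I = rk x := by
  obtain ⟨q, hq⟩ := SheafOfModules.IsLocallyFree.exists_isLocallyFreeData (M := M)
  have hcov : ∀ x : X, ∃ i, x ∈ q.X i := fun x => by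
    obtain ⟨U, f, ⟨i, ⟨g⟩⟩, hxU⟩ := q.coversTop ⊤ x trivial
    exact ⟨i, leOfHom g hxU⟩
  choose i hi using hcov
  have θ : ∀ j, (ModSite.restr O (q.X j)).obj M ≅ SheafOfModules.free (q.generators j).I := fun j =>
    haveI := hq.isIso j
    (asIso (q.generators j).π).symm
  refine ⟨fun x => ENat.card (q.generators (i x)).I, ?_, fun x U I hx ⟨θ'⟩ =>
    le_antisymm (card_le hO (hi x) hx (θ _) θ') (card_le hO hx (hi x) θ' (θ _))⟩
  rw [IsLocallyConstant.iff_exists_open]
  exact fun x => ⟨q.X (i x), (q.X (i x)).2, hi x, fun y hy =>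
    le_antisymm (card_le hO hy (hi y) (θ _) (θ _)) (card_le hO (hi y) hy (θ _) (θ _))⟩

end Groth.Agent.ModFlat16
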