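import Groth.Agent.Lib.ModFlat16.Elements
import Groth.Agent.Lib.ModFlat16.Generators
import Groth.Agent.Lib.ModFlat16.Proj

/-! Relations in a flat sheaf of modules are locally trivial. -/

set_option autoImplicit false
set_option linter.style.haveILetI false
set_option linter.unusedSectionVars false
set_option backward.isDefEq.respectTransparency false
set_option backward.isDefEq.respectTransparency.types false

universe u

open CategoryTheory CategoryTheory.Limits MonoidalCategory Opposite TensorProduct

noncomputable section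

namespace Groth.Agent.ModFlat16

open Groth.Agent.KFlat.Site

variable {C : Type u} [SmallCategory C] {J : GrothendieckTopology C} {O : Sheaf J CommRingCat.{u}}

/-- The product of a section of the ring and a section of a module, as an element. -/
def unitVal {V : C} (x : ModSite.sect (SheafOfModules.unit (ModSite.ringSh O)) V) :
    (ModSite.ringSh O).obj.obj (op V) := x

/-- Multiplying out a tensor with the structure sheaf. -/
def mulOut {F : ModSite.Mod O} {V : C}
    (z : (Pt (SheafOfModules.unit (ModSite.ringSh O)) F).obj (op V)) : ModSite.sect F V :=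
  (λ_ ((ModSite.toPre O).obj F)).hom.app (op V) z

theorem mulOut_tm {F : ModSite.Mod O} {V : C} (a : ModSite.sect (SheafOfModules.unit (ModSite.ringSh O)) V)
    (s : ModSite.sect F V) : mulOut (tm a s) = unitVal a • s := by
  show (λ_ ((ModSite.toPre O).obj F)).hom.app (op V) (tm a s) = _
  exact ModuleCat.MonoidalCategory.leftUnitor_hom_apply (R := O.obj.obj (op V)) _ _

theorem mulOut_add {F : ModSite.Mod O} {V : C}
    (a b : (Pt (SheafOfModules.unit (ModSite.ringSh O)) F).obj (op V)) : mulOut (a + b) = mulOut a + mulOut b :=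
  map_add _ _ _

theorem mulOut_sum {F : ModSite.Mod O} {V : C} {ι : Type*} (S : Finset ι)
    (a : ι → (Pt (SheafOfModules.unit (ModSite.ringSh O)) F).obj (op V)) :
    mulOut (∑ i ∈ S, a i) = ∑ i ∈ S, mulOut (a i) :=
  map_sum (ModuleCat.Hom.hom ((λ_ ((ModSite.toPre O).obj F)).hom.app (op V))) a S

section Slice

variable {U : C}

/-- The map out of the structure sheaf given by a global section. -/
def secHom {N : ModSite.Mod (O.over U)} (x : N.val.obj (topOver U)) :
    SheafOfModules.unit (ModSite.ringSh (O.over U)) ⟶ N :=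
  (SheafOfModules.unitHomEquiv N).symm ((sectionsEquivTop O N).symm x)

theorem secHom_apply {N : ModSite.Mod (O.over U)} (x : N.val.obj (topOver U)) (A : (Over U)ᵒᵖ)
    (a : (ModSite.ringSh (O.over U)).obj.obj A) :
    (secHom x).val.app A a = a • N.val.map (fromTop A) x := rfl

theorem secHom_one {N : ModSite.Mod (O.over U)} (x : N.val.obj (topOver U)) (A : (Over U)ᵒᵖ) :
    (secHom x).val.app A (1 : (ModSite.ringSh (O.over U)).obj.obj A) = N.val.map (fromTop A) x := by
  rw [secHom_apply, one_smul]

variable (n : ℕ)

/-- The free module on `n` generators. -/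
abbrev pow (U : C) (O : Sheaf J CommRingCat.{u}) : ModSite.Mod (O.over U) :=
  haveI := Abelian.hasFiniteBiproducts (C := ModSite.Mod (O.over U))
  ⨁ fun _ : Fin n => SheafOfModules.unit (ModSite.ringSh (O.over U))

end Slice

/-- One relation in a flat module is locally trivial. -/
theorem relation_trivial {F : ModSite.Mod O} (hF : ModSite.IsFlat F) (U : C) (n : ℕ)
    (f : Fin n → O.obj.obj (op U)) (s : Fin n → ModSite.sect F U) (hrel : ∑ j, f j • s j = 0) :
    ∃ S ∈ J U, ∀ ⦃V : C⦄ (g : V ⟶ U), S g →
      ∃ (l : ℕ) (t : Fin l → ModSite.sect F V) (a : Fin n → Fin l → O.obj.obj (op V)),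
        (∀ j, (F.val.map g.op).hom (s j) = ∑ k, a j k • t k) ∧
        (∀ k, ∑ j, a j k * (O.obj.map g.op).hom (f j) = 0) := by
  classical
  let O' := O.over U
  haveI := Abelian.hasFiniteBiproducts (C := ModSite.Mod O')
  let OO : ModSite.Mod O' := SheafOfModules.unit (ModSite.ringSh O')
  let F' := (ModSite.restr O U).obj F
  have hF' : ModSite.IsFlat F' := isFlat_restr O U F hF
  let X : ModSite.Mod O' := pow n U O
  let f' : Fin n → OO.val.obj (topOver U) := f
  let φ : X ⟶ OO := biproduct.desc fun i => secHom (f' i)
  let one : ∀ A : (Over U)ᵒᵖ, OO.val.obj A := fun A => (1 : (ModSite.ringSh O').obj.obj A)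
  let e : Fin n → ModSite.sect X (Over.mk (𝟙 U)) := fun i =>
    (biproduct.ι (fun _ : Fin n => OO) i).val.app (topOver U) (one _)
  let s' : Fin n → ModSite.sect F' (Over.mk (𝟙 U)) := s
  let z : (Pt X F').obj (topOver U) := ∑ i, tm (e i) (s' i)
  have hφe : ∀ i, φ.val.app (topOver U) (e i) = f' i := by
    intro i
    show ((biproduct.ι (fun _ : Fin n => OO) i) ≫ φ).val.app (topOver U) (one _) = _
    rw [biproduct.ι_desc, secHom_one]
    have : fromTop (topOver U) = 𝟙 (topOver U) := (fromTop_unique _).symm
    rw [this, PresheafOfModules.map_id]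
    rfl
  have hz : (pmap φ F').app (topOver U) z = 0 := by
    simp only [z, map_sum, pmap_tm, hφe]
    have h1 : ∀ i, tm (f' i) (s' i) = tm (one (topOver U)) (((f i) : (ModSite.ringSh O').obj.obj (topOver U)) • s' i) := by
      intro i
      rw [← tm_smul]
      congr 1
      exact (mul_one (f i)).symm
    rw [Finset.sum_congr rfl fun i _ => h1 i, ← tm_sum_right]
    exact (congrArg (tm (one _)) hrel).trans (tm_zero_right _)
  obtain ⟨S, hS, hlift⟩ := exists_lift_tensor hF' φ z hz
  refine ⟨Sieve.overEquiv _ S, (GrothendieckTopology.mem_over_iff J _).1 hS, fun V g hg => ?_⟩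
  let A : Over U := Over.mk g
  let ā : A ⟶ Over.mk (𝟙 U) := Over.homMk g (Category.comp_id _)
  have hā : S ā := by
    have := (Sieve.overEquiv_iff (Y := Over.mk (𝟙 U)) S g).1 hg
    have h1 := S.downward_closed this
      (Over.homMk (𝟙 V) ((Category.id_comp _).trans (Category.comp_id g)) : A ⟶ Over.mk (g ≫ 𝟙 U))
    convert h1 using 1
    exact Over.OverMorphism.ext (Category.id_comp g).symm
  obtain ⟨w, hw⟩ := hlift ā hā
  obtain ⟨l, c, t, rfl⟩ := exists_eq_sum_tm w
  let K := kernel φ
  let co : Fin n → Fin l → O.obj.obj (op V) := fun j k =>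
    unitVal ((kernel.ι φ ≫ biproduct.π (fun _ : Fin n => OO) j).val.app (op A) (c k))
  refine ⟨l, t, co, fun j => ?_, fun k => ?_⟩
  · have h := congrArg (fun q => mulOut ((pmap (biproduct.π (fun _ : Fin n => OO) j) F').app (op A) q)) hw
    simp only [map_sum, pmap_tm, z, map_tm] at h
    rw [Finset.sum_eq_single j] at h
    · refine Eq.trans ?_ ((congrArg mulOut rfl).trans (h.symm.trans ((mulOut_sum _ _).trans
        (Finset.sum_congr rfl fun k _ => mulOut_tm _ _))))
      have hij : (biproduct.π (fun _ : Fin n => OO) j).val.app (op A) ((X.val.map ā.op).hom (e j)) = one (op A) := by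
        refine (PresheafOfModules.naturality_apply (biproduct.π (fun _ : Fin n => OO) j).val ā.op (e j)).trans ?_
        rw [show (biproduct.π (fun _ : Fin n => OO) j).val.app (topOver U) (e j) = one (topOver U) from
          congrArg (fun q : OO ⟶ OO => q.val.app (topOver U) (one _)) (biproduct.ι_π_self (fun _ : Fin n => OO) j)]
        exact map_one ((ModSite.ringSh O').obj.map ā.op).hom
      erw [hij, mulOut_tm]
      exact (one_smul ((ModSite.ringSh O').obj.obj (op A)) _).symm
    · intro i _ hij
      have h0 : (biproduct.π (fun _ : Fin n => OO) j).val.app (op A) ((X.val.map ā.op).hom (e i)) = 0 := by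
        refine (PresheafOfModules.naturality_apply (biproduct.π (fun _ : Fin n => OO) j).val ā.op (e i)).trans ?_
        rw [show (biproduct.π (fun _ : Fin n => OO) j).val.app (topOver U) (e i) = 0 from
          congrArg (fun q : OO ⟶ OO => q.val.app (topOver U) (one _)) (biproduct.ι_π_ne (fun _ : Fin n => OO) hij)]
        exact map_zero _
      erw [h0]
      exact tm_zero_left _
    · simp
  · have h : (kernel.ι φ ≫ φ).val.app (op A) (c k) = 0 := by rw [kernel.condition]; rfl
    have hd : kernel.ι φ ≫ φ = ∑ i, (kernel.ι φ ≫ biproduct.π (fun _ : Fin n => OO) i) ≫ secHom (f' i) := by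
      simp only [φ, biproduct.desc_eq, Preadditive.comp_sum, Category.assoc]
      rfl
    rw [hd] at h
    have hsum : ∀ (S : Finset (Fin n)) (q : Fin n → (K ⟶ OO)),
        (∑ i ∈ S, q i).val.app (op A) (c k) = ∑ i ∈ S, (q i).val.app (op A) (c k) := by
      intro S q
      induction S using Finset.induction_on with
      | empty => rfl
      | @insert i S hi ih => rw [Finset.sum_insert hi, Finset.sum_insert hi, ← ih]; rfl
    rw [hsum] at h
    refine Eq.trans (Finset.sum_congr rfl fun i _ => ?_) h
    show _ = (secHom (f' i)).val.app (op A) ((kernel.ι φ ≫ biproduct.π (fun _ : Fin n => OO) i).val.app (op A) (c k))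
    rw [secHom_apply]
    rfl

end Groth.Agent.ModFlat16
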