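import Groth.Agent.Lib.ModFlat16.Rank
import Mathlib.RingTheory.LocalRing.Module

/-! Direct summands of finite locally free modules. -/

set_option autoImplicit false
set_option linter.style.haveILetI false
set_option linter.unusedSectionVars false
set_option backward.isDefEq.respectTransparency false
set_option backward.isDefEq.respectTransparency.types false

universe u

open CategoryTheory CategoryTheory.Limits Opposite TopologicalSpace

noncomputable section

namespace Groth.Agent.ModFlat16

theorem hasPres_retract {C : Type u} [SmallCategory C] {J : GrothendieckTopology C} {O : Sheaf J CommRingCat.{u}}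
    {F H : ModSite.Mod O} (i : F ⟶ H) (p : H ⟶ F) (hip : i ≫ p = 𝟙 F) {U : C} {ι : Type u} [Fintype ι]
    {e : ι → ModSite.sect H U} (he : IsBasis H U e) : HasPres F U := by
  classical
  have hpi : ∀ {V : C} (z : ModSite.sect F V), p.val.app (op V) (i.val.app (op V) z) = z := fun {V} z =>
    congrArg (fun q : F ⟶ F => q.val.app (op V) z) hip
  choose A hA using fun b => (he (𝟙 U) (i.val.app (op U) (p.val.app (op U) (e b)))).exists
  simp only [smap_id] at hA
  let f : ι → ModSite.sect F U := fun b => p.val.app (op U) (e b)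
  refine ⟨ι, ι, inferInstance, inferInstance, f, fun b a => (if b = a then 1 else 0) - A b a,
    gens_mk _ fun {V} k z => ⟨⊤, J.top_mem V, fun W l _ => ?_⟩, rels_mk _ _ (fun b => ?_)
      fun {V} k c hc => ⟨⊤, J.top_mem V, fun W l _ => ?_⟩⟩
  · obtain ⟨c, hc, -⟩ := he (l ≫ k) (i.val.app (op W) (smap F l z))
    refine ⟨c, ?_⟩
    refine (hpi (smap F l z)).symm.trans ?_
    rw [hc, app_comb]
    refine Finset.sum_congr rfl fun a _ => ?_
    rw [app_smap]
  · simp only [sub_smul, Finset.sum_sub_distrib, ite_smul, _root_.one_smul, _root_.zero_smul, Finset.sum_ite_eq,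
      Finset.mem_univ, if_true, sub_eq_zero]
    refine Eq.trans ?_ (app_comb p (A b) e)
    rw [← hA b, hpi]
  · refine ⟨fun b => rmap O l (c b), fun a => ?_⟩
    let cA : ι → O.obj.obj (op V) := fun a => ∑ b, c b * rmap O k (A b a)
    have h0 : cA = 0 := by
      apply he.eq_zero k
      simp only [cA, Finset.sum_smul, mul_smul]
      rw [Finset.sum_comm]
      refine Eq.trans ?_ ((congrArg (fun z => i.val.app (op V) z) hc).trans (map_zero _))
      rw [app_comb]
      refine Finset.sum_congr rfl fun b _ => ?_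
      rw [app_smap, hA b, smap_comb, Finset.smul_sum]
    have h1 : ∑ b, rmap O l (c b) * rmap O (l ≫ k) (A b a) = 0 := by
      have := congrArg (rmap O l) (congrFun h0 a)
      simp only [cA, Pi.zero_apply, map_zero, map_sum, map_mul] at this
      refine Eq.trans (Finset.sum_congr rfl fun b _ => ?_) this
      rw [rmap_comp]
    simp only [map_sub, mul_sub, Finset.sum_sub_distrib, h1, sub_zero, apply_ite (rmap O (l ≫ k)), map_one, map_zero,
      mul_ite, _root_.mul_one, mul_zero, Finset.sum_ite_eq', Finset.mem_univ, if_true]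

variable {X : TopCat.{u}} {O : TopCat.Sheaf CommRingCat.{u} X} {F H : ModSite.Mod O}

theorem isUnit_germRing {x : X} {V : Opens X} (v : (pt x).fiber.obj V) (r : O.obj.obj (op V))
    (h : IsUnit (O.presheaf.germ V x v.down.down r)) : IsUnit (ModSite.germRing (pt x) (O := O) V v r) := by
  obtain ⟨w, hw⟩ := h.exists_right_inv
  obtain ⟨W, hxW, s, rfl⟩ := TopCat.Presheaf.exists_germ_eq O.presheaf w
  let W' : Opens X := V ⊓ W
  have hxW' : x ∈ W' := ⟨v.down.down, hxW⟩
  have h1 : O.presheaf.germ W' x hxW' (O.obj.map (homOfLE (inf_le_left : W' ≤ V)).op r *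
      O.obj.map (homOfLE (inf_le_right : W' ≤ W)).op s) = O.presheaf.germ W' x hxW' 1 := by
    rw [map_mul, map_one]
    exact (congrArg₂ (· * ·) (TopCat.Presheaf.germ_res_apply _ _ _ _ _) (TopCat.Presheaf.germ_res_apply _ _ _ _ _)).trans hw
  obtain ⟨U, hxU, a, b, hab⟩ := TopCat.Presheaf.germ_eq O.presheaf x hxW' hxW' _ _ h1
  have hu : IsUnit (rmap O (a ≫ homOfLE (inf_le_left : W' ≤ V)) r) := by
    refine IsUnit.of_mul_eq_one (rmap O (a ≫ homOfLE (inf_le_right : W' ≤ W)) s) ?_
    rw [rmap_comp, rmap_comp, ← map_mul]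
    exact hab.trans (map_one _)
  have := hu.map ((pt x).toPresheafFiber U (mk hxU) O.obj).hom
  rw [show v = (pt x).fiber.map (a ≫ homOfLE (inf_le_left : W' ≤ V)) (mk hxU) from Subsingleton.elim _ _,
    ← germRing_rmap]
  exact this

theorem isLocalRing_stalkRing {x : X} (h : IsLocalRing (O.presheaf.stalk x)) :
    IsLocalRing (ModSite.stalkRing (pt x) O) := by
  haveI := germRing_nontrivial (O := O) (x := x) inferInstance
  refine IsLocalRing.of_isUnit_or_isUnit_one_sub_self fun a => ?_
  obtain ⟨V, v, r, rfl⟩ := (pt x).toPresheafFiber_jointly_surjective (P := O.obj) a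
  rcases IsLocalRing.isUnit_or_isUnit_one_sub_self (O.presheaf.germ V x v.down.down r) with hr | hr
  · exact Or.inl (isUnit_germRing v r hr)
  · refine Or.inr ?_
    have := isUnit_germRing v (1 - r) (by rwa [map_sub, map_one])
    have e := map_sub ((pt x).toPresheafFiber V v O.obj).hom 1 r
    rw [map_one] at e
    exact e ▸ this

theorem exists_basis_retract (hO : ∀ x : X, IsLocalRing (O.presheaf.stalk x))
    (hH : ∀ x : X, ∃ (U : Opens X) (n : ℕ), x ∈ U ∧
      Nonempty ((ModSite.restr O U).obj H ≅ SheafOfModules.free (ULift.{u} (Fin n))))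
    (i : F ⟶ H) (p : H ⟶ F) (hip : i ≫ p = 𝟙 F) (x : X) :
    ∃ (U : Opens X) (n : ℕ), x ∈ U ∧
      Nonempty ((ModSite.restr O U).obj F ≅ SheafOfModules.free (ULift.{u} (Fin n))) := by
  haveI : SheafOfModules.IsFinitePresentation (R := ModSite.ringSh O) F := isFinitePresentation_of_covd fun V => by
    obtain ⟨S, hS, h⟩ := exists_cover_le (V := V)
      (fun U => ∃ n : ℕ, Nonempty ((ModSite.restr O U).obj H ≅ SheafOfModules.free (ULift.{u} (Fin n))))
      fun y _ => by
        obtain ⟨U, n, hy, hθ⟩ := hH y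
        exact ⟨U, hy, n, hθ⟩
    refine ⟨S, hS, fun W l hl => ?_⟩
    obtain ⟨U, hWU, n, ⟨θ⟩⟩ := h l hl
    exact hasPres_retract i p hip ((isBasis_topVal θ).smap (homOfLE hWU))
  haveI := isLocalRing_stalkRing (hO x)
  obtain ⟨U, n, hx, ⟨θ⟩⟩ := hH x
  let b := Module.Basis.mk (linearIndependent_germs θ hx) (span_germs (isBasis_topVal θ) hx).ge
  haveI : Module.Projective (ModSite.stalkRing (pt x) O) (ModSite.stalkMod (pt x) H) := Module.Projective.of_basis b
  haveI : Module.Finite (ModSite.stalkRing (pt x) O) (ModSite.stalkMod (pt x) H) := Module.Finite.of_basis b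
  have hsplit : (ModSite.stalkMap (pt x) p).hom ∘ₗ (ModSite.stalkMap (pt x) i).hom = LinearMap.id := by
    refine LinearMap.ext fun z => ?_
    obtain ⟨Y, y, s, rfl⟩ := (pt x).toPresheafFiber_jointly_surjective (P := (ModSite.toAb F).obj) z
    refine (congrArg (ModSite.stalkMap (pt x) p).hom (stalkMap_germ i x y s)).trans ?_
    exact (stalkMap_germ p x y _).trans
      (congrArg (ModSite.germ (pt x) F Y y) (congrArg (fun q : F ⟶ F => q.val.app (op Y) s) hip))
  haveI : Module.Projective (ModSite.stalkRing (pt x) O) (ModSite.stalkMod (pt x) F) :=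
    Module.Projective.of_split _ _ hsplit
  haveI : Module.Finite (ModSite.stalkRing (pt x) O) (ModSite.stalkMod (pt x) F) :=
    Module.Finite.of_surjective (ModSite.stalkMap (pt x) p).hom fun z => ⟨_, LinearMap.congr_fun hsplit z⟩
  haveI : Module.Free (ModSite.stalkRing (pt x) O) (ModSite.stalkMod (pt x) F) := Module.free_of_flat_of_isLocalRing
  obtain ⟨W, hW, e, he⟩ := exists_basis_of_germs x
    ((Module.finBasis (ModSite.stalkRing (pt x) O) (ModSite.stalkMod (pt x) F)).reindex Equiv.ulift.{u}.symm)
  exact ⟨W, _, hW, nonempty_iso_of_isBasis he⟩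

end Groth.Agent.ModFlat16
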